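import Cfsg.Agent.Lib.Coprime.PGroup
import Cfsg.Agent.Lib.Coprime.Action
import Mathlib

/-!
# Orbit sums of a coprime automorphism

Let `X` be a group of automorphisms of an abelian group `V`, `a` an automorphism of prime order normalising `X`,
and `K`, `L` subgroups of `V` such that every translate of `L` under `X` contains either the moved part of `a`
or `K`. If `δ` maps the fixed points of `a` into `K` and commutes with enough orbit sums, then `δ` maps `V`
into `L`: expand the product of the orbit sums of `g` and `g⁻¹`.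
-/

set_option autoImplicit false
set_option linter.unusedSectionVars false
set_option linter.style.haveILetI false

namespace Cfsg.Agent.TwoLoss

open Finset Subgroup
open scoped commutatorElement

universe u

variable {V : Type u} [AddCommGroup V]

/-- The automorphisms of an abelian group, with composition as product. -/
abbrev Aut (V : Type u) [AddCommGroup V] : Type u := V ≃ₗ[ℤ] V

instance finite_aut [Finite V] : Finite (Aut V) :=
  Finite.of_injective (fun g : Aut V => (g : V → V)) DFunLike.coe_injective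

theorem aut_mul (g h : Aut V) (v : V) : (g * h) v = g (h v) := rfl

theorem aut_inv_apply (g : Aut V) (v : V) : g (g⁻¹ v) = v := by
  rw [← aut_mul, mul_inv_cancel]; rfl

theorem aut_apply_inv (g : Aut V) (v : V) : g⁻¹ (g v) = v := by
  rw [← aut_mul, inv_mul_cancel]; rfl

/-- `h` carries the moved part of `a` outside `L`. -/
def Moves (a : Aut V) (L : AddSubgroup V) (h : Aut V) : Prop := ¬ ∀ v, h (a v) - h v ∈ L

/-- The orbit sum of `h` under `A`. -/
noncomputable def orbitSum (A : Subgroup (Aut V)) [Fintype A] (h : Aut V) : V →+ V :=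
  ∑ α : A, ((α : Aut V) * h * (α : Aut V)⁻¹ : Aut V).toAddEquiv.toAddMonoidHom

theorem orbitSum_apply (A : Subgroup (Aut V)) [Fintype A] (h : Aut V) (v : V) :
    orbitSum A h v = ∑ α : A, ((α : Aut V) * h * (α : Aut V)⁻¹) v := by
  simp [orbitSum]

theorem fixed_pow {a : Aut V} {v : V} (hv : a v = v) : ∀ n : ℕ, (a ^ n) v = v
  | 0 => rfl
  | n + 1 => by rw [pow_succ, aut_mul, hv, fixed_pow hv n]

variable {a : Aut V} {r : ℕ} {K L : AddSubgroup V}

/-- Modulo `L`, the powers of `a` are trivial on arguments. -/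
theorem moves_not {h : Aut V} (hh : ∀ v, h (a v) - h v ∈ L) : ∀ (n : ℕ) (v : V), h ((a ^ n) v) - h v ∈ L
  | 0, v => by simp
  | n + 1, v => by
    have h1 := hh ((a ^ n) v)
    have h2 := moves_not hh n v
    rw [pow_succ', aut_mul]
    have := add_mem h1 h2
    simpa using this

/-- The basic vanishing: an orbit sum of a moved element sends `δ` into `L`. -/
theorem orbitSum_mem (A : Subgroup (Aut V)) [Fintype A] (haA : a ∈ A) (har : a ^ r = 1)
    (hLa : ∀ v, a v - v ∈ L) (hr : ∀ x : V, r • x ∈ L → x ∈ L)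
    {δ : V →+ V} (hδa : ∀ v, δ (a v) = a (δ v)) (hK : ∀ v, a v = v → δ v ∈ K) {h : Aut V}
    (hhK : ∀ α ∈ A, ∀ u ∈ K, (α * h * α⁻¹) u ∈ L) (x : V) : orbitSum A h (δ x) ∈ L := by
  classical
  refine hr _ ?_
  set N : V := ∑ s ∈ range r, (a⁻¹ ^ s) x with hN
  have hNfix : a N = N := by
    have hinv : a⁻¹ N = N := by
      rw [hN, map_sum]
      have e : ∀ s, a⁻¹ ((a⁻¹ ^ s) x) = (a⁻¹ ^ (s + 1)) x := fun s => by rw [pow_succ', aut_mul]
      simp only [e]
      have h1 := sum_range_succ' (fun s => (a⁻¹ ^ s) x) r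
      rw [sum_range_succ (fun s => (a⁻¹ ^ s) x) r, inv_pow a r, har, inv_one, pow_zero] at h1
      exact (add_right_cancel h1).symm
    conv_lhs => rw [← hinv]
    exact aut_inv_apply a N
  have hzero : ∑ α : A, ((α : Aut V) * h * (α : Aut V)⁻¹) (δ N) ∈ L :=
    sum_mem fun α _ => hhK α α.2 _ (hK N hNfix)
  have hδpow : ∀ (s : ℕ) (v : V), δ ((a⁻¹ ^ s) v) = (a⁻¹ ^ s) (δ v) := by
    intro s
    induction s with
    | zero => intro v; rfl
    | succ s ih =>
      intro v
      have h1 : δ (a⁻¹ ((a⁻¹ ^ s) v)) = a⁻¹ (δ ((a⁻¹ ^ s) v)) := by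
        conv_rhs => rw [← aut_inv_apply a ((a⁻¹ ^ s) v), hδa]
        rw [aut_apply_inv]
      rw [pow_succ', aut_mul, h1, ih v]
      rfl
  -- replace `α` by `a ^ s * α`
  have hshift : ∀ s : ℕ, ∑ α : A, ((α : Aut V) * h * (α : Aut V)⁻¹) ((a⁻¹ ^ s) (δ x)) -
      orbitSum A h (δ x) ∈ L := by
    intro s
    have hs : a ^ s ∈ A := pow_mem haA s
    have e : orbitSum A h (δ x) =
        ∑ α : A, (a ^ s) (((α : Aut V) * h * (α : Aut V)⁻¹) ((a⁻¹ ^ s) (δ x))) := by
      rw [orbitSum_apply]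
      refine (Fintype.sum_equiv (Equiv.mulLeft (⟨a ^ s, hs⟩ : A)) _ _ fun α => ?_).symm
      simp only [Equiv.coe_mulLeft, Subgroup.coe_mul, mul_inv_rev, ← inv_pow, aut_mul]
    rw [e, ← sum_sub_distrib]
    refine sum_mem fun α _ => ?_
    have := neg_mem (moves_not (h := 1) hLa s (((α : Aut V) * h * (α : Aut V)⁻¹) ((a⁻¹ ^ s) (δ x))))
    rw [neg_sub] at this
    exact this
  have h2 : ∑ s ∈ range r, ∑ α : A, ((α : Aut V) * h * (α : Aut V)⁻¹) ((a⁻¹ ^ s) (δ x)) =
      ∑ α : A, ((α : Aut V) * h * (α : Aut V)⁻¹) (δ N) := by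
    rw [sum_comm]
    refine sum_congr rfl fun α _ => ?_
    rw [hN, map_sum δ, map_sum]
    exact sum_congr rfl fun s _ => by rw [hδpow]
  have h3 : ∑ s ∈ range r, (∑ α : A, ((α : Aut V) * h * (α : Aut V)⁻¹) ((a⁻¹ ^ s) (δ x)) -
      orbitSum A h (δ x)) ∈ L := sum_mem fun s _ => hshift s
  rw [sum_sub_distrib, h2, sum_const, card_range] at h3
  have := sub_mem hzero h3
  simpa using this

/-- The identity between orbit sums. -/
theorem orbitSum_mul (A : Subgroup (Aut V)) [Fintype A] (g : Aut V) (x : V) :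
    orbitSum A g (orbitSum A g⁻¹ x) =
      ∑ γ : A, orbitSum A (g * ((γ : Aut V) * g⁻¹ * (γ : Aut V)⁻¹)) x := by
  simp only [orbitSum_apply, map_sum]
  rw [sum_comm]
  conv_rhs => rw [sum_comm]
  refine sum_congr rfl fun α _ => ?_
  refine Fintype.sum_equiv (Equiv.mulLeft α⁻¹) _ _ fun β => ?_
  rw [← aut_mul]
  congr 1
  simp only [Equiv.coe_mulLeft, Subgroup.coe_mul, Subgroup.coe_inv]
  group

/-- **The averaging lemma.** -/
theorem average (A : Subgroup (Aut V)) [Fintype A] (haA : a ∈ A) (har : a ^ r = 1)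
    (hLa : ∀ v, a v - v ∈ L) (hr : ∀ x : V, r • x ∈ L → x ∈ L)
    {δ : V →+ V} (hδa : ∀ v, δ (a v) = a (δ v)) (hK : ∀ v, a v = v → δ v ∈ K) {g : Aut V}
    (hδg : ∀ γ ∈ A, ∀ v, δ (orbitSum A (g * (γ * g⁻¹ * γ⁻¹)) v) = orbitSum A (g * (γ * g⁻¹ * γ⁻¹)) (δ v))
    (hδg' : ∀ v, δ (orbitSum A g v) = orbitSum A g (δ v))
    (hg : ∀ α ∈ A, ∀ u ∈ K, (α * g * α⁻¹) u ∈ L)
    (hh : ∀ γ ∈ A, γ ≠ 1 → ∀ α ∈ A, ∀ u ∈ K, (α * (g * (γ * g⁻¹ * γ⁻¹)) * α⁻¹) u ∈ L) (x : V) :
    Fintype.card A • δ x ∈ L := by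
  classical
  have h1 : δ (orbitSum A g (orbitSum A g⁻¹ x)) ∈ L := by
    rw [hδg']
    exact orbitSum_mem A haA har hLa hr hδa hK hg _
  rw [orbitSum_mul, map_sum, ← Finset.add_sum_erase univ _ (mem_univ (1 : A))] at h1
  have h2 : ∑ γ ∈ univ.erase (1 : A),
      δ (orbitSum A (g * ((γ : Aut V) * g⁻¹ * (γ : Aut V)⁻¹)) x) ∈ L := sum_mem fun γ hγ => by
    rw [hδg γ γ.2]
    exact orbitSum_mem A haA har hLa hr hδa hK (fun α hα => hh γ γ.2 (fun e => (mem_erase.1 hγ).1
      (Subtype.ext e)) α hα) _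
  have h3 := sub_mem h1 h2
  rw [add_sub_cancel_right] at h3
  simpa [orbitSum_apply] using h3

theorem orbitSum_comm (A : Subgroup (Aut V)) [Fintype A] {δ : V →+ V} {h : Aut V}
    (hA : ∀ α ∈ A, ∀ v, δ (α v) = α (δ v)) (hh : ∀ v, δ (h v) = h (δ v)) (v : V) :
    δ (orbitSum A h v) = orbitSum A h (δ v) := by
  simp only [orbitSum_apply, map_sum, aut_mul]
  refine sum_congr rfl fun α _ => ?_
  rw [hA α α.2, hh, hA _ (inv_mem α.2)]

/-- The elements fixing every class modulo `L`. -/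
def fixMod (X : Subgroup (Aut V)) (L : AddSubgroup V) : Subgroup (Aut V) where
  carrier := {x | x ∈ X ∧ ∀ v, x v - v ∈ L}
  one_mem' := ⟨one_mem X, fun v => by simp⟩
  mul_mem' := fun {x y} hx hy => ⟨mul_mem hx.1 hy.1, fun v => by
    have := add_mem (hx.2 (y v)) (hy.2 v)
    simpa [aut_mul] using this⟩
  inv_mem' := fun {x} hx => ⟨inv_mem hx.1, fun v => by
    have := neg_mem (hx.2 (x⁻¹ v))
    rwa [aut_inv_apply, neg_sub] at this⟩

/-- The fixed points of `a` in `X` lie in the derived subgroup, if `X = ⁅X, a⁆`. -/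
theorem fixed_le_derived [Finite V] {X : Subgroup (Aut V)} (hr : r.Prime) (har : a ^ r = 1)
    (haX : a ∈ normalizer (X : Set (Aut V))) (hcop : (Nat.card X).Coprime r)
    (hgen : ⁅X, zpowers a⁆ = X) : X ⊓ centralizer ({a} : Set (Aut V)) ≤ ⁅X, X⁆ := by
  classical
  have hconj : ∀ (i : ℕ) (x : X), a ^ i * (x : Aut V) * (a ^ i)⁻¹ ∈ X := fun i x =>
    (mem_normalizer_iff.1 (pow_mem haX i) _).1 x.2
  let c : ℕ → X →* X := fun i => MonoidHom.mk' (fun x => ⟨_, hconj i x⟩) fun x y => Subtype.ext <| by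
    show a ^ i * ((x : Aut V) * y) * (a ^ i)⁻¹ = _ * (a ^ i * (y : Aut V) * (a ^ i)⁻¹)
    group
  let θ : X →* Abelianization X := ∏ i ∈ range r, Abelianization.of.comp (c i)
  have hθ : ∀ x, θ x = ∏ i ∈ range r, Abelianization.of (c i x) := fun x => by simp [θ]
  have hinv : ∀ x : X, θ (c 1 x) = θ x := by
    intro x
    rw [hθ, hθ]
    have h1 : ∀ i, c i (c 1 x) = c (i + 1) x := fun i => Subtype.ext <| by
      show a ^ i * (a ^ 1 * (x : Aut V) * (a ^ 1)⁻¹) * (a ^ i)⁻¹ = a ^ (i + 1) * x * (a ^ (i + 1))⁻¹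
      rw [pow_succ]; group
    simp only [h1]
    have h2 := prod_range_succ' (fun i => Abelianization.of (c i x)) r
    rw [prod_range_succ (fun i => Abelianization.of (c i x)) r] at h2
    have h3 : c r x = c 0 x := Subtype.ext <| by
      show a ^ r * (x : Aut V) * (a ^ r)⁻¹ = a ^ 0 * (x : Aut V) * (a ^ 0)⁻¹
      rw [har, pow_zero]
    rw [h3] at h2
    exact (mul_right_cancel h2).symm
  have htriv : ∀ x : X, θ x = 1 := by
    intro x
    let S : Subgroup (Aut V) := θ.ker.map X.subtype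
    suffices hS : X ≤ S by
      obtain ⟨y, hy, e⟩ := hS x.2
      rwa [← Subtype.ext e]
    conv_lhs => rw [← hgen]
    rw [commutator_le]
    intro y hy b hb
    obtain ⟨i, hib⟩ := mem_powers_iff_mem_zpowers.mpr hb
    subst hib
    have hci : ∀ j : ℕ, ∀ z : X, θ (c j z) = θ z := by
      intro j
      induction j with
      | zero => intro z; congr 1
      | succ j ih =>
        intro z
        have e : c (j + 1) z = c 1 (c j z) := Subtype.ext <| by
          show a ^ (j + 1) * (z : Aut V) * (a ^ (j + 1))⁻¹ =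
            a ^ 1 * (a ^ j * (z : Aut V) * (a ^ j)⁻¹) * (a ^ 1)⁻¹
          rw [pow_succ']; group
        rw [e, hinv, ih]
    refine ⟨⟨y, hy⟩ * (c i ⟨y, hy⟩)⁻¹, ?_, ?_⟩
    · rw [SetLike.mem_coe, MonoidHom.mem_ker, map_mul, map_inv, hci, mul_inv_cancel]
    · show y * (a ^ i * y * (a ^ i)⁻¹)⁻¹ = ⁅y, a ^ i⁆
      rw [commutatorElement_def]; group
  intro x hx
  have hxc : ∀ i, c i ⟨x, hx.1⟩ = ⟨x, hx.1⟩ := fun i => Subtype.ext <| by
    show a ^ i * x * (a ^ i)⁻¹ = x
    have : Commute a x := mem_centralizer_iff.1 hx.2 a rfl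
    rw [(this.pow_left i).eq, mul_inv_cancel_right]
  have h1 := htriv ⟨x, hx.1⟩
  rw [hθ] at h1
  simp only [hxc, prod_const, card_range] at h1
  have h2 : Abelianization.of (⟨x, hx.1⟩ : X) = 1 :=
    (powCoprime ((hcop.coprime_dvd_left (Subgroup.card_quotient_dvd_card _)))).injective
      (h1.trans (one_pow _).symm)
  rw [← map_subtype_commutator]
  refine ⟨⟨x, hx.1⟩, ?_, rfl⟩
  rw [← Abelianization.ker_of]
  exact h2

/-- **Fixed points of `a` moved by a commuting endomorphism.** -/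
theorem delta_mem [Finite V] {X : Subgroup (Aut V)} [Group.IsNilpotent X] (hr : r.Prime)
    (har : a ^ r = 1) (haX : a ∈ normalizer (X : Set (Aut V))) (hcop : (Nat.card X).Coprime r)
    (hgen : ⁅X, zpowers a⁆ = X) (hrL : ∀ x : V, r • x ∈ L → x ∈ L)
    {δ : V →+ V} (hδX : ∀ x ∈ X, ∀ v, δ (x v) = x (δ v)) (hδa : ∀ v, δ (a v) = a (δ v))
    (hK : ∀ v, a v = v → δ v ∈ K)
    (hL : ∀ g ∈ X, (∀ v, g (a v) - g v ∈ L) ∨ ∀ u ∈ K, g u ∈ L) (v : V) (hv : a v = v)
    (hvX : v ∈ AddSubgroup.closure {w | ∃ x ∈ X, ∃ y, x y - y = w}) : δ v ∈ L := by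
  classical
  rcases hL 1 (one_mem X) with hLa | hKL
  swap
  · exact hKL _ (hK v hv)
  set S := fixMod X L with hS
  by_cases hSX : X ≤ S
  · -- `⁅V, X⁆ ≤ L`
    have hle : AddSubgroup.closure {w | ∃ x ∈ X, ∃ y, x y - y = w} ≤ L.comap δ := by
      rw [AddSubgroup.closure_le]
      rintro w ⟨x, hx, y, rfl⟩
      show δ (x y - y) ∈ L
      rw [map_sub, hδX x hx]
      exact (hSX hx).2 _
    exact hle hvX
  have hconj : ∀ x ∈ X, a * x * a⁻¹ ∈ X := fun x hx => (mem_normalizer_iff.1 haX x).1 hx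
  have hLn : ∀ n : ℕ, ∀ w ∈ L, (a ^ n) w ∈ L := fun n w hw => by
    have := add_mem (moves_not (h := 1) hLa n w) hw
    simpa using this
  have hLinv : ∀ w ∈ L, a⁻¹ w ∈ L := fun w hw => by
    have e : a⁻¹ = a ^ (r - 1) := inv_eq_of_mul_eq_one_right (by
      rw [← pow_succ', Nat.sub_add_cancel hr.one_le, har])
    rw [e]; exact hLn _ w hw
  set A : Subgroup (Aut V) := zpowers a with hA
  have hAS : A ≤ normalizer (S : Set (Aut V)) := by
    rw [hA, zpowers_le]
    have hfwd : ∀ x ∈ S, a * x * a⁻¹ ∈ S := fun x hx => ⟨hconj x hx.1, fun w => by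
      have := hLn 1 _ (hx.2 (a⁻¹ w))
      simpa [map_sub, aut_mul, aut_inv_apply] using this⟩
    exact mem_normalizer_iff_map_conj_eq.2 (eq_of_le_of_card_ge
      (by rintro _ ⟨x, hx, rfl⟩; exact hfwd x hx)
      (card_map_of_injective (MulAut.conj a).injective).ge)
  have hAX : A ≤ normalizer (X : Set (Aut V)) := by rw [hA, zpowers_le]; exact haX
  have hAC : A ≤ normalizer ((X ⊓ centralizer (A : Set (Aut V)) : Subgroup (Aut V)) : Set (Aut V)) :=
    Coprime.le_normalizer_sup_inf_centralizer hAX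
  have hcA : (Nat.card A).Coprime (Nat.card X) := by
    rw [hA, Nat.card_zpowers]
    exact hcop.symm.coprime_dvd_left (orderOf_dvd_of_pow_eq_one har)
  set M := S ⊔ (X ⊓ centralizer (A : Set (Aut V))) ⊔ ⁅X, X⁆ with hM
  have hSX' : S ≤ X := fun x hx => hx.1
  have hXX : ⁅X, X⁆ ≤ X := commutator_le_self X
  have hMX : M ≤ X := sup_le (sup_le hSX' inf_le_left) hXX
  have hCle : X ⊓ centralizer (A : Set (Aut V)) ≤ ⁅X, X⁆ := by
    refine le_trans (inf_le_inf_left X ?_) (fixed_le_derived hr har haX hcop hgen)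
    exact centralizer_le (by simp [hA, mem_zpowers a])
  have hMne : M ≠ X := fun e => hSX <| by
    refine (Coprime.eq_of_le_of_sup_commutator_eq hSX' ?_).ge
    refine le_antisymm (sup_le hSX' hXX) ?_
    conv_lhs => rw [← e, hM]
    exact sup_le (sup_le le_sup_left (hCle.trans le_sup_right)) le_sup_right
  obtain ⟨g, hg, hgM⟩ : ∃ g ∈ X, g ∉ M := SetLike.not_le_iff_exists.1 fun h => hMne (le_antisymm hMX h)
  have hAM : A ≤ normalizer (M : Set (Aut V)) := by
    have h1 : A ≤ normalizer ((⁅X, X⁆ : Subgroup (Aut V)) : Set (Aut V)) := fun b hb => by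
      rw [← Coprime.conj_smul_eq_self_iff, Coprime.conj_smul_commutator,
        Coprime.conj_smul_eq_self_iff.2 (hAX hb)]
    exact le_trans (le_inf (le_trans (le_inf hAS hAC) (normalizer_inf_normalizer_le_normalizer_sup _ _)) h1)
      (normalizer_inf_normalizer_le_normalizer_sup _ _)
  have hXM : X ≤ normalizer (M : Set (Aut V)) := le_normalizer_iff.2 fun x hx m hm => by
    rw [show x * m * x⁻¹ = ⁅x, m⁆ * m by rw [commutatorElement_def]; group]
    exact mul_mem (mem_sup_right (commutator_mem_commutator hx (hMX hm))) hm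
  -- elements outside `M` move the part
  have hmoves : ∀ h ∈ X, h ∉ M → ∀ u ∈ K, h u ∈ L := by
    intro h hh hhM
    refine (hL h hh).resolve_left fun hmv => hhM ?_
    obtain ⟨s, hs, hsC⟩ := Coprime.exists_fixed_in_coset (A := A) (N := S) (k := h⁻¹) hAS
      (hcA.coprime_dvd_right (card_dvd_of_le hSX'))
      (Or.inl (Coprime.isSolvable_of_isMulCommutative A)) (fun b hb => by
        obtain ⟨n, rfl⟩ := mem_powers_iff_mem_zpowers.mpr hb
        have hn : a ^ n ∈ A := hb
        have hy : a ^ n * h * (a ^ n)⁻¹ ∈ X := (mem_normalizer_iff.1 (pow_mem haX n) h).1 hh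
        have hy' : a ^ n * h * (a ^ n)⁻¹ * h⁻¹ ∈ S := ⟨mul_mem hy (inv_mem hh), fun w => by
          set u := (a ^ n)⁻¹ (h⁻¹ w) with hu
          have h2 : (a ^ n) (h u) - h u ∈ L := by
            have := moves_not (h := 1) hLa n (h u)
            exact this
          have h1 : h u - h (h⁻¹ w) ∈ L := by
            have := neg_mem (moves_not hmv n u)
            rwa [neg_sub, hu, aut_inv_apply] at this
          have h3 := add_mem h2 h1
          rw [sub_add_sub_cancel, aut_inv_apply] at h3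
          simpa only [aut_mul] using h3⟩
        have := inv_mem hy'
        convert this using 1
        group)
    rw [show h = s * (h⁻¹ * s)⁻¹ by group]
    have h9 : h⁻¹ * s ∈ X ⊓ centralizer (A : Set (Aut V)) :=
      Subgroup.mem_inf.2 ⟨mul_mem (inv_mem hh) (hSX' hs), hsC⟩
    exact mul_mem (mem_sup_left (mem_sup_left hs)) (inv_mem (mem_sup_left (mem_sup_right h9)))
  have ha1 : a ≠ 1 := fun e => hSX <| by
    have : A = ⊥ := by rw [hA, e, zpowers_one_eq_bot]
    rw [← hgen, this, commutator_bot_right]; exact bot_le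
  have hord : orderOf a = r := by
    haveI := Fact.mk hr
    exact orderOf_eq_prime har ha1
  haveI : Fintype A := Fintype.ofFinite A
  have hcard : Fintype.card A = r := by
    rw [← Nat.card_eq_fintype_card, hA, Nat.card_zpowers, hord]
  have haA : a ∈ A := mem_zpowers a
  have hδA : ∀ α ∈ A, ∀ w, δ (α w) = α (δ w) := fun α hα => by
    obtain ⟨n, rfl⟩ := mem_powers_iff_mem_zpowers.mpr hα
    intro w
    show δ ((a ^ n) w) = (a ^ n) (δ w)
    induction n with
    | zero => rfl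
    | succ n ih => rw [pow_succ', aut_mul, hδa, ih (pow_mem haA n), aut_mul]
  have hcj : ∀ γ ∈ A, g * (γ * g⁻¹ * γ⁻¹) ∈ X := fun γ hγ =>
    mul_mem hg ((mem_normalizer_iff.1 (hAX hγ) _).1 (inv_mem hg))
  have hout : ∀ γ ∈ A, γ ≠ 1 → g * (γ * g⁻¹ * γ⁻¹) ∉ M := by
    intro γ hγ hγ1 hmem
    apply hgM
    let D : Subgroup (Aut V) :=
      { carrier := {b | b ∈ A ∧ g * (b * g⁻¹ * b⁻¹) ∈ M}
        one_mem' := ⟨one_mem A, by simp⟩
        mul_mem' := fun {b c} hb hc => ⟨mul_mem hb.1 hc.1, by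
          rw [show g * (b * c * g⁻¹ * (b * c)⁻¹) =
            g * (b * g⁻¹ * b⁻¹) * (b * (g * (c * g⁻¹ * c⁻¹)) * b⁻¹) by group]
          exact mul_mem hb.2 ((mem_normalizer_iff.1 (hAM hb.1) _).1 hc.2)⟩
        inv_mem' := fun {b} hb => ⟨inv_mem hb.1, by
          rw [show g * (b⁻¹ * g⁻¹ * b⁻¹⁻¹) = b⁻¹ * (g * (b * g⁻¹ * b⁻¹))⁻¹ * b⁻¹⁻¹ by group]
          exact (mem_normalizer_iff.1 (hAM (inv_mem hb.1)) _).1 (inv_mem hb.2)⟩ }
    have hDA : D = A := by
      haveI := Fact.mk hr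
      have hdvd : Nat.card D ∣ r := by
        rw [← hord, ← Nat.card_zpowers]
        exact card_dvd_of_le fun b hb => hb.1
      rcases (Nat.dvd_prime hr).1 hdvd with h | h
      · exact absurd (by
          have hmem' : γ ∈ D := ⟨hγ, hmem⟩
          rw [card_eq_one.1 h, mem_bot] at hmem'
          exact hmem') hγ1
      · exact eq_of_le_of_card_ge (fun b hb => hb.1) (by rw [h, hA, Nat.card_zpowers, hord])
    obtain ⟨s, hs, hsC⟩ := Coprime.exists_fixed_in_coset (A := A) (N := M) (k := g⁻¹) hAM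
      (hcA.coprime_dvd_right (card_dvd_of_le hMX))
      (Or.inl (Coprime.isSolvable_of_isMulCommutative A)) (fun b hb => by
        have := (hDA.symm.le hb : b ∈ D).2
        simpa using this)
    rw [show g = s * (g⁻¹ * s)⁻¹ by group]
    have h9 : g⁻¹ * s ∈ X ⊓ centralizer (A : Set (Aut V)) :=
      Subgroup.mem_inf.2 ⟨mul_mem (inv_mem hg) (hMX hs), hsC⟩
    exact mul_mem hs (inv_mem (mem_sup_left (mem_sup_right h9)))
  refine hrL _ (hcard ▸ average A haA har hLa hrL hδa hK (g := g) (fun γ hγ w => ?_) (fun w => ?_) ?_ ?_ v)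
  · exact orbitSum_comm A hδA (hδX _ (hcj γ hγ)) w
  · exact orbitSum_comm A hδA (hδX _ hg) w
  · intro α hα
    exact hmoves _ ((mem_normalizer_iff.1 (hAX hα) g).1 hg) fun h => hgM ((mem_normalizer_iff.1 (hAM hα) g).2 h)
  · intro γ hγ hγ1 α hα
    exact hmoves _ ((mem_normalizer_iff.1 (hAX hα) _).1 (hcj γ hγ))
      fun h => hout γ hγ hγ1 ((mem_normalizer_iff.1 (hAM hα) _).2 h)

end Cfsg.Agent.TwoLoss
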