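import Cfsg.Agent.Lib.TwoLoss.Frame

/-!
# The three facts about frames

If `a` has no fixed point then the frame is exceptional and rigid; a bad free element has order two; an element
of order four cannot be free in the second exceptional dimension.
-/

set_option autoImplicit false
set_option linter.unusedSectionVars false
set_option linter.style.haveILetI false

namespace Cfsg.Agent.TwoLoss

open Subgroup Module
open scoped commutatorElement TensorProduct

universe u

variable {V : Type u} [AddCommGroup V] [Finite V]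

theorem normalizer_of_map {H : Subgroup (Aut V)} {g : Aut V} (h : ∀ x ∈ H, g * x * g⁻¹ ∈ H) :
    g ∈ normalizer (H : Set (Aut V)) :=
  mem_normalizer_iff_map_conj_eq.2 (eq_of_le_of_card_ge (by rintro _ ⟨x, hx, rfl⟩; exact h x hx)
    (card_map_of_injective (MulAut.conj g).injective).ge)

theorem Good.pow {a : Aut V} {W : Subgroup (Aut V)} {y : Aut V} (h : Good a W y) (n : ℕ) : Good a W (y ^ n) :=
  ⟨((show Commute a y from h.comm).pow_right n).eq, pow_mem h.norm n,
    fun z hz hzc => ((show Commute y z from h.centre z hz hzc).pow_left n).eq⟩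

variable {p q r : ℕ} {a : Aut V} {W : Subgroup (Aut V)}

/-- The automorphisms normalising `W` and fixing the generator of its centre. -/
abbrev Stab (W : Subgroup (Aut V)) (z₀ : Aut V) : Subgroup (Aut V) :=
  centralizer ({z₀} : Set (Aut V)) ⊓ normalizer (W : Set (Aut V))

theorem Good.mem_stab {y z₀ : Aut V} (h : Good a W y) (hz : z₀ ∈ W) (hzc : z₀ ∈ centralizer (W : Set (Aut V))) :
    y ∈ Stab W z₀ := by
  refine ⟨mem_centralizer_iff.2 ?_, h.norm⟩
  rintro _ rfl
  exact (h.centre _ hz hzc).symm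

variable [Fact p.Prime] [Module (ZMod p) V]

/-- The eigenspaces of the generator of the centre. -/
noncomputable abbrev Piece (z₀ : Aut V) (ζ : Kbar p) (j : ℕ) : Submodule (Kbar p) (Vbar p V) :=
  espace ((ext p).toHomUnits z₀) ζ j

/-- The action on an eigenspace. -/
noncomputable def resF (W : Subgroup (Aut V)) (z₀ : Aut V) (ζ : Kbar p) (j : ℕ) :
    Stab W z₀ →* Module.End (Kbar p) (Piece z₀ ζ j) where
  toFun g := (ext p (g : Aut V)).restrict fun x (hx : x ∈ Piece z₀ ζ j) => by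
    rw [mem_espace] at hx ⊢
    show ext p z₀ (ext p (g : Aut V) x) = _
    rw [← Module.End.mul_apply, ← map_mul, mem_centralizer_iff.1 g.2.1 z₀ rfl, map_mul, Module.End.mul_apply,
      show ext p z₀ x = ζ ^ j • x from hx, map_smul]
  map_one' := LinearMap.ext fun x => Subtype.ext (by simp)
  map_mul' g h := LinearMap.ext fun x => Subtype.ext (by simp)

theorem resF_apply (W : Subgroup (Aut V)) (z₀ : Aut V) (ζ : Kbar p) (j : ℕ) (g : Stab W z₀) (x : Piece z₀ ζ j) :
    ((resF W z₀ ζ j g x : Piece z₀ ζ j) : Vbar p V) = ext p (g : Aut V) x := rfl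

/-- A generator of the centre with a primitive root of unity of its order. -/
structure Gen (p : ℕ) [Fact p.Prime] (W : Subgroup (Aut V)) (z₀ : Aut V) (ζ : Kbar p) : Prop where
  mem : z₀ ∈ W
  cent : z₀ ∈ centralizer (W : Set (Aut V))
  gen : ∀ z ∈ W, z ∈ centralizer (W : Set (Aut V)) → z ∈ zpowers z₀
  root : IsPrimitiveRoot ζ (orderOf z₀)

theorem Gen.le_stab {z₀ : Aut V} {ζ : Kbar p} (g : Gen p W z₀ ζ) : W ≤ Stab W z₀ := fun w hw =>
  ⟨mem_centralizer_iff.2 fun _ hx => by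
    rw [Set.mem_singleton_iff.1 hx]; exact (mem_centralizer_iff.1 g.cent w hw).symm, le_normalizer hw⟩

/-- The representation of `W` on a piece. -/
noncomputable def pieceRep {z₀ : Aut V} {ζ : Kbar p} (g : Gen p W z₀ ζ) (j : ℕ) :
    W →* Module.End (Kbar p) (Piece z₀ ζ j) :=
  (resF W z₀ ζ j).comp (Subgroup.inclusion g.le_stab)

namespace Frame

set_option maxHeartbeats 1000000

theorem cast_ne (h : Frame p q r a W) {n : ℕ} (hn : ∃ e, n = q ^ e) : (n : Kbar p) ≠ 0 := by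
  obtain ⟨e, rfl⟩ := hn
  rw [ne_eq, CharP.cast_eq_zero_iff (Kbar p) p]
  intro hd
  exact h.qp ((Nat.prime_dvd_prime_iff_eq h.hp h.hq).1 (h.hp.dvd_of_dvd_pow hd)).symm

theorem r_ne (h : Frame p q r a W) : (r : Kbar p) ≠ 0 := by
  rw [ne_eq, CharP.cast_eq_zero_iff (Kbar p) p]
  intro hd
  exact h.rp ((Nat.prime_dvd_prime_iff_eq h.hp h.hr).1 hd).symm

theorem exists_gen (h : Frame p q r a W) : ∃ z₀ ζ, Gen p W z₀ ζ := by
  haveI := Fact.mk h.hq
  obtain ⟨z₀, hz, hzc, hgen⟩ := h.cyclic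
  obtain ⟨e, he⟩ := IsPGroup.iff_orderOf.1 h.pgroup ⟨z₀, hz⟩
  rw [orderOf_mk] at he
  haveI : NeZero ((orderOf z₀ : ℕ) : Kbar p) := ⟨h.cast_ne ⟨e, he⟩⟩
  haveI : NeZero (orderOf z₀) := ⟨(orderOf_pos z₀).ne'⟩
  obtain ⟨ζ, hζ⟩ := HasEnoughRootsOfUnity.exists_primitiveRoot (Kbar p) (orderOf z₀)
  exact ⟨z₀, ζ, hz, hzc, hgen, hζ⟩

theorem unit_pow (z₀ : Aut V) :
    ((ext p).toHomUnits z₀ : (Module.End (Kbar p) (Vbar p V))ˣ) ^ orderOf z₀ = 1 := by
  rw [← map_pow, pow_orderOf_eq_one, map_one]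

variable {z₀ : Aut V} {ζ : Kbar p}

theorem exists_piece (h : Frame p q r a W) (g : Gen p W z₀ ζ) :
    ∃ j, Nontrivial (Piece z₀ ζ j) := by
  classical
  haveI := h.nt
  obtain ⟨x, hx⟩ := exists_ne (0 : V)
  by_contra hne
  push Not at hne
  have hv : (1 : Kbar p) ⊗ₜ[ZMod p] x = 0 := by
    have := LinearMap.congr_fun (eproj_sum g.root (orderOf_pos z₀) ((ext p).toHomUnits z₀))
      ((1 : Kbar p) ⊗ₜ[ZMod p] x)
    rw [LinearMap.sum_apply, Module.End.one_apply] at this
    rw [← this]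
    refine Finset.sum_eq_zero fun j _ => ?_
    have hmem := eproj_range g.root (orderOf_pos z₀) (unit_pow z₀) j ((1 : Kbar p) ⊗ₜ[ZMod p] x)
    have hs := hne j
    exact congrArg Subtype.val (Subsingleton.elim (⟨_, hmem⟩ : Piece z₀ ζ j) 0)
  have hex : ∃ φ : V →ₗ[ZMod p] ZMod p, φ x = 1 := Module.Projective.exists_dual_eq_one (ZMod p) hx
  obtain ⟨φ, hφ⟩ := hex
  have := extFun_one p φ.toAddMonoidHom x
  rw [hv, map_zero, show φ.toAddMonoidHom x = 1 from hφ, map_one] at this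
  exact zero_ne_one this

theorem classTwo (h : Frame p q r a W) (g : Gen p W z₀ ζ) (j : ℕ) [Nontrivial (Piece z₀ ζ j)] :
    ClassTwoRep (F := Piece z₀ ζ j) (pieceRep g j) (toLab W) := by
  refine ⟨toLab_mul W, toLab_surjective W, fun w => toLab_eq_zero W h.class2' w, fun z hz => ?_, fun z hz h1 => ?_,
    ?_, inferInstance⟩
  · have hmem := g.gen z z.2 ((mem_center_iff' z).1 hz)
    obtain ⟨n, hn⟩ := (isOfFinOrder_of_finite z₀).mem_powers_iff_mem_zpowers.2 hmem
    refine ⟨(ζ ^ j) ^ n, LinearMap.ext fun x => Subtype.ext ?_⟩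
    show ext p (z : Aut V) x = (ζ ^ j) ^ n • (x : Vbar p V)
    rw [← show z₀ ^ n = (z : Aut V) from hn, map_pow]
    have hx : ext p z₀ (x : Vbar p V) = ζ ^ j • (x : Vbar p V) := mem_espace.1 x.2
    clear hn
    induction n with
    | zero => simp
    | succ n ih => rw [pow_succ' (ext p z₀), Module.End.mul_apply, ih, map_smul, hx, smul_smul, ← pow_succ]
  · by_contra hne
    obtain ⟨x, hx⟩ := exists_ne (0 : Piece z₀ ζ j)
    refine hx (Subtype.ext (ext_fpf p (z : Aut V) (h.semis z z.2 ((mem_center_iff' z).1 hz)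
      fun e => hne (Subtype.ext e)) x ?_))
    exact congrArg Subtype.val (LinearMap.congr_fun h1 x)
  · haveI := Fact.mk h.hq
    obtain ⟨e, he⟩ := IsPGroup.iff_card.1 h.pgroup
    exact h.cast_ne ⟨e, he⟩

/-- A lift of `y`. -/
theorem exists_lift_of (h : Frame p q r a W) (g : Gen p W z₀ ζ) {j : ℕ}
    (K : Comp (F := Piece z₀ ζ j) (pieceRep g j) (toLab W)) [Nontrivial (Fin K.n → Kbar p)] {y : Aut V} (hy : Good a W y) {n : ℕ}
    (hn : 0 < n) (hyn : ∀ w ∈ W, y ^ n * w = w * y ^ n) :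
    ∃ u, K.Lifts ((resF W z₀ ζ j).toHomUnits ⟨y, hy.mem_stab g.mem g.cent⟩) (labHom W ⟨y, hy.norm⟩) u ∧
      u ^ n = 1 := by
  refine K.exists_lift (toLab_surjective W) _ (fun w => ?_) hn fun w => ?_
  · refine ⟨⟨y * w * y⁻¹, (mem_normalizer_iff.1 hy.norm w).1 w.2⟩, ?_, (labHom_apply W ⟨y, hy.norm⟩ w).symm⟩
    show resF W z₀ ζ j _ * resF W z₀ ζ j _ = resF W z₀ ζ j _ * resF W z₀ ζ j _
    rw [← map_mul, ← map_mul]
    refine congrArg _ (Subtype.ext ?_)
    show y * (w : Aut V) = y * w * y⁻¹ * y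
    rw [inv_mul_cancel_right]
  · rw [← map_pow]
    show Commute (resF W z₀ ζ j _) (resF W z₀ ζ j _)
    rw [commute_iff_eq, ← map_mul, ← map_mul]
    exact congrArg _ (Subtype.ext (hyn w w.2))

theorem n_pos (h : Frame p q r a W) (g : Gen p W z₀ ζ) {j : ℕ} [Nontrivial (Piece z₀ ζ j)]
    (K : Comp (F := Piece z₀ ζ j) (pieceRep g j) (toLab W)) : Nontrivial (Fin K.n → Kbar p) := by
  by_contra hne
  rw [not_nontrivial_iff_subsingleton] at hne
  have : K.φ 1 = K.φ 0 := congrArg K.φ (Subsingleton.elim _ _)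
  rw [map_one, map_zero] at this
  exact one_ne_zero this

theorem card_lab (h : Frame p q r a W) (g : Gen p W z₀ ζ) {j : ℕ} (K : Comp (F := Piece z₀ ζ j) (pieceRep g j) (toLab W)) :
    Nat.card (Lab W) = K.n ^ 2 := by
  haveI := Fintype.ofFinite (Lab W)
  rw [Nat.card_eq_fintype_card, ← K.weyl.card_eq, Module.finrank_fin_fun]

/-- The pair of lifts of `a` and a free element. -/
theorem exists_pair (h : Frame p q r a W) (g : Gen p W z₀ ζ) {j : ℕ}
    (K : Comp (F := Piece z₀ ζ j) (pieceRep g j) (toLab W)) [Nontrivial (Fin K.n → Kbar p)] {ω : Kbar p}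
    (hω : IsPrimitiveRoot ω r) {y : Aut V} (hy : Good a W y) {d : ℕ} (hd : FreeOn W y d) (hd0 : 0 < d)
    (hrd : r.Coprime d) :
    ∃ u w, K.Lifts ((resF W z₀ ζ j).toHomUnits ⟨a, h.goodA.mem_stab g.mem g.cent⟩) (labHom W ⟨a, h.norm⟩) u ∧
      K.Lifts ((resF W z₀ ζ j).toHomUnits ⟨y, hy.mem_stab g.mem g.cent⟩) (labHom W ⟨y, hy.norm⟩) w ∧
      FreePair K.ρ r d ω u w (labHom W ⟨a, h.norm⟩) (labHom W ⟨y, hy.norm⟩) := by
  obtain ⟨u, hu, hur⟩ := h.exists_lift_of g K h.goodA h.hr.pos fun w _ => by rw [h.apow, one_mul, mul_one]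
  obtain ⟨w, hw, hwd⟩ := h.exists_lift_of g K hy hd0 (h.centralizes (hy.pow d) hd.pow)
  have hTT : Commute ((resF W z₀ ζ j).toHomUnits ⟨a, h.goodA.mem_stab g.mem g.cent⟩)
      ((resF W z₀ ζ j).toHomUnits ⟨y, hy.mem_stab g.mem g.cent⟩) :=
    (show Commute (⟨a, h.goodA.mem_stab g.mem g.cent⟩ : Stab W z₀) ⟨y, hy.mem_stab g.mem g.cent⟩ from
      Subtype.ext hy.comm).map _
  refine ⟨u, w, hu, hw, ⟨K.weyl, h.hr, hω, hur, hwd, hu.ind, hw.ind, h.free_labels h.norm h.alpha_free,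
    h.free_labels hy.norm hd, K.lifts_commute hu hw hur hwd hrd hTT, ?_, hrd⟩⟩
  rw [← map_mul, ← map_mul]
  exact congrArg _ (Subtype.ext hy.comm)

theorem exists_root (h : Frame p q r a W) : ∃ ω : Kbar p, IsPrimitiveRoot ω r := by
  haveI : NeZero ((r : ℕ) : Kbar p) := ⟨h.r_ne⟩
  haveI : NeZero r := ⟨h.hr.ne_zero⟩
  exact HasEnoughRootsOfUnity.exists_primitiveRoot (Kbar p) r

theorem exceptional_aux (h : Frame p q r a W) (hfix : ∀ v, a v = v → v = 0) :
    ∃ Q, Nat.card (Lab W) = Q ^ 2 ∧ Q + 1 = r ∧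
      ∀ y, Good a W y → (orderOf y).Coprime r → ∀ w ∈ W, ⁅y, w⁆ ∈ centralizer (W : Set (Aut V)) := by
  classical
  haveI := h.lab_nontrivial
  haveI := Fintype.ofFinite (Lab W)
  obtain ⟨z₀, ζ, g⟩ := h.exists_gen
  obtain ⟨j, hj⟩ := h.exists_piece g
  obtain ⟨K⟩ := (h.classTwo g j).nonempty_comp
  haveI := h.n_pos g K
  obtain ⟨ω, hω⟩ := h.exists_root
  obtain ⟨u, hu, hur⟩ := h.exists_lift_of g K h.goodA h.hr.pos fun w _ => by rw [h.apow, one_mul, mul_one]
  set T := (resF W z₀ ζ j).toHomUnits ⟨a, h.goodA.mem_stab g.mem g.cent⟩ with hT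
  set α := labHom W ⟨a, h.norm⟩
  have hαfree : Semireg α r := h.free_labels h.norm h.alpha_free
  have hTfix : ∀ x, (T : Module.End (Kbar p) (Piece z₀ ζ j)) x = x → x = 0 := fun x hx =>
    Subtype.ext (ext_fpf p a hfix x (congrArg Subtype.val hx))
  have hr0 := h.hr.pos
  haveI : NeZero r := ⟨h.hr.ne_zero⟩
  -- some eigenvalue is missing
  obtain ⟨i₁, hi₁⟩ : ∃ i : Fin r, mult u ω i = 0 := by
    by_contra hne
    push Not at hne
    let U : (Module.End (Kbar p) (Piece z₀ ζ j))ˣ := Units.map K.φ.toMonoidHom u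
    have hTU : Commute T U := Units.ext (by
      show (T : Module.End (Kbar p) (Piece z₀ ζ j)) * K.φ u = K.φ u * T
      rw [hu.conj, Units.mul_inv_cancel_right])
    have hUT : U ^ r = 1 := by rw [← map_pow, hur, map_one]
    have hTr : T ^ r = 1 := by
      rw [hT, ← map_pow, show (⟨a, h.goodA.mem_stab g.mem g.cent⟩ : Stab W z₀) ^ r = 1 from Subtype.ext h.apow,
        map_one]
    set S := U⁻¹ * T with hS
    have hSr : S ^ r = 1 := by rw [hS, (hTU.inv_right.symm).mul_pow, inv_pow, hUT, hTr, inv_one, one_mul]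
    have hSX : ∀ X, Commute (S : Module.End (Kbar p) (Piece z₀ ζ j)) (K.φ X) := fun X => by
      show (S : Module.End (Kbar p) (Piece z₀ ζ j)) * K.φ X = K.φ X * S
      rw [hS, Units.val_mul, mul_assoc, hu.conj, map_mul, map_mul]
      show (↑U⁻¹ : Module.End (Kbar p) (Piece z₀ ζ j)) * (↑U * K.φ X * ↑U⁻¹ * ↑T) = K.φ X * (↑U⁻¹ * ↑T)
      rw [← mul_assoc, ← mul_assoc, ← mul_assoc, Units.inv_mul, one_mul, mul_assoc]
    obtain ⟨x, hx0⟩ := exists_ne (0 : Piece z₀ ζ j)
    obtain ⟨l, -, hl⟩ := Finset.exists_ne_zero_of_sum_ne_zero (s := Finset.range r)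
      (f := fun l => eproj S ω r l x) (by
        rw [← LinearMap.sum_apply, eproj_sum hω hr0, Module.End.one_apply]; exact hx0)
    set y := eproj S ω r l x
    have hy : (S : Module.End (Kbar p) (Piece z₀ ζ j)) y = ω ^ l • y := mem_espace.1 (eproj_range hω hr0 hSr l x)
    -- the eigenvalue completing it
    let i : Fin r := ⟨(r * (l + 1) - l) % r, Nat.mod_lt _ hr0⟩
    have hil : ω ^ (i : ℕ) * ω ^ l = 1 := by
      rw [← pow_add, ← orderOf_dvd_iff_pow_eq_one, ← hω.eq_orderOf]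
      show r ∣ (r * (l + 1) - l) % r + l
      rw [Nat.dvd_iff_mod_eq_zero, Nat.mod_add_mod, Nat.sub_add_cancel (le_trans (Nat.le_succ l)
        (Nat.le_mul_of_pos_left _ hr0)), Nat.mul_mod_right]
    obtain ⟨m₀, hm₀, hm₀0⟩ : ∃ m ∈ espace u ω i, m ≠ (0 : Fin K.n → Kbar p) := by
      by_contra hno
      push Not at hno
      apply hne i
      rw [mult, (Submodule.eq_bot_iff _).2 hno, finrank_bot]
    let b := Module.finBasis (Kbar p) (Fin K.n → Kbar p)
    obtain ⟨ψ, hψ⟩ := Module.Projective.exists_dual_eq_one (Kbar p) hm₀0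
    have h1 : (1 : Module.End (Kbar p) (Fin K.n → Kbar p)) =
        ∑ t, (ψ.smulRight (b t)) * (eproj u ω r i * (b.coord t).smulRight m₀) := LinearMap.ext fun v => by
      simp only [LinearMap.sum_apply, Module.End.mul_apply, LinearMap.smulRight_apply, map_smul,
        eproj_apply_eigen hω hr0 u i i (mem_espace.1 hm₀), if_pos, hψ, one_smul, Module.End.one_apply,
        Module.Basis.coord_apply, b.sum_repr]
    obtain ⟨t, -, ht⟩ := Finset.exists_ne_zero_of_sum_ne_zero (s := Finset.univ)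
      (f := fun t => K.φ ((ψ.smulRight (b t)) * (eproj u ω r i * (b.coord t).smulRight m₀)) y) (by
        rw [← LinearMap.sum_apply, ← map_sum, ← h1, map_one, Module.End.one_apply]; exact hl)
    set y' := K.φ (eproj u ω r i * (b.coord t).smulRight m₀) y with hy'
    have hy'0 : y' ≠ 0 := fun e => ht (by
      show K.φ _ y = 0
      rw [map_mul, Module.End.mul_apply, ← hy', e, map_zero])
    refine hy'0 (hTfix y' ?_)
    have hTeq : (T : Module.End (Kbar p) (Piece z₀ ζ j)) = K.φ u * S := by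
      show _ = (U : Module.End (Kbar p) (Piece z₀ ζ j)) * S
      rw [← Units.val_mul, hS, mul_inv_cancel_left]
    have hSy : (S : Module.End (Kbar p) (Piece z₀ ζ j)) y' = ω ^ l • y' := by
      rw [hy', ← Module.End.mul_apply, (hSX _).eq, Module.End.mul_apply, hy, map_smul]
    rw [hTeq, Module.End.mul_apply, hSy, map_smul, hy', ← Module.End.mul_apply, ← map_mul, ← mul_assoc,
      eproj_mem hω hr0 hur i, smul_mul_assoc, map_smul, LinearMap.smul_apply, smul_smul, mul_comm, hil, one_smul]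
  obtain ⟨c, i₀, hc, hoth, hcase⟩ := K.weyl.pattern hω h.hr.two_le hur hu.ind hαfree
  have hi : i₁ = i₀ := by_contra fun hne => by
    have := hoth i₁ hne
    omega
  subst hi
  rcases hcase with ⟨e1, -⟩ | ⟨e1, e2⟩
  · omega
  have hc1 : c = 1 := by omega
  subst hc1
  rw [Module.finrank_fin_fun, mul_one] at e2
  refine ⟨K.n, h.card_lab g K, e2, fun y hy hcop w hw => ?_⟩
  obtain ⟨v, hv, hvd⟩ := h.exists_lift_of g K hy (orderOf_pos y) fun x _ => by
    rw [pow_orderOf_eq_one, one_mul, mul_one]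
  have hTT : Commute T ((resF W z₀ ζ j).toHomUnits ⟨y, hy.mem_stab g.mem g.cent⟩) :=
    (show Commute (⟨a, h.goodA.mem_stab g.mem g.cent⟩ : Stab W z₀) ⟨y, hy.mem_stab g.mem g.cent⟩ from
      Subtype.ext hy.comm).map _
  have hcomm := K.lifts_commute hu hv hur hvd hcop.symm hTT
  set η := labHom W ⟨y, hy.norm⟩
  have hline : ∀ i : Fin r, mult u ω i ≤ 1 := fun i => by
    by_cases e : i = i₁
    · subst e; omega
    · rw [hoth i e]
  -- `v` commutes with the commutant of `u`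
  have hvX : ∀ X ∈ commOf u, Commute (v : Module.End (Kbar p) (Fin K.n → Kbar p)) X := by
    intro X hX
    refine LinearMap.ext fun x => ?_
    rw [← Module.End.one_apply (R := Kbar p) x, ← eproj_sum hω hr0 u, LinearMap.sum_apply, map_sum, map_sum]
    refine Finset.sum_congr rfl fun i hi => ?_
    rw [Finset.mem_range] at hi
    obtain ⟨y₀, hy₀⟩ := finrank_le_one_iff.1 (hline ⟨i, hi⟩)
    have hm := eproj_range hω hr0 hur i x
    obtain ⟨c₁, hc₁⟩ := hy₀ ⟨_, hm⟩
    have hXy : X (y₀ : Fin K.n → Kbar p) ∈ espace u ω i := by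
      rw [mem_espace, ← Module.End.mul_apply, mem_commOf.1 hX, Module.End.mul_apply, mem_espace.1 y₀.2, map_smul]
    have hvy : (v : Module.End (Kbar p) (Fin K.n → Kbar p)) y₀ ∈ espace u ω i := by
      rw [mem_espace, ← Module.End.mul_apply, ← Units.val_mul, hcomm.eq, Units.val_mul, Module.End.mul_apply,
        mem_espace.1 y₀.2, map_smul]
    obtain ⟨c₂, hc₂⟩ := hy₀ ⟨_, hXy⟩
    obtain ⟨c₃, hc₃⟩ := hy₀ ⟨_, hvy⟩
    have f1 : eproj u ω r i x = c₁ • (y₀ : Fin K.n → Kbar p) := (congrArg Subtype.val hc₁).symm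
    have f2 : X (y₀ : Fin K.n → Kbar p) = c₂ • (y₀ : Fin K.n → Kbar p) := (congrArg Subtype.val hc₂).symm
    have f3 : (v : Module.End (Kbar p) (Fin K.n → Kbar p)) y₀ = c₃ • (y₀ : Fin K.n → Kbar p) :=
      (congrArg Subtype.val hc₃).symm
    simp only [Module.End.mul_apply, f1, map_smul, f2, f3, smul_comm c₂ c₃]
  suffices hfixlab : η (toLab W ⟨w, hw⟩) = toLab W ⟨w, hw⟩ from (h.lab_eq ⟨y, hy.norm⟩ ⟨w, hw⟩).1 hfixlab
  set x := toLab W ⟨w, hw⟩
  by_cases hx : x = 0
  · rw [hx, map_zero]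
  set E := Module.End (Kbar p) (Fin K.n → Kbar p)
  set Z : E := ∑ i ∈ Finset.range r, (u : E) ^ i * K.ρ x * ((((u ^ i)⁻¹ : Eˣ)) : E) with hZ
  have hterm : ∀ i, ∃ c : Kbar p, (u : E) ^ i * K.ρ x * ((((u ^ i)⁻¹ : Eˣ)) : E) = c • K.ρ ((α ^ i) x) := by
    intro i
    obtain ⟨c, hc⟩ := hu.ind.pow i x
    refine ⟨c, ?_⟩
    rw [← Units.val_pow_eq_pow_val, hc, smul_mul_assoc, Units.mul_inv_cancel_right]
  have hZm : Z ∈ commOf u := by
    rw [mem_commOf, ← Units.mul_inv_eq_iff_eq_mul]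
    have hs := Finset.sum_range_succ' (fun i => (u : E) ^ i * K.ρ x * ((((u ^ i)⁻¹ : Eˣ)) : E)) r
    rw [Finset.sum_range_succ, ← Units.val_pow_eq_pow_val u r, hur] at hs
    simp only [pow_zero, inv_one, Units.val_one, one_mul, mul_one] at hs
    have e := add_right_cancel hs
    rw [hZ, Finset.mul_sum, Finset.sum_mul]
    refine Eq.trans ?_ e.symm
    refine Finset.sum_congr rfl fun i _ => ?_
    rw [pow_succ' (u : E), pow_succ' u, mul_inv_rev, Units.val_mul]
    simp only [mul_assoc]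
  have hZv := (hvX Z hZm).eq
  have hcoord : K.weyl.basis.repr Z x ≠ 0 := by
    rw [hZ, map_sum, Finsupp.coe_finsetSum, Finset.sum_apply, Finset.sum_eq_single 0]
    · simp [← K.weyl.basis_apply]
    · intro i hi hi0
      rw [Finset.mem_range] at hi
      obtain ⟨c, hc⟩ := hterm i
      rw [hc, map_smul, ← K.weyl.basis_apply, Module.Basis.repr_self, Finsupp.smul_apply,
        Finsupp.single_eq_of_ne (fun e => hx (hαfree.free i (fun hd => hi0 (Nat.eq_zero_of_dvd_of_lt hd hi)) x e.symm)),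
        smul_zero]
    · intro hn; exact absurd (Finset.mem_range.2 hr0) hn
  obtain ⟨i, hi⟩ : ∃ i : ℕ, η ((α ^ i) x) = x := by
    by_contra hne
    push Not at hne
    apply hcoord
    rw [show Z = (v : E) * Z * (↑v⁻¹ : E) by rw [hZv, Units.mul_inv_cancel_right]]
    rw [hZ, Finset.mul_sum, Finset.sum_mul, map_sum, Finsupp.coe_finsetSum, Finset.sum_apply]
    refine Finset.sum_eq_zero fun i _ => ?_
    obtain ⟨c, hc⟩ := hterm i
    obtain ⟨c', hc'⟩ := hv.ind ((α ^ i) x)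
    rw [hc, mul_smul_comm, hc', smul_mul_assoc, smul_mul_assoc, Units.mul_inv_cancel_right, map_smul, map_smul,
      ← K.weyl.basis_apply, Module.Basis.repr_self, Finsupp.smul_apply, Finsupp.smul_apply,
      Finsupp.single_eq_of_ne (fun e => hne i e.symm), smul_zero, smul_zero]
  have hce : Commute α η := by
    show _ * _ = _ * _
    rw [← map_mul, ← map_mul]
    exact congrArg _ (Subtype.ext hy.comm)
  have hri : r ∣ i := by
    by_contra hd
    apply hx
    refine hαfree.free (i * orderOf y) (fun hd' => hd (hcop.symm.dvd_of_dvd_mul_right hd')) x ?_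
    have hpow : ∀ n : ℕ, ((η * α ^ i) ^ n) x = x := by
      intro n
      induction n with
      | zero => rfl
      | succ n ih => rw [pow_succ', LinearEquiv.mul_apply, ih]; exact hi
    have := hpow (orderOf y)
    rw [((hce.pow_left i).symm).mul_pow, ← pow_mul, show η ^ orderOf y = 1 by
      rw [← map_pow, show (⟨y, hy.norm⟩ : normalizer (W : Set (Aut V))) ^ orderOf y = 1 from
        Subtype.ext (pow_orderOf_eq_one y), map_one], one_mul] at this
    exact this
  obtain ⟨t, rfl⟩ := hri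
  rwa [pow_mul, hαfree.pow, one_pow] at hi

theorem bad_aux (h : Frame p q r a W) {y : Aut V} (hy : Good a W y) {d : ℕ} (hd : FreeOn W y d) (hdp : d.Prime)
    (hrd : r.Coprime d) (φ : V →+ ZMod p) (S : Subgroup (Aut V)) (hSW : S ≤ W)
    (hS : ∀ s ∈ S, ∀ x, φ (s x) = φ x)
    (hoff : ∀ g ∈ W, (∀ s ∈ S, g⁻¹ * s ∉ centralizer (W : Set (Aut V))) → ∀ v, a v = v → φ (g (y v - v)) = 0)
    (hH : ∀ B : Subgroup (Aut V), B ≤ W → W ⊓ centralizer (W : Set (Aut V)) ≤ B →
      a ∈ normalizer (B : Set (Aut V)) → y ∈ normalizer (B : Set (Aut V)) →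
      (∀ b ∈ B, ∀ b' ∈ B, b * b' = b' * b) → B ≤ centralizer (W : Set (Aut V))) :
    (∀ v, a v = v → φ v = 0) ∨ (d = 2 ∧ ∃ Q, Nat.card (Lab W) = Q ^ 2 ∧ Q + 1 = 2 * r) := by
  classical
  haveI := h.lab_nontrivial
  haveI := Fintype.ofFinite (Lab W)
  obtain ⟨z₀, ζ, g⟩ := h.exists_gen
  obtain ⟨ω, hω⟩ := h.exists_root
  by_cases hφ : ∀ x, φ x = 0
  · exact Or.inl fun v _ => hφ v
  have hSz : ∀ s ∈ S.subgroupOf W, s ∈ Subgroup.center ↥W → s = 1 := by
    intro s hs hc
    by_contra hne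
    apply hφ
    intro x
    have hinj : Function.Injective fun x => (s : Aut V) x - x := fun x x' e => by
      simp only at e
      rw [← sub_eq_zero]
      refine h.semis s s.2 ((mem_center_iff' s).1 hc) (fun e => hne (Subtype.ext e)) _ ?_
      rw [map_sub]; linear_combination (norm := abel) e
    obtain ⟨x', rfl⟩ := Finite.injective_iff_surjective.1 hinj x
    rw [map_sub, hS _ (mem_subgroupOf.1 hs), sub_self]
  by_cases hex : ∃ (j : ℕ) (_ : Nontrivial (Piece z₀ ζ j)) (K : Comp (F := Piece z₀ ζ j) (pieceRep g j) (toLab W))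
      (u w : (Module.End (Kbar p) (Fin K.n → Kbar p))ˣ) (i : Fin r),
      FreePair K.ρ r d ω u w (labHom W ⟨a, h.norm⟩) (labHom W ⟨y, hy.norm⟩) ∧ 0 < mult u ω i ∧
      ScalarOn w (espace u ω i)
  · obtain ⟨j, _, K, u, w, i, hP, hi, hs⟩ := hex
    obtain ⟨h1, h2, -⟩ := hP.scalar_block hdp hi hs
    rw [Module.finrank_fin_fun] at h2
    exact Or.inr ⟨h1, K.n, h.card_lab g K, h2⟩
  refine Or.inl fun v hv => ?_
  push Not at hex
  have key : ∀ j, ∀ x : Piece z₀ ζ j, ext p a (x : Vbar p V) = x → extFun p φ (x : Vbar p V) = 0 := by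
    intro j x hx
    by_cases hnt : Nontrivial (Piece z₀ ζ j)
    swap
    · rw [not_nontrivial_iff_subsingleton] at hnt
      rw [Subsingleton.elim x 0, ZeroMemClass.coe_zero, map_zero]
    obtain ⟨K⟩ := (h.classTwo g j).nonempty_comp
    haveI := h.n_pos g K
    obtain ⟨u, w, hu, hw, hP⟩ := h.exists_pair g K hω hy hd hdp.pos hrd
    refine functional_vanishes (h.classTwo g j) K
      ((show Commute (⟨a, h.goodA.mem_stab g.mem g.cent⟩ : Stab W z₀) ⟨y, hy.mem_stab g.mem g.cent⟩ from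
        Subtype.ext hy.comm).map _) hu hw hP ((extFun p φ) ∘ₗ (Piece z₀ ζ j).subtype) (S.subgroupOf W) hSz ?_ ?_ ?_
      (fun i hi hs => hex j hnt K u w i hP hi hs) x (Subtype.ext hx)
    · intro s hs x
      show extFun p φ (ext p (s : Aut V) x) = extFun p φ x
      generalize (x : Vbar p V) = z
      induction z using TensorProduct.induction_on with
      | zero => simp
      | tmul c x => rw [ext_tmul, extFun_tmul, extFun_tmul, hS _ (mem_subgroupOf.1 hs)]
      | add x y hx hy => rw [map_add, map_add, map_add, hx, hy]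
    · intro b hb z hz
      show extFun p φ (ext p (b : Aut V) (ext p y (z : Vbar p V) - z)) = 0
      refine kill_fixed p (extFun p φ ∘ₗ ext p (b : Aut V) ∘ₗ (ext p y - 1)) h.r_ne h.apow (fun x hx => ?_)
        (z : Vbar p V) (congrArg Subtype.val hz)
      rw [LinearMap.comp_apply, LinearMap.comp_apply, LinearMap.sub_apply, Module.End.one_apply, ext_tmul,
        ← TensorProduct.tmul_sub, ext_tmul, extFun_one,
        hoff b b.2 (fun s hs hc => hb ⟨s, hSW hs⟩ (mem_subgroupOf.2 hs)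
          ((toLab_eq_iff W h.class2' _ _).2 ((mem_center_iff' _).2 hc)).symm) x hx, map_zero]
    · intro H hHa hHy hHc
      let B : Subgroup (Aut V) :=
        { carrier := {b | ∃ hb : b ∈ W, toLab W ⟨b, hb⟩ ∈ H}
          one_mem' := ⟨one_mem W, by
            rw [show toLab W (⟨1, one_mem W⟩ : W) = 0 from (toLab_eq_zero W h.class2' _).2 (one_mem _)]
            exact zero_mem H⟩
          mul_mem' := fun {b c} ⟨hb, hb'⟩ ⟨hc, hc'⟩ => ⟨mul_mem hb hc, by
            rw [show (⟨b * c, mul_mem hb hc⟩ : W) = ⟨b, hb⟩ * ⟨c, hc⟩ from rfl, toLab_mul]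
            exact add_mem hb' hc'⟩
          inv_mem' := fun {b} ⟨hb, hb'⟩ => ⟨inv_mem hb, by
            have e : toLab W (⟨b⁻¹, inv_mem hb⟩ : W) = - toLab W ⟨b, hb⟩ := by
              rw [eq_neg_iff_add_eq_zero, ← toLab_mul, toLab_eq_zero W h.class2']
              have : (⟨b⁻¹, inv_mem hb⟩ : W) * ⟨b, hb⟩ = 1 := Subtype.ext (inv_mul_cancel b)
              rw [this]; exact one_mem _
            rw [e]; exact neg_mem hb'⟩ }
      have hBc := hH B (fun b ⟨hb, _⟩ => hb) (fun b hb => ⟨hb.1, by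
          rw [show toLab W (⟨b, hb.1⟩ : W) = 0 from (toLab_eq_zero W h.class2' _).2 ((mem_center_iff' _).2 hb.2)]
          exact zero_mem H⟩)
        (normalizer_of_map fun b ⟨hb, hb'⟩ => ⟨(mem_normalizer_iff.1 h.norm b).1 hb, by
          have := hHa _ hb'
          rwa [labHom_apply] at this⟩)
        (normalizer_of_map fun b ⟨hb, hb'⟩ => ⟨(mem_normalizer_iff.1 hy.norm b).1 hb, by
          have := hHy _ hb'
          rwa [labHom_apply] at this⟩)
        (fun b ⟨hb, hb'⟩ c ⟨hc, hc'⟩ => congrArg Subtype.val (hHc ⟨b, hb⟩ ⟨c, hc⟩ hb' hc'))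
      rw [eq_bot_iff]
      intro x hx
      obtain ⟨b, rfl⟩ := toLab_surjective W x
      rw [AddSubgroup.mem_bot, toLab_eq_zero W h.class2', mem_center_iff']
      exact hBc ⟨b.2, hx⟩
  have hv1 : ext p a ((1 : Kbar p) ⊗ₜ[ZMod p] v) = (1 : Kbar p) ⊗ₜ[ZMod p] v := by rw [ext_tmul, hv]
  have hsum : extFun p φ ((1 : Kbar p) ⊗ₜ[ZMod p] v) = 0 := by
    rw [← Module.End.one_apply (R := Kbar p) ((1 : Kbar p) ⊗ₜ[ZMod p] v),
      ← eproj_sum g.root (orderOf_pos z₀) ((ext p).toHomUnits z₀), LinearMap.sum_apply, map_sum]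
    refine Finset.sum_eq_zero fun j _ => ?_
    refine key j ⟨_, eproj_range g.root (orderOf_pos z₀) (unit_pow z₀) j _⟩ ?_
    show ext p a (eproj _ ζ _ j _) = eproj _ ζ _ j _
    have hc : Commute (ext p a) (eproj ((ext p).toHomUnits z₀) ζ (orderOf z₀) j) := by
      refine Commute.smul_right (Commute.sum_right _ _ _ fun _ _ => Commute.smul_right ?_ _) _
      refine Commute.pow_right ?_ _
      show ext p a * ext p z₀ = ext p z₀ * ext p a
      rw [← map_mul, ← map_mul, h.fixC z₀ g.mem g.cent]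
    rw [← Module.End.mul_apply, hc.eq, Module.End.mul_apply, hv1]
  rw [extFun_one] at hsum
  exact (algebraMap (ZMod p) (Kbar p)).injective (hsum.trans (map_zero _).symm)

theorem no_four_aux (h : Frame p q r a W) {Q : ℕ} (hQ : Nat.card (Lab W) = Q ^ 2) (hQr : Q + 1 = 2 * r)
    {y : Aut V} (hy : Good a W y) (hd : FreeOn W y 4) (hr4 : r.Coprime 4) : False := by
  classical
  haveI := h.lab_nontrivial
  haveI := Fintype.ofFinite (Lab W)
  obtain ⟨z₀, ζ, g⟩ := h.exists_gen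
  obtain ⟨j, hj⟩ := h.exists_piece g
  obtain ⟨K⟩ := (h.classTwo g j).nonempty_comp
  haveI := h.n_pos g K
  obtain ⟨ω, hω⟩ := h.exists_root
  obtain ⟨u, w, hu, hw, hP⟩ := h.exists_pair g K hω hy hd (by norm_num) hr4
  set α := labHom W ⟨a, h.norm⟩
  set η := labHom W ⟨y, hy.norm⟩
  have hn : K.n = Q := Nat.pow_left_injective two_ne_zero ((h.card_lab g K).symm.trans hQ)
  obtain ⟨c, i₀, hc, hoth, hcase⟩ := K.weyl.pattern hω h.hr.two_le hP.upow hP.uind hP.ufree
  simp only [Module.finrank_fin_fun, hn] at hcase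
  have hle2 : ∀ i : Fin r, mult u ω i ≤ 2 := by
    have hc2 : c ≤ 2 ∧ mult u ω i₀ ≤ 2 := by
      have hr2 := h.hr.two_le
      rcases hcase with ⟨e1, e2⟩ | ⟨e1, e2⟩
      · have h1 : r * c < r * 2 := by omega
        have h1' : c < 2 := Nat.lt_of_mul_lt_mul_left h1
        omega
      · have h1 : r * c = r * 2 := by omega
        have h1' : c = 2 := Nat.eq_of_mul_eq_mul_left h.hr.pos h1
        omega
    intro i
    by_cases e : i = i₀
    · subst e; exact hc2.2
    · rw [hoth i e]; exact hc2.1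
  have hP2 : FreePair K.ρ r 2 ω u (w ^ 2) α (η ^ 2) := by
    refine ⟨hP.weyl, hP.prime, hP.root, hP.upow, ?_, hP.uind, hP.wind.pow 2, hP.ufree, ⟨?_, fun i hi v hv => ?_⟩,
      hP.comm.pow_right 2, ?_, Nat.Coprime.coprime_dvd_right ⟨2, rfl⟩ hP.coprime⟩
    · rw [← pow_mul]; exact hP.wpow
    · rw [← pow_mul]; exact hP.wfree.pow
    · rw [← pow_mul] at hv
      exact hP.wfree.free (2 * i) (by omega) v hv
    · exact ((show Commute α η from hP.comm').pow_right 2).eq
  have h1 : ∀ i : Fin r, ScalarOn w (espace u ω i) → mult u ω i ≤ 1 := by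
    rintro i ⟨c, hc⟩
    by_cases hi : mult u ω i = 0
    · omega
    refine (hP2.scalar_block Nat.prime_two (Nat.pos_of_ne_zero hi) ⟨c * c, fun x hx => ?_⟩).2.2.le
    rw [sq, Units.val_mul, Module.End.mul_apply, hc x hx, map_smul, hc x hx, smul_smul]
  have := hP.order_le hle2 h1
  rw [Module.finrank_fin_fun, hn, hQr] at this
  have := h.hr.pos
  omega

end Frame

end Cfsg.Agent.TwoLoss
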