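import Cfsg.Agent.Lib.TwoLoss.MakeFrame
import Cfsg.Agent.Lib.TwoLoss.FrameExt

/-!
# A bad group acting on a group generated by its commutators with it
-/

set_option autoImplicit false
set_option linter.unusedSectionVars false
set_option linter.style.haveILetI false

namespace Cfsg.Agent.TwoLoss

open Subgroup
open scoped commutatorElement

universe u

variable {V : Type u} [AddCommGroup V] [Finite V]

/-- An element commuting with `a` and `X` normalises `⁅X, ⟨a⟩⁆`. -/
theorem normalizer_commutator_zpowers {X : Subgroup (Aut V)} {a y : Aut V}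
    (hy : y ∈ normalizer (X : Set (Aut V))) (hya : a * y = y * a) :
    y ∈ normalizer ((⁅X, zpowers a⁆ : Subgroup (Aut V)) : Set (Aut V)) := by
  have hca : y ∈ normalizer ((zpowers a : Subgroup (Aut V)) : Set (Aut V)) := normalizer_of_map fun x hx => by
    obtain ⟨n, rfl⟩ := mem_zpowers_iff.1 hx
    rw [((show Commute y a from hya.symm).zpow_right n).eq, mul_inv_cancel_right]
    exact zpow_mem (mem_zpowers a) n
  rw [← Coprime.conj_smul_eq_self_iff, Coprime.conj_smul_commutator, Coprime.conj_smul_eq_self_iff.2 hy,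
    Coprime.conj_smul_eq_self_iff.2 hca]

/-- The moved part of an abelian group has no fixed element. -/
theorem abelian_comm_fpf {r : ℕ} (hr : r.Prime) {a : Aut V} (har : a ^ r = 1) {B : Subgroup (Aut V)}
    (haB : a ∈ normalizer (B : Set (Aut V))) (hcop : (Nat.card B).Coprime r)
    (hBc : ∀ x ∈ B, ∀ y ∈ B, x * y = y * x) :
    ⁅B, zpowers a⁆ ≤ B ∧ a ∈ normalizer ((⁅B, zpowers a⁆ : Subgroup (Aut V)) : Set (Aut V)) ∧
      ∀ x ∈ ⁅B, zpowers a⁆, a * x = x * a → x = 1 := by
  have hA : zpowers a ≤ normalizer (B : Set (Aut V)) := zpowers_le.2 haB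
  set B₁ := ⁅B, zpowers a⁆
  have hB₁ : B₁ ≤ B := Coprime.commutator_le_of_le_normalizer hA
  have hc : (Nat.card (zpowers a)).Coprime (Nat.card B) := by
    rw [Nat.card_zpowers]
    exact hcop.symm.coprime_dvd_left (orderOf_dvd_of_pow_eq_one har)
  have hgen : ⁅B₁, zpowers a⁆ = B₁ :=
    Coprime.commutator_commutator_eq hA hc (Or.inl (Coprime.isSolvable_of_isMulCommutative _))
  have ha₁ : a ∈ normalizer (B₁ : Set (Aut V)) := normalizer_commutator_zpowers haB rfl
  refine ⟨hB₁, ha₁, fun x hx hxa => ?_⟩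
  have h1 := fixed_le_derived hr har ha₁ (hcop.coprime_dvd_left (card_dvd_of_le hB₁)) hgen
    (mem_inf.2 ⟨hx, mem_centralizer_iff.2 fun g hg => by rw [Set.mem_singleton_iff.1 hg]; exact hxa⟩)
  have h2 : ⁅B₁, B₁⁆ = ⊥ := by
    rw [eq_bot_iff, Subgroup.commutator_le]
    intro u hu v hv
    rw [mem_bot, commutatorElement_eq_one_iff_mul_comm]
    exact hBc u (hB₁ hu) v (hB₁ hv)
  rwa [h2, mem_bot] at h1

/-- The points fixed by a subgroup. -/
def fixed (X : Subgroup (Aut V)) : AddSubgroup V where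
  carrier := {u | ∀ g ∈ X, g u = u}
  zero_mem' g _ := map_zero g
  add_mem' {x y} hx hy g hg := by rw [map_add, hx g hg, hy g hg]
  neg_mem' {x} hx g hg := by rw [map_neg, hx g hg]

theorem mem_fixed {X : Subgroup (Aut V)} {u : V} : u ∈ fixed X ↔ ∀ g ∈ X, g u = u := Iff.rfl

theorem fixed_inv {X : Subgroup (Aut V)} {y : Aut V} (hy : y ∈ normalizer (X : Set (Aut V))) {u : V}
    (hu : u ∈ fixed X) : y u ∈ fixed X := fun g hg => by
  have h := hu (y⁻¹ * g * y) ((mem_normalizer_iff''.1 hy g).1 hg)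
  rw [aut_mul, aut_mul] at h
  conv_rhs => rw [← h, aut_inv_apply]

/-- An element trivial on the fixed and on the moved part is trivial. -/
theorem eq_one_of_parts {p : ℕ} (hp : ∀ x : V, p • x = 0) {X : Subgroup (Aut V)}
    (hX : (Nat.card X).Coprime p) {g : Aut V} (hf : ∀ u ∈ fixed X, g u = u) (hm : ∀ u ∈ moved X, g u = u) :
    g = 1 := by
  refine LinearEquiv.ext fun u => ?_
  obtain ⟨c, m, rfl, hc, hmm, -⟩ := split hp hX u
  rw [map_add, hf c hc, hm m hmm]
  rfl

/-- A bad group `R` acting on `W = ⁅W, R⁆`. -/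
structure BadAction (p r : ℕ) (a : Aut V) (W R : Subgroup (Aut V)) (K : AddSubgroup V) : Prop where
  hr : r.Prime
  elem : ∀ x : V, p • x = 0
  apow : a ^ r = 1
  norm : a ∈ normalizer (W : Set (Aut V))
  comm : ∀ c ∈ R, a * c = c * a
  Rnorm : ∀ c ∈ R, c ∈ normalizer (W : Set (Aut V))
  Wp : (Nat.card W).Coprime p
  Wr : (Nat.card W).Coprime r
  Rr : (Nat.card R).Coprime r
  gen : ⁅W, R⁆ = W
  cov : Covered a W K
  bad : ∀ c ∈ R, ∀ v, a v = v → c v - v ∈ K

namespace BadAction

variable {p r : ℕ} {a : Aut V} {W R : Subgroup (Aut V)} {K : AddSubgroup V}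

/-- A central group without fixed elements is trivial. -/
theorem central_trivial (h : BadAction p r a W R K) {X : Subgroup (Aut V)} (hXW : X ≤ W)
    (hXc : X ≤ centralizer (W : Set (Aut V))) (haX : a ∈ normalizer (X : Set (Aut V)))
    (hRX : ∀ c ∈ R, c ∈ normalizer (X : Set (Aut V))) (hfix : ∀ x ∈ X, a * x = x * a → x = 1) : X = ⊥ := by
  have hXp : (Nat.card X).Coprime p := h.Wp.coprime_dvd_left (card_dvd_of_le hXW)
  have hWX : W ≤ normalizer (X : Set (Aut V)) := fun w hw =>
    normalizer_of_map fun x hx => by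
      rwa [mem_centralizer_iff.1 (hXc hx) w hw, mul_inv_cancel_right]
  have hR : ∀ c ∈ R, ∀ u ∈ moved X, c u = u := fun c hc =>
    (abelian_bad h.elem h.apow h.hr (fun x hx y hy => mem_centralizer_iff.1 (hXc hy) x (hXW hx)) haX
      (h.Wr.coprime_dvd_left (card_dvd_of_le hXW)) hXp hfix (h.cov.mono hXW) (h.comm c hc) (hRX c hc)
      (h.Rr.coprime_dvd_left (Subgroup.orderOf_dvd_natCard R hc)) (h.bad c hc)).1
  let S : Subgroup (Aut V) :=
    { carrier := {g | ∀ u ∈ moved X, g u = u}
      one_mem' := fun _ _ => rfl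
      mul_mem' := fun {g g'} hg hg' u hu => by rw [aut_mul, hg' u hu, hg u hu]
      inv_mem' := fun {g} hg u hu => by
        conv_lhs => rw [← hg u hu]
        exact aut_apply_inv g u }
  have hWS : W ≤ S := by
    conv_lhs => rw [← h.gen]
    rw [Subgroup.commutator_le]
    intro w hw c hc u hu
    rw [commutatorElement_def, aut_mul, aut_mul, aut_mul]
    have h1 : c⁻¹ u = u := by
      conv_lhs => rw [← hR c hc u hu]
      exact aut_apply_inv c u
    rw [h1, hR c hc _ (moved_inv (hWX (inv_mem hw)) hu), aut_inv_apply]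
  rw [eq_bot_iff]
  exact fun x hx => mem_bot.2 (eq_one_of_parts h.elem hXp (fun u hu => hu x hx) (hWS (hXW hx)))

/-- The centre is fixed by `a`. -/
theorem centre_fixed (h : BadAction p r a W R K) {z : Aut V} (hz : z ∈ W)
    (hzc : z ∈ centralizer (W : Set (Aut V))) : a * z = z * a := by
  set Z := W ⊓ centralizer (W : Set (Aut V)) with hZ
  have hnorm : ∀ y, y ∈ normalizer (W : Set (Aut V)) → y ∈ normalizer (Z : Set (Aut V)) := by
    intro y hy
    refine normalizer_of_map fun z hz => ⟨(mem_normalizer_iff.1 hy z).1 hz.1, ?_⟩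
    refine mem_centralizer_iff.2 fun w hw => ?_
    have := mem_centralizer_iff.1 hz.2 _ ((mem_normalizer_iff''.1 hy w).1 hw)
    calc w * (y * z * y⁻¹) = y * ((y⁻¹ * w * y) * z) * y⁻¹ := by group
      _ = y * (z * (y⁻¹ * w * y)) * y⁻¹ := by rw [this]
      _ = y * z * y⁻¹ * w := by group
  obtain ⟨hle, ha, hfix⟩ := abelian_comm_fpf h.hr h.apow (hnorm a h.norm)
    (h.Wr.coprime_dvd_left (card_dvd_of_le inf_le_left)) fun x hx y hy => mem_centralizer_iff.1 hy.2 x hx.1
  have hbot := h.central_trivial (hle.trans inf_le_left) (hle.trans inf_le_right) ha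
    (fun c hc => normalizer_commutator_zpowers (hnorm c (h.Rnorm c hc)) (h.comm c hc)) hfix
  have hm : ⁅z, a⁆ ∈ ⁅Z, zpowers a⁆ := commutator_mem_commutator ⟨hz, hzc⟩ (mem_zpowers a)
  rw [hbot, mem_bot, commutatorElement_eq_one_iff_mul_comm] at hm
  exact hm.symm

/-- Restriction to an invariant subgroup. -/
theorem restrict (h : BadAction p r a W R K) {E : AddSubgroup V} (ha : a ∈ stab E) (hW : W ≤ stab E)
    (hR : R ≤ stab E) : BadAction p r (resE E ⟨a, ha⟩) (img E W) (img E R) (K.comap E.subtype) where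
  hr := h.hr
  elem x := Subtype.ext (by simpa using h.elem (x : V))
  apow := by rw [← map_pow, show (⟨a, ha⟩ : stab E) ^ r = 1 from Subtype.ext h.apow, map_one]
  norm := img_norm h.norm
  comm := by
    intro c hc
    obtain ⟨c, hcR, rfl⟩ := mem_img.1 hc
    rw [← map_mul, ← map_mul]
    exact congrArg _ (Subtype.ext (h.comm c hcR))
  Rnorm := by
    intro c hc
    obtain ⟨c, hcR, rfl⟩ := mem_img.1 hc
    exact img_norm (h.Rnorm c hcR)
  Wp := h.Wp.coprime_dvd_left (card_img_dvd E W)
  Wr := h.Wr.coprime_dvd_left (card_img_dvd E W)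
  Rr := h.Rr.coprime_dvd_left (card_img_dvd E R)
  gen := by
    have e : ⁅W.subgroupOf (stab E), R.subgroupOf (stab E)⁆ = W.subgroupOf (stab E) := by
      refine map_injective (stab E).subtype_injective ?_
      rw [map_commutator, subgroupOf, map_comap_eq_self (by rw [range_subtype]; exact hW), subgroupOf,
        map_comap_eq_self (by rw [range_subtype]; exact hR)]
      exact h.gen
    rw [img, img, ← map_commutator, e]
  cov := h.cov.restrict ha
  bad := by
    intro c hc v hv
    obtain ⟨c, hcR, rfl⟩ := mem_img.1 hc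
    exact h.bad c hcR (v : V) (congrArg Subtype.val hv)

end BadAction

end Cfsg.Agent.TwoLoss
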