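import Cfsg.Agent.Lib.TwoLoss.Weyl

/-!
# The spectrum of a free monomial automorphism

If `u` induces on the Weyl basis an automorphism of order `N` acting freely on the nonzero labels, the
multiplicities `m` of its `N` eigenvalues satisfy `N * Σ m² + 1 = (Σ m)² + N`, so they are almost constant.
-/

set_option autoImplicit false
set_option linter.unusedSectionVars false

namespace Cfsg.Agent.TwoLoss

open Finset Module

universe uk um ua

variable {k : Type uk} [Field k] {M : Type um} [AddCommGroup M] [Module k M] [FiniteDimensional k M]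
variable {A : Type ua} [AddCommGroup A]

/-- `α` has order `N` and all its orbits on the nonzero elements have length `N`. -/
structure Semireg (α : A ≃ₗ[ℤ] A) (N : ℕ) : Prop where
  pow : α ^ N = 1
  free : ∀ i : ℕ, ¬ N ∣ i → ∀ v, (α ^ i) v = v → v = 0

/-- A unit inducing `α` on the basis. -/
def Induces (ρ : A → Module.End k M) (u : (Module.End k M)ˣ) (α : A ≃ₗ[ℤ] A) : Prop :=
  ∀ v, ∃ c : k, (u : Module.End k M) * ρ v = c • (ρ (α v) * u)

theorem Induces.mul {ρ : A → Module.End k M} {u w : (Module.End k M)ˣ} {α η : A ≃ₗ[ℤ] A}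
    (hu : Induces ρ u α) (hw : Induces ρ w η) : Induces ρ (u * w) (α * η) := by
  intro v
  obtain ⟨c, hc⟩ := hw v
  obtain ⟨d, hd⟩ := hu (η v)
  refine ⟨c * d, ?_⟩
  rw [Units.val_mul, mul_assoc, hc, mul_smul_comm, ← mul_assoc, hd, smul_mul_assoc, smul_smul, mul_assoc]
  rfl

theorem Induces.pow {ρ : A → Module.End k M} {u : (Module.End k M)ˣ} {α : A ≃ₗ[ℤ] A}
    (hu : Induces ρ u α) : ∀ n : ℕ, Induces ρ (u ^ n) (α ^ n)
  | 0 => fun v => ⟨1, by simp⟩
  | n + 1 => by rw [pow_succ, pow_succ]; exact (hu.pow n).mul hu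

theorem Semireg.pow_ne {α : A ≃ₗ[ℤ] A} {N : ℕ} (h : Semireg α N) [Nontrivial A] {i : ℕ} (hi : ¬ N ∣ i) :
    α ^ i ≠ 1 := fun e => by
  obtain ⟨v, hv⟩ := exists_ne (0 : A)
  exact hv (h.free i hi v (by rw [e]; rfl))

theorem Semireg.mul {α η : A ≃ₗ[ℤ] A} {r d : ℕ} (hα : Semireg α r) (hη : Semireg η d)
    (hc : α * η = η * α) (hrd : r.Coprime d) : Semireg (α * η) (r * d) := by
  have hpow : ∀ n, (α * η) ^ n = α ^ n * η ^ n := fun n => (show Commute α η from hc).mul_pow n
  have hfix : ∀ (g : A ≃ₗ[ℤ] A) (n : ℕ) (v : A), g v = v → (g ^ n) v = v := by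
    intro g n v hv
    induction n with
    | zero => rfl
    | succ n ih => rw [pow_succ', LinearEquiv.mul_apply, ih, hv]
  refine ⟨?_, fun i hi v hv => ?_⟩
  · rw [hpow, pow_mul, hα.pow, one_pow, mul_comm r d, pow_mul, hη.pow, one_pow, one_mul]
  by_contra hv0
  apply hi
  have h1 : d ∣ i := by
    by_contra hd
    apply hv0
    have hd' : ¬ d ∣ i * r := fun h => hd (hrd.symm.dvd_of_dvd_mul_right h)
    refine hη.free _ hd' v ?_
    have := hfix _ r v hv
    rwa [← pow_mul, hpow, show α ^ (i * r) = 1 from by rw [mul_comm, pow_mul, hα.pow, one_pow],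
      one_mul] at this
  have h2 : r ∣ i := by
    by_contra hr
    apply hv0
    obtain ⟨j, rfl⟩ := h1
    refine hα.free _ hr v ?_
    rwa [hpow, pow_mul η, hη.pow, one_pow, mul_one] at hv
  exact hrd.mul_dvd_of_dvd_of_dvd h2 h1

/-- The endomorphisms commuting with `u`. -/
def commOf (u : (Module.End k M)ˣ) : Submodule k (Module.End k M) :=
  commutant (Subgroup.zpowers u).subtype

theorem mem_commOf {u : (Module.End k M)ˣ} {X : Module.End k M} :
    X ∈ commOf u ↔ (u : Module.End k M) * X = X * u := by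
  constructor
  · exact fun h => h ⟨u, Subgroup.mem_zpowers u⟩
  · rintro h ⟨g, hg⟩
    obtain ⟨n, rfl⟩ := Subgroup.mem_zpowers_iff.1 hg
    exact (Commute.units_zpow_right (show Commute X (u : Module.End k M) from h.symm) n).symm.eq

variable {ρ : A → Module.End k M}

/-- The commutant of a free element. -/
theorem IsWeyl.commOf_spec (hW : IsWeyl ρ) [Fintype A] [Nontrivial A] {N : ℕ} (hN : 0 < N)
    {u : (Module.End k M)ˣ} {α : A ≃ₗ[ℤ] A} (hu : u ^ N = 1) (hi : Induces ρ u α) (hα : Semireg α N) :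
    N * finrank k (commOf u) + 1 = Fintype.card A + N ∧
    ∀ X ∈ commOf u, ∃ (c : k) (Y : Module.End k M),
      X = c • 1 + ∑ i ∈ range N, (u : Module.End k M) ^ i * Y * (((u ^ i)⁻¹ : (Module.End k M)ˣ) : Module.End k M) := by
  classical
  set P : (Module.End k M)ˣ × (A ≃ₗ[ℤ] A) := (u, α) with hP
  have hPN : P ^ N = 1 := Prod.ext (by simp [hP, hu]) (by simp [hP, hα.pow])
  have hfin : IsOfFinOrder P := isOfFinOrder_iff_pow_eq_one.2 ⟨N, hN, hPN⟩
  have hord : orderOf P = N := by
    refine Nat.dvd_antisymm (orderOf_dvd_of_pow_eq_one hPN) ?_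
    by_contra h
    have := congrArg Prod.snd (pow_orderOf_eq_one P)
    rw [Prod.pow_snd] at this
    exact hα.pow_ne h this
  haveI : Fintype (Subgroup.zpowers P) := Fintype.ofEquiv (Fin (orderOf P)) (finEquivZPowers hfin)
  let U : Subgroup.zpowers P →* (Module.End k M)ˣ :=
    (MonoidHom.fst _ _).comp (Subgroup.zpowers P).subtype
  let τ : Subgroup.zpowers P →* (A ≃ₗ[ℤ] A) := (MonoidHom.snd _ _).comp (Subgroup.zpowers P).subtype
  have hT : Twisted ρ U τ := by
    constructor
    · rintro ⟨g, hg⟩ v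
      obtain ⟨n, rfl⟩ := hfin.mem_powers_iff_mem_zpowers.2 hg
      obtain ⟨c, hc⟩ := hi.pow n v
      refine ⟨c, ?_⟩
      show ((u ^ n : (Module.End k M)ˣ) : Module.End k M) * ρ v * ↑(u ^ n)⁻¹ = c • ρ ((α ^ n) v)
      rw [hc, smul_mul_assoc, Units.mul_inv_cancel_right]
    · rintro ⟨g, hg⟩ hg1 v hv
      obtain ⟨n, rfl⟩ := hfin.mem_powers_iff_mem_zpowers.2 hg
      refine hα.free n (fun h => hg1 (Subtype.ext ?_)) v hv
      obtain ⟨t, rfl⟩ := h
      show P ^ (N * t) = 1
      rw [pow_mul, hPN, one_pow]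
  have heq : commutant U = commOf u := by
    ext X
    rw [mem_commOf]
    constructor
    · exact fun h => h ⟨P, Subgroup.mem_zpowers P⟩
    · rintro h ⟨g, hg⟩
      obtain ⟨n, rfl⟩ := hfin.mem_powers_iff_mem_zpowers.2 hg
      show ((u ^ n : (Module.End k M)ˣ) : Module.End k M) * X = X * ↑(u ^ n)
      rw [Units.val_pow_eq_pow_val]
      exact ((show Commute (u : Module.End k M) X from h).pow_left n).eq
  have hcard : Fintype.card (Subgroup.zpowers P) = N := by
    rw [← Nat.card_eq_fintype_card, Nat.card_zpowers, hord]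
  obtain ⟨h1, h2⟩ := hW.commutant_spec hT
  rw [heq, hcard] at h1
  refine ⟨h1, fun X hX => ?_⟩
  obtain ⟨c, Y, hY⟩ := h2 X (heq ▸ hX)
  refine ⟨c, Y, hY.trans (congrArg _ ?_)⟩
  refine (Fintype.sum_equiv (finCongr hord.symm |>.trans (finEquivZPowers hfin))
    (fun i : Fin N => (u : Module.End k M) ^ (i : ℕ) * Y * (((u ^ (i : ℕ))⁻¹ : (Module.End k M)ˣ) : Module.End k M))
    (fun g => cj (U g) Y) fun i => ?_).symm.trans (Fin.sum_univ_eq_sum_range
      (fun i : ℕ => (u : Module.End k M) ^ i * Y * (((u ^ i)⁻¹ : (Module.End k M)ˣ) : Module.End k M)) N)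
  simp [cj_apply, U, finEquivZPowers_apply, hP]

variable {N : ℕ} {ω : k}

/-- The projection to the eigenspace of `ω ^ i`. -/
noncomputable def eproj (u : (Module.End k M)ˣ) (ω : k) (N i : ℕ) : Module.End k M :=
  (N : k)⁻¹ • ∑ j ∈ range N, ((ω ^ i)⁻¹) ^ j • (u : Module.End k M) ^ j

theorem eproj_apply_eigen (hω : IsPrimitiveRoot ω N) (hN : 0 < N) (u : (Module.End k M)ˣ) (i l : Fin N)
    {x : M} (hx : (u : Module.End k M) x = ω ^ (l : ℕ) • x) :
    eproj u ω N i x = if i = l then x else 0 := by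
  haveI := NeZero.of_pos hN
  have hNk : (N : k) ≠ 0 := (hω.neZero').out
  have hω0 : ω ≠ 0 := hω.ne_zero hN.ne'
  have hp : ∀ j, ((u : Module.End k M) ^ j) x = (ω ^ (l : ℕ)) ^ j • x := by
    intro j
    induction j with
    | zero => simp
    | succ j ih => rw [pow_succ', Module.End.mul_apply, ih, map_smul, hx, smul_smul, pow_succ]
  simp only [eproj, LinearMap.smul_apply, LinearMap.sum_apply, hp, smul_smul, ← sum_smul, ← mul_pow]
  by_cases h : i = l
  · subst h
    rw [if_pos rfl, inv_mul_cancel₀ (pow_ne_zero _ hω0)]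
    simp [hNk]
  · rw [if_neg h]
    have hne : (ω ^ (i : ℕ))⁻¹ * ω ^ (l : ℕ) ≠ 1 := by
      rw [ne_eq, inv_mul_eq_one₀ (pow_ne_zero _ hω0)]
      exact fun e => h (Fin.ext (hω.pow_inj i.2 l.2 e))
    have hpw : ((ω ^ (i : ℕ))⁻¹ * ω ^ (l : ℕ)) ^ N = 1 := by
      rw [mul_pow, inv_pow, ← pow_mul, ← pow_mul, mul_comm (i : ℕ), mul_comm (l : ℕ), pow_mul, pow_mul,
        hω.pow_eq_one, one_pow, one_pow, inv_one, one_mul]
    rw [geom_sum_eq hne, hpw, sub_self, zero_div, mul_zero, zero_smul]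

theorem eproj_mem (hω : IsPrimitiveRoot ω N) (hN : 0 < N) {u : (Module.End k M)ˣ} (hu : u ^ N = 1)
    (i : ℕ) : (u : Module.End k M) * eproj u ω N i = ω ^ i • eproj u ω N i := by
  have hω0 : ω ≠ 0 := hω.ne_zero hN.ne'
  set f : ℕ → Module.End k M := fun j => ((ω ^ i)⁻¹) ^ j • (u : Module.End k M) ^ j with hf
  have hper : f N = f 0 := by
    simp only [hf]
    rw [pow_zero, pow_zero, ← Units.val_pow_eq_pow_val, hu, Units.val_one, inv_pow, ← pow_mul, mul_comm,
      pow_mul, hω.pow_eq_one, one_pow, inv_one]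
  have hshift : ∑ j ∈ range N, f (j + 1) = ∑ j ∈ range N, f j := by
    have h1 := sum_range_succ' f N
    rw [sum_range_succ f N, hper] at h1
    exact (add_right_cancel h1).symm
  have e : ∀ j, (u : Module.End k M) * f j = ω ^ i • f (j + 1) := fun j => by
    simp only [hf]
    rw [mul_smul_comm, ← pow_succ', smul_smul, pow_succ ((ω ^ i)⁻¹), mul_left_comm,
      mul_inv_cancel₀ (pow_ne_zero _ hω0), mul_one]
  rw [eproj, mul_smul_comm, mul_sum, smul_comm (ω ^ i) ((N : k)⁻¹)]
  congr 1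
  refine (sum_congr rfl fun j _ => e j).trans ?_
  rw [← smul_sum, hshift]

theorem eproj_sum (hω : IsPrimitiveRoot ω N) (hN : 0 < N) (u : (Module.End k M)ˣ) :
    ∑ i ∈ range N, eproj u ω N i = 1 := by
  haveI := NeZero.of_pos hN
  have hNk : (N : k) ≠ 0 := (hω.neZero').out
  simp only [eproj, ← smul_sum]
  rw [sum_comm]
  simp only [← sum_smul]
  rw [Finset.sum_eq_single 0]
  · simp [hNk, ← Nat.cast_smul_eq_nsmul k]
  · intro j hj hj0
    have hne : (ω ^ j)⁻¹ ≠ 1 := by
      rw [ne_eq, inv_eq_one]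
      exact hω.pow_ne_one_of_pos_of_lt hj0 (mem_range.1 hj)
    have : ∑ i ∈ range N, ((ω ^ i)⁻¹) ^ j = 0 := by
      rw [sum_congr rfl fun i _ => show ((ω ^ i)⁻¹) ^ j = ((ω ^ j)⁻¹) ^ i by
        rw [inv_pow, inv_pow, ← pow_mul, ← pow_mul, mul_comm]]
      rw [geom_sum_eq hne, inv_pow, ← pow_mul, mul_comm j, pow_mul, hω.pow_eq_one, one_pow, inv_one,
        sub_self, zero_div]
    rw [this, zero_smul]
  · intro h
    exact absurd (mem_range.2 hN) h

/-- The eigenspace of `ω ^ i`. -/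
def espace (u : (Module.End k M)ˣ) (ω : k) (i : ℕ) : Submodule k M :=
  Module.End.eigenspace (u : Module.End k M) (ω ^ i)

theorem mem_espace {u : (Module.End k M)ˣ} {i : ℕ} {x : M} :
    x ∈ espace u ω i ↔ (u : Module.End k M) x = ω ^ i • x :=
  Module.End.mem_eigenspace_iff

theorem eproj_range (hω : IsPrimitiveRoot ω N) (hN : 0 < N) {u : (Module.End k M)ˣ} (hu : u ^ N = 1)
    (i : ℕ) (x : M) : eproj u ω N i x ∈ espace u ω i := by
  rw [mem_espace, ← Module.End.mul_apply, eproj_mem hω hN hu]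
  rfl

theorem isInternal_espace (hω : IsPrimitiveRoot ω N) (hN : 0 < N) {u : (Module.End k M)ˣ}
    (hu : u ^ N = 1) : DirectSum.IsInternal fun i : Fin N => espace u ω i := by
  classical
  refine DirectSum.isInternal_submodule_of_iSupIndep_of_iSup_eq_top ?_ ?_
  · exact (Module.End.eigenspaces_iSupIndep (u : Module.End k M)).comp
      (f := fun i : Fin N => ω ^ (i : ℕ)) fun i j e => Fin.ext (hω.pow_inj i.2 j.2 e)
  · rw [eq_top_iff]
    intro x _
    rw [show x = ∑ i : Fin N, eproj u ω N i x by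
      rw [Fin.sum_univ_eq_sum_range (fun i => eproj u ω N i x), ← LinearMap.sum_apply, eproj_sum hω hN]
      rfl]
    exact Submodule.sum_mem _ fun i _ => Submodule.mem_iSup_of_mem i (eproj_range hω hN hu i x)

/-- The multiplicity of the eigenvalue `ω ^ i`. -/
noncomputable def mult (u : (Module.End k M)ˣ) (ω : k) (i : ℕ) : ℕ := finrank k (espace u ω i)

/-- Multiplicities and the commutant. -/
theorem mult_spec (hω : IsPrimitiveRoot ω N) (hN : 0 < N) {u : (Module.End k M)ˣ} (hu : u ^ N = 1) :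
    ∑ i : Fin N, mult u ω i = finrank k M ∧ finrank k (commOf u) = ∑ i : Fin N, mult u ω i ^ 2 := by
  classical
  have hint := isInternal_espace hω hN hu
  let S := Σ i : Fin N, Fin (mult u ω i)
  let b : Module.Basis S k M := hint.collectedBasis fun i => Module.finBasis k (espace u ω i)
  have hb : ∀ s : S, (u : Module.End k M) (b s) = ω ^ (s.1 : ℕ) • b s := fun s =>
    mem_espace.1 (hint.collectedBasis_mem _ s)
  have hrepr : ∀ (y : M) (s : S), b.repr ((u : Module.End k M) y) s = ω ^ (s.1 : ℕ) * b.repr y s := by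
    intro y s
    have h : (Finsupp.lapply s).comp (b.repr.toLinearMap.comp (u : Module.End k M)) =
        (ω ^ (s.1 : ℕ)) • (Finsupp.lapply s).comp b.repr.toLinearMap := b.ext fun t => by
      simp only [LinearMap.comp_apply, hb, LinearEquiv.coe_coe, map_smul, b.repr_self, LinearMap.smul_apply,
        Finsupp.lapply_apply, smul_eq_mul]
      rcases eq_or_ne t s with rfl | hts
      · rfl
      · simp [Finsupp.single_eq_of_ne hts.symm]
    simpa using LinearMap.congr_fun h y
  refine ⟨?_, ?_⟩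
  · rw [Module.finrank_eq_card_basis b, Fintype.card_sigma]
    simp
  let I := {p : S × S // p.1.1 = p.2.1}
  let F : commOf u →ₗ[k] (I → k) := LinearMap.pi fun p =>
    (Finsupp.lapply p.1.1).comp (b.repr.toLinearMap.comp
      ((LinearMap.applyₗ (b p.1.2)).comp (commOf u).subtype))
  have hF : ∀ (X : commOf u) (p : I), F X p = b.repr ((X : Module.End k M) (b p.1.2)) p.1.1 := fun _ _ => rfl
  have hoff : ∀ X ∈ commOf u, ∀ s t : S, s.1 ≠ t.1 → b.repr (X (b t)) s = 0 := by
    intro X hX s t hst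
    have h1 := hrepr (X (b t)) s
    rw [← Module.End.mul_apply, mem_commOf.1 hX, Module.End.mul_apply, hb, map_smul, map_smul,
      Finsupp.smul_apply, smul_eq_mul] at h1
    refine by_contra fun h0 => hst (Fin.ext (hω.pow_inj s.1.2 t.1.2 (mul_right_cancel₀ h0 h1.symm)))
  have hbij : Function.Bijective F := by
    constructor
    · intro X Y h
      refine Subtype.ext (b.ext fun t => b.repr.injective (Finsupp.ext fun s => ?_))
      by_cases hst : s.1 = t.1
      · exact congrFun h ⟨(s, t), hst⟩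
      · rw [hoff _ X.2 s t hst, hoff _ Y.2 s t hst]
    · intro g
      let X : Module.End k M := b.constr k fun t =>
        ∑ s : S, if h : s.1 = t.1 then g ⟨(s, t), h⟩ • b s else 0
      have hX : X ∈ commOf u := mem_commOf.2 (b.ext fun t => by
        simp only [Module.End.mul_apply, X, hb, map_smul, b.constr_basis, map_sum, smul_sum]
        refine sum_congr rfl fun s _ => ?_
        by_cases h : s.1 = t.1
        · rw [dif_pos h, map_smul, hb, smul_comm, h]
        · simp [dif_neg h])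
      refine ⟨⟨X, hX⟩, funext fun p => ?_⟩
      rw [hF]
      show b.repr (X (b p.1.2)) p.1.1 = g p
      rw [show X (b p.1.2) = _ from b.constr_basis k _ p.1.2, map_sum, Finsupp.coe_finsetSum,
        Finset.sum_apply, Finset.sum_eq_single p.1.1]
      · simp [dif_pos p.2]
      · intro s _ hs
        by_cases h : s.1 = p.1.2.1
        · simp [dif_pos h, Finsupp.single_eq_of_ne hs.symm]
        · simp [dif_neg h]
      · simp
  rw [(LinearEquiv.ofBijective F hbij).finrank_eq, Module.finrank_fintype_fun_eq_card]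
  let e : I ≃ Σ i : Fin N, Fin (mult u ω i) × Fin (mult u ω i) :=
    { toFun := fun p => ⟨p.1.1.1, p.1.1.2, p.2 ▸ p.1.2.2⟩
      invFun := fun q => ⟨(⟨q.1, q.2.1⟩, ⟨q.1, q.2.2⟩), rfl⟩
      left_inv := by rintro ⟨⟨⟨i, x⟩, ⟨j, y⟩⟩, (rfl : i = j)⟩; rfl
      right_inv := fun q => rfl }
  rw [Fintype.card_congr e, Fintype.card_sigma]
  simp [sq]

/-- The pattern of multiplicities. -/
theorem IsWeyl.pattern (hW : IsWeyl ρ) [Fintype A] [Nontrivial A] (hω : IsPrimitiveRoot ω N) (hN : 2 ≤ N)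
    {u : (Module.End k M)ˣ} {α : A ≃ₗ[ℤ] A} (hu : u ^ N = 1) (hi : Induces ρ u α) (hα : Semireg α N) :
    ∃ (c : ℕ) (i₀ : Fin N), 1 ≤ c ∧ (∀ i, i ≠ i₀ → mult u ω i = c) ∧
      ((mult u ω i₀ = c + 1 ∧ finrank k M = N * c + 1) ∨
        (mult u ω i₀ + 1 = c ∧ finrank k M + 1 = N * c)) := by
  classical
  have hN0 : 0 < N := by omega
  obtain ⟨h1, h2⟩ := mult_spec hω hN0 hu
  have h3 := (hW.commOf_spec hN0 hu hi hα).1
  rw [h2, ← hW.card_eq, ← h1] at h3
  obtain ⟨c, i₀, hc, he⟩ := almost_constant (fun i : Fin N => mult u ω i) (by simpa using hN)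
    (by simpa using h3)
  have hsum : finrank k M + c = N * c + mult u ω i₀ := by
    rw [← h1, ← sum_erase_add _ _ (mem_univ i₀), sum_congr rfl fun i hi => hc i (mem_erase.1 hi).1]
    simp only [sum_const, card_erase_of_mem (mem_univ i₀), card_univ, Fintype.card_fin, smul_eq_mul]
    have : (N - 1) * c + c = N * c := by
      conv_rhs => rw [show N = N - 1 + 1 by omega, add_mul, one_mul]
    omega
  have hQ : 2 ≤ finrank k M := by
    by_contra h
    have h4 : finrank k M ^ 2 ≤ 1 ^ 2 := Nat.pow_le_pow_left (by omega) 2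
    rw [hW.card_eq] at h4
    have := Fintype.one_lt_card (α := A)
    omega
  rcases he with e | e
  · refine ⟨c, i₀, ?_, hc, Or.inl ⟨e, by omega⟩⟩
    rcases Nat.eq_zero_or_pos c with rfl | h
    · omega
    · exact h
  · exact ⟨c, i₀, by omega, hc, Or.inr ⟨e, by omega⟩⟩

end Cfsg.Agent.TwoLoss
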