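import Cfsg.Agent.Lib.TwoLoss.Average
import Cfsg.Agent.Lib.TwoLoss.Spectrum

/-!
# Extension of scalars to the algebraic closure of the prime field
-/

set_option autoImplicit false
set_option linter.unusedSectionVars false
set_option linter.style.haveILetI false

namespace Cfsg.Agent.TwoLoss

open TensorProduct Finset

universe u

variable (p : ℕ) [Fact p.Prime] {V : Type u} [AddCommGroup V] [Module (ZMod p) V]

/-- The algebraic closure of the prime field. -/
abbrev Kbar : Type := AlgebraicClosure (ZMod p)

/-- The extended space. -/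
abbrev Vbar (V : Type u) [AddCommGroup V] [Module (ZMod p) V] : Type u := Kbar p ⊗[ZMod p] V

/-- An automorphism as an endomorphism over the prime field. -/
def linP (g : Aut V) : Module.End (ZMod p) V :=
  AddMonoidHom.toZModLinearMap p g.toLinearMap.toAddMonoidHom

theorem linP_apply (g : Aut V) (x : V) : linP p g x = g x := rfl

/-- The extension of automorphisms. -/
noncomputable def ext : Aut V →* Module.End (Kbar p) (Vbar p V) where
  toFun g := (linP p g).baseChange (Kbar p)
  map_one' := by
    rw [show linP p (1 : Aut V) = 1 from LinearMap.ext fun _ => rfl, LinearMap.baseChange_one]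
  map_mul' g h := by
    rw [← LinearMap.baseChange_mul]
    rfl

theorem ext_tmul (g : Aut V) (c : Kbar p) (x : V) : ext p g (c ⊗ₜ x) = c ⊗ₜ g x := rfl

/-- A map fixing only zero stays so after extension. -/
theorem ext_fpf [Finite V] (g : Aut V) (h : ∀ x, g x = x → x = 0) (v : Vbar p V) (hv : ext p g v = v) :
    v = 0 := by
  have hinj : Function.Injective (linP p g - 1 : Module.End (ZMod p) V) := by
    rw [injective_iff_map_eq_zero]
    intro x hx
    rw [LinearMap.sub_apply, linP_apply, Module.End.one_apply, sub_eq_zero] at hx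
    exact h x hx
  have h2 : Function.Injective ((linP p g - 1 : Module.End (ZMod p) V).baseChange (Kbar p)) := by
    rw [LinearMap.baseChange_eq_ltensor]
    exact Module.Flat.lTensor_preserves_injective_linearMap _ hinj
  refine h2 ?_
  rw [map_zero, LinearMap.baseChange_sub, LinearMap.baseChange_one, LinearMap.sub_apply, Module.End.one_apply,
    sub_eq_zero]
  exact hv

/-- The orbit sum of a point. -/
def norm (a : Aut V) (r : ℕ) (x : V) : V := ∑ i ∈ range r, (a ^ i) x

theorem norm_fixed {a : Aut V} {r : ℕ} (h : a ^ r = 1) (x : V) : a (norm a r x) = norm a r x := by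
  rw [norm, map_sum]
  simp only [← aut_mul, ← pow_succ']
  have h1 := sum_range_succ' (fun i => (a ^ i) x) r
  rw [sum_range_succ (fun i => (a ^ i) x) r, h, pow_zero] at h1
  exact (add_right_cancel h1).symm

/-- A linear map killing `c ⊗ fixed` kills the fixed points of the extension. -/
theorem kill_fixed {N : Type*} [AddCommGroup N] [Module (Kbar p) N] (f : Vbar p V →ₗ[Kbar p] N) {a : Aut V}
    {r : ℕ} (hr : (r : Kbar p) ≠ 0) (har : a ^ r = 1) (h : ∀ x, a x = x → f ((1 : Kbar p) ⊗ₜ x) = 0)
    (v : Vbar p V) (hv : ext p a v = v) : f v = 0 := by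
  set P : Module.End (Kbar p) (Vbar p V) := ∑ i ∈ range r, ext p (a ^ i) with hP
  have hkill : ∀ y, f (P y) = 0 := by
    intro y
    induction y using TensorProduct.induction_on with
    | zero => simp
    | tmul c x =>
      rw [hP, LinearMap.sum_apply]
      simp only [ext_tmul, ← tmul_sum]
      rw [show c ⊗ₜ[ZMod p] (∑ i ∈ range r, (a ^ i) x) = c • ((1 : Kbar p) ⊗ₜ[ZMod p] norm a r x) by
        rw [TensorProduct.smul_tmul', smul_eq_mul, mul_one]; rfl, map_smul, h _ (norm_fixed har x), smul_zero]
    | add x y hx hy => rw [map_add, map_add, hx, hy, add_zero]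
  have hfix : ∀ i, ext p (a ^ i) v = v := by
    intro i
    induction i with
    | zero => simp
    | succ i ih => rw [pow_succ, map_mul, Module.End.mul_apply, hv, ih]
  have := hkill v
  rw [hP, LinearMap.sum_apply, sum_congr rfl fun i _ => hfix i, sum_const, card_range,
    ← Nat.cast_smul_eq_nsmul (Kbar p), map_smul] at this
  exact (smul_eq_zero.1 this).resolve_left hr

/-- The extension of a functional. -/
noncomputable def extFun (φ : V →+ ZMod p) : Vbar p V →ₗ[Kbar p] Kbar p :=
  (TensorProduct.AlgebraTensorModule.rid (ZMod p) (Kbar p) (Kbar p)).toLinearMap ∘ₗ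
    (AddMonoidHom.toZModLinearMap p φ).baseChange (Kbar p)

theorem extFun_tmul (φ : V →+ ZMod p) (c : Kbar p) (x : V) :
    extFun p φ (c ⊗ₜ x) = φ x • c := by
  simp [extFun, LinearMap.baseChange_tmul]

theorem extFun_one (φ : V →+ ZMod p) (x : V) :
    extFun p φ ((1 : Kbar p) ⊗ₜ x) = algebraMap (ZMod p) (Kbar p) (φ x) := by
  rw [extFun_tmul, Algebra.algebraMap_eq_smul_one]

end Cfsg.Agent.TwoLoss
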