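import Cfsg.Agent.Lib.TwoLoss.FreePair

/-!
# Components of a group of class two

`π` represents a finite group `W` with centre acting by scalars, faithfully, `W / Z(W)` being abelian. The span of
the image is a matrix algebra with a Weyl basis, and operators normalising the image act on it by conjugation.
-/

set_option autoImplicit false
set_option linter.unusedSectionVars false
set_option linter.style.haveILetI false

namespace Cfsg.Agent.TwoLoss

open Finset Module
open scoped commutatorElement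

universe uk uf uw ua

variable {k : Type uk} [Field k] {F : Type uf} [AddCommGroup F] [Module k F] [FiniteDimensional k F]
variable {W : Type uw} [Group W] [Finite W] {A : Type ua} [AddCommGroup A]

/-- A representation of class two with scalar centre, and a labelling of the classes of `W` modulo its centre. -/
structure ClassTwoRep (π : W →* Module.End k F) (lab : W → A) : Prop where
  add : ∀ v w, lab (v * w) = lab v + lab w
  surj : Function.Surjective lab
  ker : ∀ w, lab w = 0 ↔ w ∈ Subgroup.center W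
  scalar : ∀ z ∈ Subgroup.center W, ∃ c : k, π z = c • 1
  faithful : ∀ z ∈ Subgroup.center W, π z = 1 → z = 1
  card_ne : (Nat.card W : k) ≠ 0
  nontriv : Nontrivial F

/-- The matrix algebra of the representation. -/
structure Comp (π : W →* Module.End k F) (lab : W → A) where
  /-- the dimension -/
  n : ℕ
  /-- the embedding -/
  φ : Module.End k (Fin n → k) →ₐ[k] Module.End k F
  inj : Function.Injective φ
  /-- the basis -/
  ρ : A → Module.End k (Fin n → k)
  weyl : IsWeyl ρ
  scal : ∀ w, ∃ c : k, c ≠ 0 ∧ π w = c • φ (ρ (lab w))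
  range : ∀ X, φ X ∈ Submodule.span k (Set.range π)

variable {π : W →* Module.End k F} {lab : W → A}

namespace ClassTwoRep

theorem pi_inv (π : W →* Module.End k F) (w : W) : π w * π w⁻¹ = 1 := by rw [← map_mul, mul_inv_cancel, map_one]

theorem comm_mem (h : ClassTwoRep π lab) (v w : W) : ⁅v, w⁆ ∈ Subgroup.center W := by
  rw [← h.ker, commutatorElement_def, h.add, h.add, h.add]
  have h1 : ∀ x : W, lab x⁻¹ = - lab x := fun x => by
    rw [eq_neg_iff_add_eq_zero, ← h.add, inv_mul_cancel, h.ker]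
    exact one_mem _
  rw [h1, h1]; abel

theorem scalar_unit (h : ClassTwoRep π lab) {z : W} (hz : z ∈ Subgroup.center W) :
    ∃ c : k, c ≠ 0 ∧ π z = c • 1 := by
  obtain ⟨c, hc⟩ := h.scalar z hz
  refine ⟨c, fun e => ?_, hc⟩
  haveI := h.nontriv
  have := pi_inv π z
  rw [hc, e, zero_smul, zero_mul] at this
  exact zero_ne_one this

theorem same_label (h : ClassTwoRep π lab) {v w : W} (e : lab v = lab w) :
    ∃ c : k, c ≠ 0 ∧ π v = c • π w := by
  have hz : v * w⁻¹ ∈ Subgroup.center W := by
    rw [← h.ker, h.add, e, ← h.add, mul_inv_cancel, h.ker]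
    exact one_mem _
  obtain ⟨c, hc0, hc⟩ := h.scalar_unit hz
  exact ⟨c, hc0, by rw [show v = v * w⁻¹ * w by group, map_mul, hc, smul_mul_assoc, one_mul]⟩

/-- Averaging kills the noncentral images. -/
theorem avg [Fintype W] (h : ClassTwoRep π lab) (w : W) (hw : w ∉ Subgroup.center W) :
    ∑ g : W, π g * π w * π g⁻¹ = 0 := by
  classical
  obtain ⟨g₀, hg₀⟩ : ∃ g₀, g₀ * w ≠ w * g₀ := by
    by_contra hne
    push Not at hne
    exact hw (Subgroup.mem_center_iff.2 hne)
  obtain ⟨c, hc⟩ := h.scalar _ (h.comm_mem g₀ w)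
  have hc1 : c ≠ 1 := fun e => hg₀ <| by
    rw [e, one_smul] at hc
    exact commutatorElement_eq_one_iff_mul_comm.1 (h.faithful _ (h.comm_mem g₀ w) hc)
  set S := ∑ g : W, π g * π w * π g⁻¹ with hS
  have hshift : S = c • S := by
    conv_lhs => rw [hS, ← Equiv.sum_comp (Equiv.mulRight g₀)]
    rw [hS, smul_sum]
    refine sum_congr rfl fun g _ => ?_
    have e : π g₀ * π w * π g₀⁻¹ = c • π w := by
      rw [← one_mul (π w), ← smul_mul_assoc, ← hc, one_mul, ← map_mul, ← map_mul, ← map_mul, commutatorElement_def]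
      congr 1; group
    simp only [Equiv.coe_mulRight, mul_inv_rev, map_mul]
    calc π g * π g₀ * π w * (π g₀⁻¹ * π g⁻¹) = π g * (π g₀ * π w * π g₀⁻¹) * π g⁻¹ := by simp only [mul_assoc]
      _ = c • (π g * π w * π g⁻¹) := by rw [e, mul_smul_comm, smul_mul_assoc]
  have : ((1 : k) - c) • S = 0 := by rw [sub_smul, one_smul, ← hshift, sub_self]
  exact (smul_eq_zero.1 this).resolve_left (sub_ne_zero.2 (Ne.symm hc1))

/-- The representatives. -/
noncomputable def rep (h : ClassTwoRep π lab) (a : A) : W :=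
  open Classical in if a = 0 then 1 else (h.surj a).choose

theorem lab_rep (h : ClassTwoRep π lab) (a : A) : lab (h.rep a) = a := by
  classical
  unfold rep
  split_ifs with e
  · rw [e]; exact (h.ker 1).2 (one_mem _)
  · exact (h.surj a).choose_spec

theorem rep_zero (h : ClassTwoRep π lab) : h.rep 0 = 1 := by simp [rep]

theorem finite (h : ClassTwoRep π lab) : Finite A := Finite.of_surjective lab h.surj

theorem avg_rep [Fintype W] [Fintype A] (h : ClassTwoRep π lab) (x : A → k) :
    ∑ g : W, π g * (∑ a, x a • π (h.rep a)) * π g⁻¹ = ((Nat.card W : k) * x 0) • 1 := by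
  classical
  simp only [mul_sum, sum_mul, mul_smul_comm, smul_mul_assoc]
  rw [sum_comm]
  simp only [← smul_sum]
  rw [Finset.sum_eq_single (0 : A)]
  · simp [rep_zero, pi_inv, Nat.card_eq_fintype_card, ← Nat.cast_smul_eq_nsmul k, smul_smul, mul_comm]
  · intro a _ ha
    rw [h.avg _ fun e => ha (by rw [← h.lab_rep a]; exact (h.ker _).2 e), smul_zero]
  · simp

theorem span_rep (h : ClassTwoRep π lab) :
    Submodule.span k (Set.range π) = Submodule.span k (Set.range fun a => π (h.rep a)) := by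
  refine le_antisymm (Submodule.span_le.2 ?_) (Submodule.span_le.2 ?_)
  · rintro _ ⟨w, rfl⟩
    obtain ⟨c, _, hc⟩ := h.same_label (h.lab_rep (lab w)).symm
    rw [hc]
    exact Submodule.smul_mem _ _ (Submodule.subset_span ⟨lab w, rfl⟩)
  · rintro _ ⟨a, rfl⟩
    exact Submodule.subset_span ⟨h.rep a, rfl⟩

theorem shift (h : ClassTwoRep π lab) [Fintype A] (x : A → k) (b : A) :
    ∃ y : A → k, π (h.rep b)⁻¹ * (∑ a, x a • π (h.rep a)) = ∑ a, y a • π (h.rep a) ∧
      (x b ≠ 0 → y 0 ≠ 0) := by
  classical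
  have hlab : ∀ a, lab ((h.rep b)⁻¹ * h.rep a) = a - b := fun a => by
    have : lab (h.rep b) + lab ((h.rep b)⁻¹ * h.rep a) = a := by
      rw [← h.add, mul_inv_cancel_left, h.lab_rep]
    rw [h.lab_rep] at this
    rw [eq_sub_iff_add_eq, add_comm, this]
  choose c hc0 hc using fun a => h.same_label (v := (h.rep b)⁻¹ * h.rep a) (w := h.rep (a - b))
    ((hlab a).trans (h.lab_rep _).symm)
  refine ⟨fun a => x (a + b) * c (a + b), ?_, fun hx => ?_⟩
  · rw [mul_sum]
    refine (Fintype.sum_equiv (Equiv.addRight b) _ _ fun a => ?_).symm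
    rw [Equiv.coe_addRight, mul_smul_comm, ← map_mul, hc, smul_smul, add_sub_cancel_right]
  · simp only [zero_add]
    exact mul_ne_zero hx (hc0 b)

theorem indep (h : ClassTwoRep π lab) : LinearIndependent k fun a => π (h.rep a) := by
  classical
  haveI := h.finite
  haveI := Fintype.ofFinite A
  haveI := Fintype.ofFinite W
  haveI := h.nontriv
  rw [Fintype.linearIndependent_iff]
  intro x hx b
  by_contra hb
  obtain ⟨y, hy, hy0⟩ := h.shift x b
  rw [hx, mul_zero] at hy
  have := h.avg_rep y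
  rw [← hy] at this
  simp only [mul_zero, zero_mul, sum_const_zero] at this
  exact mul_ne_zero h.card_ne (hy0 hb) (by simpa using this.symm)

/-- **The matrix algebra exists.** -/
theorem nonempty_comp (h : ClassTwoRep π lab) [IsAlgClosed k] : Nonempty (Comp π lab) := by
  classical
  haveI := h.finite
  haveI := Fintype.ofFinite A
  haveI := Fintype.ofFinite W
  haveI := h.nontriv
  set Ssp := Submodule.span k (Set.range π) with hSsp
  have hmul : ∀ x y, x ∈ Ssp → y ∈ Ssp → x * y ∈ Ssp := by
    intro x y hx hy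
    refine Submodule.span_induction₂ (p := fun x y _ _ => x * y ∈ Ssp) ?_ ?_ ?_ ?_ ?_ ?_ ?_ hx hy
    · rintro _ _ ⟨v, rfl⟩ ⟨w, rfl⟩
      exact Submodule.subset_span ⟨v * w, map_mul π v w⟩
    · intro y _; rw [zero_mul]; exact zero_mem _
    · intro x _; rw [mul_zero]; exact zero_mem _
    · intro x y z _ _ _ h1 h2; rw [add_mul]; exact add_mem h1 h2
    · intro x y z _ _ _ h1 h2; rw [mul_add]; exact add_mem h1 h2
    · intro c x y _ _ h1; rw [smul_mul_assoc]; exact Submodule.smul_mem _ _ h1
    · intro c x y _ _ h1; rw [mul_smul_comm]; exact Submodule.smul_mem _ _ h1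
  let B : Subalgebra k (Module.End k F) :=
    Ssp.toSubalgebra (Submodule.subset_span ⟨1, map_one π⟩) hmul
  have hBmem : ∀ w, π w ∈ B := fun w => Submodule.subset_span ⟨w, rfl⟩
  haveI : Nontrivial B := ⟨⟨0, 1, fun e => zero_ne_one (congrArg Subtype.val e)⟩⟩
  haveI : IsSimpleRing B := by
    refine IsSimpleRing.of_eq_bot_or_eq_top fun I => ?_
    by_cases hI : ∀ x ∈ I, x = (0 : B)
    · left
      refine le_antisymm (fun x hx => by rw [hI x hx]; exact zero_mem _) bot_le
    right
    push Not at hI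
    obtain ⟨X, hX, hX0⟩ := hI
    have hXs : (X : Module.End k F) ∈ Submodule.span k (Set.range fun a => π (h.rep a)) := by
      rw [← h.span_rep]; exact X.2
    obtain ⟨x, hx⟩ := Submodule.mem_span_range_iff_exists_fun k |>.1 hXs
    obtain ⟨b, hb⟩ : ∃ b, x b ≠ 0 := by
      by_contra hne
      push Not at hne
      exact hX0 (Subtype.ext (by rw [← hx]; simp [hne]))
    obtain ⟨y, hy, hy0⟩ := h.shift x b
    set Y : B := ⟨π (h.rep b)⁻¹, hBmem _⟩ * X with hY
    have hYI : Y ∈ I := I.mul_mem_left _ _ hX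
    have hS : ∑ g : W, (⟨π g, hBmem g⟩ : B) * Y * ⟨π g⁻¹, hBmem _⟩ ∈ I :=
      sum_mem fun g _ => I.mul_mem_right _ _ (I.mul_mem_left _ _ hYI)
    have hval : (∑ g : W, (⟨π g, hBmem g⟩ : B) * Y * ⟨π g⁻¹, hBmem _⟩) =
        algebraMap k B ((Nat.card W : k) * y 0) := Subtype.ext <| by
      rw [AddSubmonoidClass.coe_finsetSum]
      simp only [MulMemClass.coe_mul, hY]
      rw [← hx, hy, h.avg_rep y, Subalgebra.coe_algebraMap, Algebra.algebraMap_eq_smul_one]
    rw [hval] at hS
    have hne : (Nat.card W : k) * y 0 ≠ 0 := mul_ne_zero h.card_ne (hy0 hb)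
    have h1 := I.mul_mem_left (algebraMap k B ((Nat.card W : k) * y 0)⁻¹) _ hS
    rw [← map_mul, inv_mul_cancel₀ hne, map_one] at h1
    exact I.one_mem_iff.1 h1
  obtain ⟨n, _, ⟨e⟩⟩ := IsSimpleRing.exists_algEquiv_matrix_of_isAlgClosed (F := k) (R := B)
  let e' : B ≃ₐ[k] Module.End k (Fin n → k) := e.trans Matrix.toLinAlgEquiv'
  refine ⟨{ n := n, φ := B.val.comp e'.symm.toAlgHom,
            inj := Subtype.val_injective.comp e'.symm.injective,
            ρ := fun a => e' ⟨π (h.rep a), hBmem _⟩, weyl := ?_, scal := ?_, range := ?_ }⟩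
  · refine ⟨?_, ?_, ?_, ?_⟩
    · rw [show (⟨π (h.rep 0), hBmem _⟩ : B) = 1 from Subtype.ext (by simp [h.rep_zero]), map_one]
    · intro v w
      obtain ⟨c, hc0, hc⟩ := h.same_label (v := h.rep v * h.rep w) (w := h.rep (v + w))
        (by rw [h.add, h.lab_rep, h.lab_rep, h.lab_rep])
      refine ⟨c, hc0, ?_⟩
      rw [← map_mul, ← map_smul]
      exact congrArg e' (Subtype.ext (by simpa [map_mul] using hc))
    · have hB : LinearIndependent k fun a => (⟨π (h.rep a), hBmem _⟩ : B) :=
        LinearIndependent.of_comp B.val.toLinearMap h.indep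
      exact hB.map' e'.toLinearMap (LinearMap.ker_eq_bot.2 e'.injective)
    · rw [eq_top_iff]
      intro X _
      obtain ⟨Y, rfl⟩ := e'.surjective X
      have hYs : (Y : Module.End k F) ∈ Submodule.span k (Set.range fun a => π (h.rep a)) := by
        rw [← h.span_rep]; exact Y.2
      obtain ⟨x, hx⟩ := Submodule.mem_span_range_iff_exists_fun k |>.1 hYs
      rw [show Y = ∑ a, x a • (⟨π (h.rep a), hBmem _⟩ : B) from Subtype.ext (by simp [← hx]), map_sum]
      exact Submodule.sum_mem _ fun a _ => by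
        rw [map_smul]; exact Submodule.smul_mem _ _ (Submodule.subset_span ⟨a, rfl⟩)
  · intro w
    obtain ⟨c, hc0, hc⟩ := h.same_label (h.lab_rep (lab w)).symm
    exact ⟨c, hc0, by simpa using hc⟩
  · intro X
    exact (e'.symm X).2

end ClassTwoRep

namespace Comp

/-- A normalising operator is induced by a unit of the matrix algebra. -/
theorem exists_unit (K : Comp π lab) (hsurj : Function.Surjective lab) (T : (Module.End k F)ˣ)
    {α : A ≃ₗ[ℤ] A}
    (hT : ∀ w, ∃ w', (T : Module.End k F) * π w = π w' * T ∧ lab w' = α (lab w)) :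
    ∃ u : (Module.End k (Fin K.n → k))ˣ,
      (∀ X : Module.End k (Fin K.n → k), (T : Module.End k F) * K.φ X =
        K.φ ((u : Module.End k (Fin K.n → k)) * X * (↑u⁻¹ : Module.End k (Fin K.n → k))) * T) ∧
      Induces K.ρ u α := by
  classical
  let cT : Module.End k F →ₐ[k] Module.End k F :=
    { toFun := fun X => (T : Module.End k F) * X * (↑T⁻¹ : Module.End k F)
      map_one' := by simp
      map_mul' := fun X Y => by simp [mul_assoc]
      map_zero' := by simp
      map_add' := fun X Y => by simp [mul_add, add_mul]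
      commutes' := fun c => by simp [Algebra.algebraMap_eq_smul_one] }
  have hmem : ∀ X, cT (K.φ X) ∈ K.φ.range := by
    intro X
    have hspan : Submodule.span k (Set.range π) ≤ (K.φ.range.comap cT).toSubmodule := by
      rw [Submodule.span_le]
      rintro _ ⟨w, rfl⟩
      obtain ⟨w', h1, -⟩ := hT w
      obtain ⟨c, -, hc⟩ := K.scal w'
      refine ⟨c • K.ρ (lab w'), ?_⟩
      show K.φ _ = (T : Module.End k F) * π w * (↑T⁻¹ : Module.End k F)
      rw [h1, Units.mul_inv_cancel_right, hc, map_smul]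
    exact hspan (K.range X)
  let g : Module.End k (Fin K.n → k) →ₐ[k] Module.End k (Fin K.n → k) :=
    (AlgEquiv.ofInjective K.φ K.inj).symm.toAlgHom.comp ((cT.comp K.φ).codRestrict K.φ.range hmem)
  have hg : ∀ X, K.φ (g X) = cT (K.φ X) := fun X => by
    have := congrArg Subtype.val ((AlgEquiv.ofInjective K.φ K.inj).apply_symm_apply ⟨cT (K.φ X), hmem X⟩)
    rw [AlgEquiv.ofInjective_apply] at this
    exact this
  have hgi : Function.Injective g := fun X Y e => K.inj <| by
    have e2 := congrArg K.φ e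
    rw [hg, hg] at e2
    exact (Units.mul_right_inj T).1 ((Units.mul_left_inj T⁻¹).1 e2)
  obtain ⟨L, hL⟩ := (AlgEquiv.ofBijective g
    ⟨hgi, LinearMap.surjective_of_injective (f := g.toLinearMap) hgi⟩).eq_linearEquivConjAlgEquiv
  let u : (Module.End k (Fin K.n → k))ˣ := LinearMap.GeneralLinearGroup.ofLinearEquiv L
  have hu : ∀ X, K.φ ((u : Module.End k (Fin K.n → k)) * X * (↑u⁻¹ : Module.End k (Fin K.n → k))) =
      cT (K.φ X) := fun X => by
    rw [← hg]
    exact congrArg K.φ (AlgEquiv.congr_fun hL X).symm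
  refine ⟨u, fun X => ?_, fun v => ?_⟩
  · rw [hu]
    exact (Units.inv_mul_cancel_right _ T).symm
  · obtain ⟨w, rfl⟩ := hsurj v
    obtain ⟨c, hc0, hc⟩ := K.scal w
    obtain ⟨w', h1, h2⟩ := hT w
    obtain ⟨c', -, hc'⟩ := K.scal w'
    refine ⟨c⁻¹ * c', ?_⟩
    rw [← smul_mul_assoc, ← Units.mul_inv_eq_iff_eq_mul]
    refine K.inj ?_
    rw [hu, map_smul, mul_smul, ← h2, ← hc']
    show (T : Module.End k F) * K.φ (K.ρ (lab w)) * (↑T⁻¹ : Module.End k F) = _
    rw [show K.φ (K.ρ (lab w)) = c⁻¹ • π w by rw [hc, inv_smul_smul₀ hc0], mul_smul_comm,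
      smul_mul_assoc, h1, Units.mul_inv_cancel_right]

/-- `u` induces conjugation by `T` on the matrix algebra and `α` on the labels. -/
structure Lifts (K : Comp π lab) (T : (Module.End k F)ˣ) (α : A ≃ₗ[ℤ] A)
    (u : (Module.End k (Fin K.n → k))ˣ) : Prop where
  conj : ∀ X : Module.End k (Fin K.n → k), (T : Module.End k F) * K.φ X =
    K.φ ((u : Module.End k (Fin K.n → k)) * X * (↑u⁻¹ : Module.End k (Fin K.n → k))) * T
  ind : Induces K.ρ u α

theorem scalar_of_fix (K : Comp π lab) [Finite A] (x : (Module.End k (Fin K.n → k))ˣ)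
    (h : ∀ X : Module.End k (Fin K.n → k),
      (x : Module.End k (Fin K.n → k)) * X * (↑x⁻¹ : Module.End k (Fin K.n → k)) = X) :
    ∃ c : k, (x : Module.End k (Fin K.n → k)) = c • 1 :=
  K.weyl.scalar_of_commute _ fun v => by
    conv_rhs => rw [← h (K.ρ v)]
    rw [Units.inv_mul_cancel_right]

theorem conj_pow (K : Comp π lab) {T : (Module.End k F)ˣ} {u : (Module.End k (Fin K.n → k))ˣ}
    (h : ∀ X : Module.End k (Fin K.n → k), (T : Module.End k F) * K.φ X =
      K.φ ((u : Module.End k (Fin K.n → k)) * X * (↑u⁻¹ : Module.End k (Fin K.n → k))) * T) :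
    ∀ (n : ℕ) (X : Module.End k (Fin K.n → k)), ((T ^ n : (Module.End k F)ˣ) : Module.End k F) * K.φ X =
      K.φ (((u ^ n : (Module.End k (Fin K.n → k))ˣ) : Module.End k (Fin K.n → k)) * X *
        (↑(u ^ n)⁻¹ : Module.End k (Fin K.n → k))) * ↑(T ^ n)
  | 0, X => by simp
  | n + 1, X => by
    rw [pow_succ', Units.val_mul, mul_assoc, conj_pow K h n, ← mul_assoc, h, mul_assoc, pow_succ' u,
      mul_inv_rev, Units.val_mul, Units.val_mul]
    simp only [mul_assoc]

/-- A lift of the same order. -/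
theorem exists_lift (K : Comp π lab) [IsAlgClosed k] [Finite A] [Nontrivial (Fin K.n → k)]
    (hsurj : Function.Surjective lab) (T : (Module.End k F)ˣ) {α : A ≃ₗ[ℤ] A}
    (hT : ∀ w, ∃ w', (T : Module.End k F) * π w = π w' * T ∧ lab w' = α (lab w)) {n : ℕ} (hn : 0 < n)
    (hTn : ∀ w, Commute ((T ^ n : (Module.End k F)ˣ) : Module.End k F) (π w)) :
    ∃ u, Lifts K T α u ∧ u ^ n = 1 := by
  obtain ⟨u, hu, hui⟩ := K.exists_unit hsurj T hT
  obtain ⟨c, hc⟩ := K.scalar_of_fix (u ^ n) fun X => K.inj (by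
    have := K.conj_pow hu n X
    have hX : Commute ((T ^ n : (Module.End k F)ˣ) : Module.End k F) (K.φ X) := by
      have hm := K.range X
      generalize K.φ X = Z at hm ⊢
      induction hm using Submodule.span_induction with
      | mem x hx => obtain ⟨w, rfl⟩ := hx; exact hTn w
      | zero => exact Commute.zero_right _
      | add x y _ _ hx hy => exact hx.add_right hy
      | smul c x _ hx => exact hx.smul_right c
    rw [hX.eq] at this
    exact ((Units.mul_left_inj (T ^ n)).1 this).symm)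
  have hc0 : c ≠ 0 := fun e => (u ^ n).ne_zero (by rw [hc, e, zero_smul])
  obtain ⟨z, hz⟩ := IsAlgClosed.exists_pow_nat_eq c⁻¹ hn
  have hz0 : z ≠ 0 := fun e => inv_ne_zero hc0 (by rw [← hz, e, zero_pow hn.ne'])
  let zu : (Module.End k (Fin K.n → k))ˣ := Units.map (algebraMap k _).toMonoidHom (Units.mk0 z hz0)
  have hzv : (zu : Module.End k (Fin K.n → k)) = z • 1 := Algebra.algebraMap_eq_smul_one z
  have hzc : Commute zu u := Units.ext (Algebra.commutes z (u : Module.End k (Fin K.n → k)))
  refine ⟨zu * u, ⟨fun X => ?_, fun v => ?_⟩, ?_⟩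
  · rw [hu, Units.val_mul, mul_inv_rev, Units.val_mul]
    congr 2
    have hx := Algebra.commutes z ((u : Module.End k (Fin K.n → k)) * X * (↑u⁻¹ : Module.End k (Fin K.n → k)))
    calc (u : Module.End k (Fin K.n → k)) * X * ↑u⁻¹
        = (zu : Module.End k (Fin K.n → k)) * ((u : Module.End k (Fin K.n → k)) * X * ↑u⁻¹) *
          (↑zu⁻¹ : Module.End k (Fin K.n → k)) := by
          rw [show (zu : Module.End k (Fin K.n → k)) * ((u : Module.End k (Fin K.n → k)) * X * ↑u⁻¹) =
            ((u : Module.End k (Fin K.n → k)) * X * ↑u⁻¹) * zu from hx, Units.mul_inv_cancel_right]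
      _ = _ := by simp only [mul_assoc]
  · obtain ⟨c', hc'⟩ := hui v
    refine ⟨c', ?_⟩
    rw [Units.val_mul, hzv, smul_mul_assoc, one_mul, smul_mul_assoc, hc', mul_smul_comm, smul_comm]
  · refine Units.ext ?_
    rw [hzc.mul_pow, Units.val_mul, hc, Units.val_pow_eq_pow_val, hzv, smul_pow, one_pow, smul_mul_assoc,
      one_mul, hz, smul_smul, inv_mul_cancel₀ hc0, one_smul, Units.val_one]

/-- Lifts of commuting operators of coprime orders commute. -/
theorem lifts_commute (K : Comp π lab) [Finite A] [Nontrivial (Fin K.n → k)] {T T' : (Module.End k F)ˣ}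
    {α η : A ≃ₗ[ℤ] A} {u w : (Module.End k (Fin K.n → k))ˣ} (hu : Lifts K T α u) (hw : Lifts K T' η w)
    {r d : ℕ} (hur : u ^ r = 1) (hwd : w ^ d = 1) (hrd : r.Coprime d) (hTT : Commute T T') : Commute u w := by
  have hkey : ∀ X, (u : Module.End k (Fin K.n → k)) * ((w : Module.End k (Fin K.n → k)) * X * ↑w⁻¹) * ↑u⁻¹ =
      (w : Module.End k (Fin K.n → k)) * ((u : Module.End k (Fin K.n → k)) * X * ↑u⁻¹) * ↑w⁻¹ := by
    intro X
    refine K.inj ((Units.mul_left_inj (T * T')).1 ?_)
    calc K.φ ((u : Module.End k (Fin K.n → k)) * ((w : Module.End k (Fin K.n → k)) * X * ↑w⁻¹) * ↑u⁻¹) * ↑(T * T')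
        = (T : Module.End k F) * K.φ ((w : Module.End k (Fin K.n → k)) * X * ↑w⁻¹) * T' := by
          rw [Units.val_mul, ← mul_assoc, ← hu.conj]
      _ = ↑(T * T') * K.φ X := by rw [mul_assoc, ← hw.conj, ← mul_assoc, Units.val_mul]
      _ = (T' : Module.End k F) * K.φ ((u : Module.End k (Fin K.n → k)) * X * ↑u⁻¹) * T := by
          rw [hTT.eq, Units.val_mul, mul_assoc, hu.conj, ← mul_assoc]
      _ = K.φ ((w : Module.End k (Fin K.n → k)) * ((u : Module.End k (Fin K.n → k)) * X * ↑u⁻¹) * ↑w⁻¹) *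
            ↑(T * T') := by
          rw [hw.conj, hTT.eq, Units.val_mul, mul_assoc]
  obtain ⟨c, hc⟩ := K.scalar_of_fix ((w * u)⁻¹ * (u * w)) fun X => by
    calc _ = (↑(w * u)⁻¹ : Module.End k (Fin K.n → k)) *
          ((u : Module.End k (Fin K.n → k)) * ((w : Module.End k (Fin K.n → k)) * X * ↑w⁻¹) * ↑u⁻¹) * ↑(w * u) := by
          simp [mul_inv_rev, mul_assoc]
      _ = X := by rw [hkey]; simp [mul_inv_rev, mul_assoc]
  have hcuw : (u : Module.End k (Fin K.n → k)) * w = c • ((w : Module.End k (Fin K.n → k)) * u) := by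
    rw [← Units.val_mul, ← Units.val_mul, show u * w = w * u * ((w * u)⁻¹ * (u * w)) by group, Units.val_mul, hc,
      mul_smul_comm, mul_one]
  have hup : ∀ n : ℕ, (u : Module.End k (Fin K.n → k)) ^ n * w =
      c ^ n • ((w : Module.End k (Fin K.n → k)) * (u : Module.End k (Fin K.n → k)) ^ n) := by
    intro n
    induction n with
    | zero => simp
    | succ n ih =>
      rw [pow_succ', mul_assoc, ih, mul_smul_comm, ← mul_assoc, hcuw, smul_mul_assoc, smul_smul, mul_assoc,
        pow_succ]
  have hwp : ∀ n : ℕ, (u : Module.End k (Fin K.n → k)) * (w : Module.End k (Fin K.n → k)) ^ n =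
      c ^ n • ((w : Module.End k (Fin K.n → k)) ^ n * u) := by
    intro n
    induction n with
    | zero => simp
    | succ n ih =>
      rw [pow_succ, ← mul_assoc, ih, smul_mul_assoc, mul_assoc, hcuw, mul_smul_comm, smul_smul, mul_assoc,
        pow_succ]
  have hr1 : c ^ r = 1 := by
    have := hup r
    rw [← Units.val_pow_eq_pow_val, hur, Units.val_one, one_mul, mul_one] at this
    exact smul_left_injective k w.ne_zero (this.symm.trans (one_smul k _).symm)
  have hd1 : c ^ d = 1 := by
    have := hwp d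
    rw [← Units.val_pow_eq_pow_val, hwd, Units.val_one, one_mul, mul_one] at this
    exact smul_left_injective k u.ne_zero (this.symm.trans (one_smul k _).symm)
  have hc1 : c = 1 := by
    rw [← pow_one c, ← orderOf_dvd_iff_pow_eq_one, ← hrd.gcd_eq_one]
    exact Nat.dvd_gcd (orderOf_dvd_of_pow_eq_one hr1) (orderOf_dvd_of_pow_eq_one hd1)
  exact Units.ext (by rw [Units.val_mul, Units.val_mul, hcuw, hc1, one_smul])

end Comp

end Cfsg.Agent.TwoLoss
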