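import Cfsg.Agent.Lib.TwoLoss.Average
import Cfsg.Agent.Lib.TwoLoss.Component

/-!
# Labels: a group of class two modulo its centre
-/

set_option autoImplicit false
set_option linter.unusedSectionVars false

namespace Cfsg.Agent.TwoLoss

open Subgroup
open scoped commutatorElement

universe u

variable {G : Type u} [Group G] (W : Subgroup G)

/-- The classes of `W` modulo its centre, written additively. -/
abbrev Lab : Type u := Additive (Abelianization (↥W ⧸ Subgroup.center ↥W))

/-- The label of an element. -/
def toLab (w : W) : Lab W := Additive.ofMul (Abelianization.of (QuotientGroup.mk w))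

theorem toLab_mul (v w : W) : toLab W (v * w) = toLab W v + toLab W w := by
  simp [toLab]

theorem toLab_surjective : Function.Surjective (toLab W) := by
  intro a
  obtain ⟨x, hx⟩ := Quotient.exists_rep (Additive.toMul a)
  obtain ⟨w, hw⟩ := QuotientGroup.mk_surjective x
  exact ⟨w, by rw [toLab, hw]; exact hx⟩

/-- The induced automorphism of the labels. -/
noncomputable def labAut (g : normalizer (W : Set G)) : Lab W ≃ₗ[ℤ] Lab W :=
  (MulEquiv.toAdditive (QuotientGroup.congr (Subgroup.center ↥W) (Subgroup.center ↥W) (W.normalizerMonoidHom g)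
    (Subgroup.characteristic_iff_map_eq.1 inferInstance _)).abelianizationCongr).toIntLinearEquiv

theorem labAut_apply (g : normalizer (W : Set G)) (w : W) :
    labAut W g (toLab W w) = toLab W (W.normalizerMonoidHom g w) := rfl

theorem labAut_mul (g h : normalizer (W : Set G)) : labAut W (g * h) = labAut W g * labAut W h := by
  refine LinearEquiv.ext fun a => ?_
  obtain ⟨w, rfl⟩ := toLab_surjective W a
  rw [LinearEquiv.mul_apply, labAut_apply, labAut_apply, labAut_apply, map_mul]
  rfl

/-- The action on the labels. -/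
noncomputable def labHom : normalizer (W : Set G) →* (Lab W ≃ₗ[ℤ] Lab W) := MonoidHom.mk' (labAut W) (labAut_mul W)

theorem labHom_apply (g : normalizer (W : Set G)) (w : W) :
    labHom W g (toLab W w) = toLab W ⟨(g : G) * w * (g : G)⁻¹,
      (mem_normalizer_iff.1 g.2 w).1 w.2⟩ := rfl

/-- Only central elements have label zero when the derived subgroup is central. -/
theorem toLab_eq_zero (h : ∀ v w : W, ⁅v, w⁆ ∈ Subgroup.center ↥W) (w : W) :
    toLab W w = 0 ↔ w ∈ Subgroup.center ↥W := by
  have hQ : commutator (↥W ⧸ Subgroup.center ↥W) = ⊥ := by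
    rw [commutator_def, eq_bot_iff, Subgroup.commutator_le]
    intro x _ y _
    obtain ⟨v, rfl⟩ := QuotientGroup.mk_surjective x
    obtain ⟨v', rfl⟩ := QuotientGroup.mk_surjective y
    rw [mem_bot]
    show ⁅QuotientGroup.mk' (Subgroup.center ↥W) v, QuotientGroup.mk' (Subgroup.center ↥W) v'⁆ = 1
    rw [← map_commutatorElement]
    exact (QuotientGroup.eq_one_iff _).2 (h v v')
  rw [toLab, ofMul_eq_zero, ← MonoidHom.mem_ker, Abelianization.ker_of, hQ, mem_bot, QuotientGroup.eq_one_iff]

theorem toLab_eq_iff (h : ∀ v w : W, ⁅v, w⁆ ∈ Subgroup.center ↥W) (v w : W) :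
    toLab W v = toLab W w ↔ v⁻¹ * w ∈ Subgroup.center ↥W := by
  rw [← toLab_eq_zero W h]
  have h1 : toLab W v + toLab W (v⁻¹ * w) = toLab W w := by rw [← toLab_mul, mul_inv_cancel_left]
  constructor
  · intro e
    rw [e] at h1
    exact add_left_cancel (h1.trans (add_zero _).symm)
  · intro e
    rw [e, add_zero] at h1
    exact h1

end Cfsg.Agent.TwoLoss
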