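import Cfsg.Agent.Lib.TwoLoss.Rank
import Cfsg.Agent.Lib.TwoLoss.Labels
import Cfsg.Agent.Lib.TwoLoss.Extend

/-!
# Frames: a group of class two with a fixed point free automorphism of its central quotient

`W` acts on the elementary group `V` with cyclic centre acting semiregularly; `a` has prime order, fixes the
centre and fixes no nontrivial class modulo the centre.
-/

set_option autoImplicit false
set_option linter.unusedSectionVars false
set_option linter.style.haveILetI false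

namespace Cfsg.Agent.TwoLoss

open Subgroup Module
open scoped commutatorElement

universe u

variable {V : Type u} [AddCommGroup V] [Finite V]

/-- The hypotheses. -/
structure Frame (p q r : ℕ) (a : Aut V) (W : Subgroup (Aut V)) : Prop where
  hp : p.Prime
  hq : q.Prime
  hr : r.Prime
  elem : ∀ x : V, p • x = 0
  qp : q ≠ p
  rp : r ≠ p
  rq : r ≠ q
  nt : Nontrivial V
  pgroup : IsPGroup q W
  apow : a ^ r = 1
  norm : a ∈ normalizer (W : Set (Aut V))
  class2 : ∀ v ∈ W, ∀ w ∈ W, ⁅v, w⁆ ∈ centralizer (W : Set (Aut V))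
  nonab : ¬ W ≤ centralizer (W : Set (Aut V))
  fixC : ∀ z ∈ W, z ∈ centralizer (W : Set (Aut V)) → a * z = z * a
  fpf : ∀ w ∈ W, ⁅a, w⁆ ∈ centralizer (W : Set (Aut V)) → w ∈ centralizer (W : Set (Aut V))
  cyclic : ∃ z₀ ∈ W, z₀ ∈ centralizer (W : Set (Aut V)) ∧
    ∀ z ∈ W, z ∈ centralizer (W : Set (Aut V)) → z ∈ zpowers z₀
  semis : ∀ z ∈ W, z ∈ centralizer (W : Set (Aut V)) → z ≠ 1 → ∀ x, z x = x → x = 0

/-- An element commuting with `a`, normalising `W` and centralising its centre. -/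
structure Good (a : Aut V) (W : Subgroup (Aut V)) (y : Aut V) : Prop where
  comm : a * y = y * a
  norm : y ∈ normalizer (W : Set (Aut V))
  centre : ∀ z ∈ W, z ∈ centralizer (W : Set (Aut V)) → y * z = z * y

/-- `y` has order `d` on `W` modulo its centre and acts semiregularly. -/
structure FreeOn (W : Subgroup (Aut V)) (y : Aut V) (d : ℕ) : Prop where
  pow : ∀ w ∈ W, ⁅y ^ d, w⁆ ∈ centralizer (W : Set (Aut V))
  free : ∀ i : ℕ, ¬ d ∣ i → ∀ w ∈ W, ⁅y ^ i, w⁆ ∈ centralizer (W : Set (Aut V)) →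
    w ∈ centralizer (W : Set (Aut V))

variable {p q r : ℕ} {a : Aut V} {W : Subgroup (Aut V)}

theorem mem_center_iff' (w : W) :
    w ∈ Subgroup.center ↥W ↔ (w : Aut V) ∈ centralizer (W : Set (Aut V)) := by
  rw [Subgroup.mem_center_iff, mem_centralizer_iff]
  exact ⟨fun h g hg => congrArg Subtype.val (h ⟨g, hg⟩), fun h g => Subtype.ext (h g g.2)⟩

namespace Frame

theorem class2' (h : Frame p q r a W) (v w : W) : ⁅v, w⁆ ∈ Subgroup.center ↥W :=
  (mem_center_iff' _).2 (h.class2 v v.2 w w.2)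

theorem goodA (h : Frame p q r a W) : Good a W a := ⟨rfl, h.norm, h.fixC⟩

theorem lab_eq (h : Frame p q r a W) (g : normalizer (W : Set (Aut V))) (w : W) :
    labHom W g (toLab W w) = toLab W w ↔ ⁅(g : Aut V), (w : Aut V)⁆ ∈ centralizer (W : Set (Aut V)) := by
  rw [labHom_apply, eq_comm, toLab_eq_iff W h.class2', mem_center_iff']
  show (w : Aut V)⁻¹ * ((g : Aut V) * w * (g : Aut V)⁻¹) ∈ _ ↔ _
  have e : ⁅(g : Aut V), (w : Aut V)⁆ = (w : Aut V) * ((w : Aut V)⁻¹ * ((g : Aut V) * w * (g : Aut V)⁻¹)) *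
      (w : Aut V)⁻¹ := by rw [commutatorElement_def]; group
  rw [e]
  constructor
  · intro hz
    rw [← (mem_centralizer_iff.1 hz w w.2).symm, mul_inv_cancel_right]
    exact hz
  · intro hz
    have := mem_centralizer_iff.1 hz (w : Aut V)⁻¹ (inv_mem w.2)
    set z := (w : Aut V) * ((w : Aut V)⁻¹ * ((g : Aut V) * w * (g : Aut V)⁻¹)) * (w : Aut V)⁻¹ with hz'
    have e2 : (w : Aut V)⁻¹ * ((g : Aut V) * w * (g : Aut V)⁻¹) = (w : Aut V)⁻¹ * z * w := by rw [hz']; group
    rw [e2, this, inv_mul_cancel_right]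
    exact hz

theorem free_labels (h : Frame p q r a W) {y : Aut V} (hy : y ∈ normalizer (W : Set (Aut V))) {d : ℕ}
    (hd : FreeOn W y d) : Semireg (labHom W ⟨y, hy⟩) d := by
  refine ⟨LinearEquiv.ext fun x => ?_, fun i hi x hx => ?_⟩
  · obtain ⟨w, rfl⟩ := toLab_surjective W x
    rw [← map_pow, LinearEquiv.coe_one, id_eq, h.lab_eq, SubgroupClass.coe_pow]
    exact hd.pow w w.2
  · obtain ⟨w, rfl⟩ := toLab_surjective W x
    rw [← map_pow, h.lab_eq, SubgroupClass.coe_pow] at hx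
    rw [toLab_eq_zero W h.class2', mem_center_iff']
    exact hd.free i hi w w.2 hx

theorem alpha_free (h : Frame p q r a W) : FreeOn W a r := by
  refine ⟨fun w hw => by rw [h.apow, commutatorElement_one_left]; exact one_mem _, fun i hi w hw hc => ?_⟩
  set α := labHom W ⟨a, h.norm⟩ with hα
  have h1 : (α ^ i) (toLab W ⟨w, hw⟩) = toLab W ⟨w, hw⟩ := by
    rw [hα, ← map_pow, h.lab_eq, SubgroupClass.coe_pow]; exact hc
  have hr : α ^ r = 1 := by
    rw [hα, ← map_pow, show (⟨a, h.norm⟩ : normalizer (W : Set (Aut V))) ^ r = 1 from Subtype.ext h.apow, map_one]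
  have hfix : ∀ n : ℕ, ((α ^ i) ^ n) (toLab W ⟨w, hw⟩) = toLab W ⟨w, hw⟩ := by
    intro n
    induction n with
    | zero => rfl
    | succ n ih => rw [pow_succ', LinearEquiv.mul_apply, ih, h1]
  obtain ⟨n, hn⟩ := Nat.exists_mul_mod_eq_one_of_coprime ((h.hr.coprime_iff_not_dvd.2 hi).symm) h.hr.one_lt
  have h2 := hfix n
  rw [← pow_mul, ← Nat.mod_add_div (i * n) r, hn.2, pow_add, pow_one, pow_mul, hr, one_pow, mul_one, hα,
    h.lab_eq] at h2
  exact h.fpf w hw h2

theorem lab_nontrivial (h : Frame p q r a W) : Nontrivial (Lab W) := by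
  obtain ⟨w, hw, hwc⟩ := SetLike.not_le_iff_exists.1 h.nonab
  exact ⟨⟨toLab W ⟨w, hw⟩, 0, fun e => hwc ((mem_center_iff' _).1 ((toLab_eq_zero W h.class2' _).1 e))⟩⟩

/-- An element centralising the centre and the classes centralises `W`. -/
theorem centralizes (h : Frame p q r a W) {y : Aut V} (hy : Good a W y)
    (hc : ∀ w ∈ W, ⁅y, w⁆ ∈ centralizer (W : Set (Aut V))) : ∀ w ∈ W, y * w = w * y := by
  intro w hw
  set α := labHom W ⟨a, h.norm⟩ with hα
  have hinj : Function.Injective fun x => α x - x := by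
    intro x x' e
    simp only at e
    have : α (x - x') = x - x' := by rw [map_sub]; linear_combination (norm := abel) e
    rw [← sub_eq_zero]
    refine (h.free_labels h.norm h.alpha_free).free 1 (fun hd => h.hr.ne_one (Nat.dvd_one.1 hd)) _ ?_
    rw [pow_one]; exact this
  obtain ⟨x, hx⟩ := (Finite.injective_iff_surjective.1 hinj) (toLab W ⟨w, hw⟩)
  obtain ⟨w', rfl⟩ := toLab_surjective W x
  have hcw : ⁅a, (w' : Aut V)⁆ ∈ W := by
    rw [commutatorElement_def]
    exact mul_mem ((mem_normalizer_iff.1 h.norm w').1 w'.2) (inv_mem w'.2)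
  have hz : ⁅a, (w' : Aut V)⁆⁻¹ * w ∈ centralizer (W : Set (Aut V)) := by
    have e : toLab W ⟨⁅a, (w' : Aut V)⁆, hcw⟩ = toLab W ⟨w, hw⟩ := by
      rw [← hx]
      simp only [hα, labHom_apply]
      rw [eq_sub_iff_add_eq, ← toLab_mul]
      congr 1
      exact Subtype.ext (show ⁅a, (w' : Aut V)⁆ * (w' : Aut V) = a * w' * a⁻¹ by
        rw [commutatorElement_def]; group)
    exact (mem_center_iff' _).1 ((toLab_eq_iff W h.class2' _ _).1 e)
  -- `y` commutes with `⁅a, w'⁆`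
  set f := ⁅y, (w' : Aut V)⁆ with hf
  have hfW : f ∈ W := by
    rw [hf, commutatorElement_def]
    exact mul_mem ((mem_normalizer_iff.1 hy.norm w').1 w'.2) (inv_mem w'.2)
  have hfc := hc w' w'.2
  have hfa : a * f * a⁻¹ = f := by rw [h.fixC f hfW hfc, mul_inv_cancel_right]
  have h1 : y * ⁅a, (w' : Aut V)⁆ = ⁅a, (w' : Aut V)⁆ * y := by
    have e0 : y * (w' : Aut V) * y⁻¹ = f * w' := by rw [hf, commutatorElement_def]; group
    have ea : y * a * y⁻¹ = a := by rw [← hy.comm, mul_inv_cancel_right]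
    rw [← mul_inv_eq_iff_eq_mul]
    calc y * ⁅a, (w' : Aut V)⁆ * y⁻¹
        = (y * a * y⁻¹) * (y * w' * y⁻¹) * (y * a * y⁻¹)⁻¹ * (y * w' * y⁻¹)⁻¹ := by
          rw [commutatorElement_def]; group
      _ = (a * f * a⁻¹) * (a * w' * a⁻¹) * (w' : Aut V)⁻¹ * f⁻¹ := by rw [ea, e0]; group
      _ = ⁅a, (w' : Aut V)⁆ := by
          have hX : a * (w' : Aut V) * a⁻¹ * (w' : Aut V)⁻¹ * f = f * (a * w' * a⁻¹ * (w' : Aut V)⁻¹) :=
            mem_centralizer_iff.1 hfc _ (mul_mem ((mem_normalizer_iff.1 h.norm w').1 w'.2) (inv_mem w'.2))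
          rw [hfa, show f * (a * (w' : Aut V) * a⁻¹) * (w' : Aut V)⁻¹ = f * (a * w' * a⁻¹ * (w' : Aut V)⁻¹) by group,
            ← hX, mul_inv_cancel_right, commutatorElement_def]
  have h2 := hy.centre _ (mul_mem (inv_mem hcw) hw) hz
  calc y * w = y * ⁅a, (w' : Aut V)⁆ * (⁅a, (w' : Aut V)⁆⁻¹ * w) := by group
    _ = ⁅a, (w' : Aut V)⁆ * ((⁅a, (w' : Aut V)⁆⁻¹ * w) * y) := by rw [h1, mul_assoc, h2]
    _ = w * y := by group

end Frame

end Cfsg.Agent.TwoLoss
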