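import Cfsg.Agent.Lib.TwoLoss.Restrict
import Cfsg.Agent.Lib.TwoLoss.Frame
import Cfsg.Agent.Lib.Coprime.Generation

/-!
# Frames from a group generated by its moved elements
-/

set_option autoImplicit false
set_option linter.unusedSectionVars false
set_option linter.style.haveILetI false

namespace Cfsg.Agent.TwoLoss

open Subgroup Finset
open scoped commutatorElement

universe u

variable {V : Type u} [AddCommGroup V] [Finite V]

theorem coprime_of_pgroup {q n : ℕ} (hq : q.Prime) (hn : n.Prime) (hne : n ≠ q) {W : Subgroup (Aut V)}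
    (hW : IsPGroup q W) : (Nat.card W).Coprime n := by
  haveI := Fact.mk hq
  obtain ⟨e, he⟩ := IsPGroup.iff_card.1 hW
  rw [he]
  exact Nat.Coprime.pow_left _ ((Nat.coprime_primes hq hn).2 hne.symm)

/-- A commutative group acting semiregularly is cyclic. -/
theorem cyclic_of_semireg {p : ℕ} (hp : ∀ x : V, p • x = 0) [Nontrivial V] {X : Subgroup (Aut V)}
    (hXp : (Nat.card X).Coprime p) (hXc : ∀ x ∈ X, ∀ y ∈ X, x * y = y * x)
    (hfree : ∀ x ∈ X, x ≠ 1 → ∀ v, x v = v → v = 0) : ∃ z ∈ X, ∀ x ∈ X, x ∈ zpowers z := by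
  classical
  letI : CommGroup X := { (inferInstance : Group X) with mul_comm := fun x y => Subtype.ext (hXc x x.2 y y.2) }
  by_cases hc : IsCyclic X
  · obtain ⟨g, hg⟩ := hc.exists_generator
    refine ⟨g, g.2, fun x hx => ?_⟩
    obtain ⟨n, hn⟩ := mem_zpowers_iff.1 (hg ⟨x, hx⟩)
    exact mem_zpowers_iff.2 ⟨n, congrArg Subtype.val hn⟩
  exfalso
  obtain ⟨q, hq, x, y, hx1, hxq, hyq, hyx⟩ := Coprime.exists_two_independent_of_not_isCyclic X hc
  have hx1' : (x : Aut V) ≠ 1 := fun e => hx1 (Subtype.ext e)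
  have hxq' : (x : Aut V) ^ q = 1 := by simpa using congrArg Subtype.val hxq
  have hyq' : (y : Aut V) ^ q = 1 := by simpa using congrArg Subtype.val hyq
  let ρ : X →* (Multiplicative V ≃* Multiplicative V) := MonoidHom.mk'
    (fun e => AddEquiv.toMultiplicative (e : Aut V).toAddEquiv) (fun e e' => MulEquiv.ext fun v => rfl)
  have hind : ∀ j : ℕ, y * x ^ j ≠ 1 := fun j e => hyx (by
    rw [eq_inv_of_mul_eq_one_left e]; exact inv_mem (pow_mem (mem_zpowers x) j))
  obtain ⟨v, hv⟩ := exists_ne (0 : V)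
  have h := Coprime.pow_mem_of_fixed_mem ρ ⊥ hq (x := y) (y := x) (Commute.all _ _) hxq hyq hx1 hind
    (fun e v he hev => Subgroup.mem_bot.2 (hfree e e.2 (fun h => he (Subtype.ext h)) _ hev : (Multiplicative.toAdd v) = 0))
    (Multiplicative.ofAdd v)
  rw [Subgroup.mem_bot] at h
  have h0 : q • v = 0 := congrArg Multiplicative.toAdd h
  have hqd : q ∣ Nat.card X := by
    haveI := Fact.mk hq
    rw [← orderOf_eq_prime hxq hx1]
    exact orderOf_dvd_natCard x
  exact hv (AddSubgroup.mem_bot.1 (torsion_mem hp (hXp.coprime_dvd_left hqd) (L := ⊥) (AddSubgroup.mem_bot.2 h0)))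

/-- A group generated by moved elements, of class two, with centre fixed by `a`. -/
structure Core (p q r : ℕ) (a : Aut V) (W : Subgroup (Aut V)) : Prop where
  hp : p.Prime
  hq : q.Prime
  hr : r.Prime
  elem : ∀ x : V, p • x = 0
  qp : q ≠ p
  rp : r ≠ p
  rq : r ≠ q
  pgroup : IsPGroup q W
  apow : a ^ r = 1
  norm : a ∈ normalizer (W : Set (Aut V))
  class2 : ∀ v ∈ W, ∀ w ∈ W, ⁅v, w⁆ ∈ centralizer (W : Set (Aut V))
  gen : ⁅W, zpowers a⁆ = W
  fixC : ∀ z ∈ W, z ∈ centralizer (W : Set (Aut V)) → a * z = z * a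

namespace Core

variable {p q r : ℕ} {a : Aut V} {W : Subgroup (Aut V)}

theorem coprime_p (h : Core p q r a W) : (Nat.card W).Coprime p := coprime_of_pgroup h.hq h.hp h.qp.symm h.pgroup

theorem coprime_r (h : Core p q r a W) : (Nat.card W).Coprime r := coprime_of_pgroup h.hq h.hr h.rq h.pgroup

/-- The centre of `W`. -/
abbrev centre (W : Subgroup (Aut V)) : Subgroup (Aut V) := W ⊓ centralizer (W : Set (Aut V))

theorem commutator_le (h : Core p q r a W) : ⁅W, W⁆ ≤ centre W := by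
  rw [Subgroup.commutator_le]
  refine fun v hv w hw => mem_inf.2 ⟨?_, h.class2 v hv w hw⟩
  rw [commutatorElement_def]
  exact mul_mem (mul_mem (mul_mem hv hw) (inv_mem hv)) (inv_mem hw)

/-- The fixed elements are central. -/
theorem fixed_central (h : Core p q r a W) {w : Aut V} (hw : w ∈ W) (hc : a * w = w * a) :
    w ∈ centralizer (W : Set (Aut V)) :=
  (h.commutator_le (fixed_le_derived h.hr h.apow h.norm h.coprime_r h.gen
    (mem_inf.2 ⟨hw, mem_centralizer_iff.2 fun x hx => by rw [Set.mem_singleton_iff.1 hx]; exact hc⟩))).2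

theorem centre_norm (h : Core p q r a W) {y : Aut V} (hy : y ∈ normalizer (W : Set (Aut V))) :
    y ∈ normalizer (centre W : Set (Aut V)) := by
  refine mem_normalizer_iff_map_conj_eq.2 (eq_of_le_of_card_ge ?_
    (card_map_of_injective (MulAut.conj y).injective).ge)
  rintro _ ⟨z, hz, rfl⟩
  refine ⟨(mem_normalizer_iff.1 hy z).1 hz.1, mem_centralizer_iff.2 fun w hw => ?_⟩
  have hw' : y⁻¹ * w * y ∈ W := (mem_normalizer_iff''.1 hy w).1 hw
  have := mem_centralizer_iff.1 hz.2 _ hw'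
  show w * (y * z * y⁻¹) = y * z * y⁻¹ * w
  calc w * (y * z * y⁻¹) = y * ((y⁻¹ * w * y) * z) * y⁻¹ := by group
    _ = y * (z * (y⁻¹ * w * y)) * y⁻¹ := by rw [this]
    _ = y * z * y⁻¹ * w := by group

end Core

/-- A component: a subgroup `E` invariant under everything respecting `M` and the centre, on which the centre
acts semiregularly modulo its kernel. -/
structure Piece2 (W : Subgroup (Aut V)) (M E : AddSubgroup V) : Prop where
  ne : E ≠ ⊥
  le : E ≤ M
  leM : M ≤ moved ⁅W, W⁆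
  W_stab : W ≤ stab E
  stab_of : ∀ y, (∀ x ∈ M, y x ∈ M) → (∀ z ∈ Core.centre W, y * z = z * y) → y ∈ stab E
  semis : ∀ z ∈ Core.centre W, ∀ x ∈ E, x ≠ 0 → z x = x → ∀ x' ∈ E, z x' = x'

namespace Core

variable {p q r : ℕ} {a : Aut V} {W : Subgroup (Aut V)}

theorem exists_piece (h : Core p q r a W) (M : AddSubgroup V) (hM : M ≠ ⊥) (hMd : M ≤ moved ⁅W, W⁆)
    (hMW : ∀ w ∈ W, ∀ x ∈ M, w x ∈ M) : ∃ E, Piece2 W M E := by
  classical
  have hex : ∃ Z₀ : Subgroup (Aut V), Z₀ ≤ centre W ∧ ∃ x ∈ M, x ≠ 0 ∧ ∀ z ∈ Z₀, z x = x := by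
    obtain ⟨x, hx, hx0⟩ : ∃ x ∈ M, x ≠ 0 := by
      by_contra hne
      push Not at hne
      exact hM ((AddSubgroup.eq_bot_iff_forall _).2 hne)
    exact ⟨⊥, bot_le, x, hx, hx0, fun z hz => by rw [mem_bot.1 hz]; rfl⟩
  obtain ⟨Z₀, ⟨hZ₀, x₀, hx₀, hx₀0, hfix⟩, hmax⟩ :=
    (Set.toFinite {Z₀ : Subgroup (Aut V) | Z₀ ≤ centre W ∧ ∃ x ∈ M, x ≠ 0 ∧ ∀ z ∈ Z₀, z x = x}).exists_maximal hex
  let E : AddSubgroup V :=
    { carrier := {x | x ∈ M ∧ ∀ z ∈ Z₀, z x = x}
      zero_mem' := ⟨zero_mem M, fun z _ => map_zero z⟩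
      add_mem' := fun {x y} hx hy => ⟨add_mem hx.1 hy.1, fun z hz => by rw [map_add, hx.2 z hz, hy.2 z hz]⟩
      neg_mem' := fun {x} hx => ⟨neg_mem hx.1, fun z hz => by rw [map_neg, hx.2 z hz]⟩ }
  have hstab : ∀ y, (∀ x ∈ M, y x ∈ M) → (∀ z ∈ centre W, y * z = z * y) → y ∈ stab E := by
    intro y hyM hyz
    refine mem_stab_of_map fun x hx => ⟨hyM x hx.1, fun z hz => ?_⟩
    rw [← aut_mul, ← hyz z (hZ₀ hz), aut_mul, hx.2 z hz]
  refine ⟨E, fun e => hx₀0 ?_, fun x hx => hx.1, hMd, fun w hw => hstab w (hMW w hw) fun z hz =>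
    mem_centralizer_iff.1 hz.2 w hw, hstab, ?_⟩
  · exact AddSubgroup.mem_bot.1 (e ▸ (⟨hx₀, hfix⟩ : x₀ ∈ E))
  · intro z hz x hx hx0 hzx x' hx'
    by_contra hne
    have hz₀ : z ∉ Z₀ := fun hmem => hne (hx'.2 z hmem)
    refine hz₀ (hmax (y := Z₀ ⊔ zpowers z) ⟨sup_le hZ₀ (zpowers_le.2 hz), x, hx.1, hx0, ?_⟩ le_sup_left
      (mem_sup_right (mem_zpowers z)))
    have : Z₀ ⊔ zpowers z ≤ MulAction.stabilizer (Aut V) x :=
      sup_le (fun w hw => MulAction.mem_stabilizer_iff.2 (hx.2 w hw)) (zpowers_le.2 (MulAction.mem_stabilizer_iff.2 hzx))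
    exact fun w hw => MulAction.mem_stabilizer_iff.1 (this hw)

theorem _root_.Cfsg.Agent.TwoLoss.Piece2.a_mem (h : Core p q r a W) {M E : AddSubgroup V}
    (hE : Piece2 W M E) (hMa : ∀ x ∈ M, a x ∈ M) : a ∈ stab E :=
  hE.stab_of a hMa fun z hz => h.fixC z hz.1 hz.2

/-- The image on a piece is a frame, if the elements central on it commute with `a` on it. -/
theorem frame (h : Core p q r a W) {M E : AddSubgroup V} (hE : Piece2 W M E) (ha : a ∈ stab E)
    (hab : ∀ w ∈ W, (∀ v ∈ W, ∀ x ∈ E, ⁅w, v⁆ x = x) → ∀ x ∈ E, ⁅a, w⁆ x = x) :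
    Frame p q r (resE E ⟨a, ha⟩) (img E W) := by
  haveI := Fact.mk h.hq
  set ā := resE E ⟨a, ha⟩ with hā
  have hW := hE.W_stab
  have hēl : ∀ x : E, p • x = 0 := fun x => Subtype.ext (by simpa using h.elem (x : V))
  have hnorm : ā ∈ normalizer (img E W : Set (Aut E)) := img_norm h.norm
  have hfix : ∀ w : stab E, (w : Aut V) ∈ W → resE E w ∈ centralizer (img E W : Set (Aut E)) →
      ā * resE E w = resE E w * ā := by
    intro w hw hc
    have h1 : ∀ x ∈ E, ⁅a, (w : Aut V)⁆ x = x := by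
      refine hab w hw fun v hv x hx => ?_
      have e := mem_centralizer_iff.1 hc _ (mem_img.2 ⟨⟨v, hW hv⟩, hv, rfl⟩)
      have e2 : resE E ⁅w, ⟨v, hW hv⟩⁆ = 1 := by
        rw [map_commutatorElement, commutatorElement_eq_one_iff_mul_comm, e]
      exact (resE_eq_one _).1 e2 x hx
    have e3 : resE E ⁅(⟨a, ha⟩ : stab E), w⁆ = 1 := (resE_eq_one _).2 h1
    rwa [map_commutatorElement, commutatorElement_eq_one_iff_mul_comm] at e3
  have hcentre : ∀ z ∈ img E W, z ∈ centralizer (img E W : Set (Aut E)) →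
      ∃ c : stab E, (c : Aut V) ∈ centre W ∧ resE E c = z := by
    intro z hz hzc
    obtain ⟨w, hw, rfl⟩ := mem_img.1 hz
    obtain ⟨g, hg, hga, hgr⟩ := lift_fixed hW (a := ⟨a, ha⟩) h.apow h.norm h.coprime_r (mem_img.2 ⟨w, hw, rfl⟩)
      (hfix w hw hzc)
    exact ⟨g, ⟨hg, h.fixed_central hg hga⟩, hgr⟩
  refine
    { hp := h.hp, hq := h.hq, hr := h.hr, elem := hēl, qp := h.qp, rp := h.rp, rq := h.rq
      nt := ?_, pgroup := ?_, apow := ?_, norm := hnorm, class2 := ?_, nonab := ?_, fixC := ?_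
      fpf := ?_, cyclic := ?_, semis := ?_ }
  · obtain ⟨x, hx, hx0⟩ : ∃ x ∈ E, x ≠ 0 := by
      by_contra hne
      push Not at hne
      exact hE.ne ((AddSubgroup.eq_bot_iff_forall _).2 hne)
    exact ⟨⟨⟨x, hx⟩, 0, fun e => hx0 (congrArg Subtype.val e)⟩⟩
  · exact (h.pgroup.comap_of_injective _ (stab E).subtype_injective).map (resE E)
  · rw [← map_pow, show (⟨a, ha⟩ : stab E) ^ r = 1 from Subtype.ext h.apow, map_one]
  · rintro _ hv _ hw
    obtain ⟨v, hvW, rfl⟩ := mem_img.1 hv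
    obtain ⟨w, hwW, rfl⟩ := mem_img.1 hw
    refine mem_centralizer_iff.2 ?_
    rintro _ hx
    obtain ⟨x, hxW, rfl⟩ := mem_img.1 hx
    rw [← map_commutatorElement, ← map_mul, ← map_mul]
    exact congrArg _ (Subtype.ext (mem_centralizer_iff.1 (h.class2 v hvW w hwW) x hxW))
  · intro hab'
    obtain ⟨x, hx, hx0⟩ : ∃ x ∈ E, x ≠ 0 := by
      by_contra hne
      push Not at hne
      exact hE.ne ((AddSubgroup.eq_bot_iff_forall _).2 hne)
    refine hx0 (eq_zero_of_moved h.elem (h.coprime_p.coprime_dvd_left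
      (card_dvd_of_le fun z hz => (h.commutator_le hz).1)) (hE.leM (hE.le hx)) ?_)
    have hle : ⁅W, W⁆ ≤ MulAction.stabilizer (Aut V) x := by
      rw [Subgroup.commutator_le]
      intro v hv w hw
      have e := mem_centralizer_iff.1 (hab' (mem_img.2 ⟨⟨v, hW hv⟩, hv, rfl⟩)) _
        (mem_img.2 ⟨⟨w, hW hw⟩, hw, rfl⟩)
      have e2 : resE E ⁅(⟨v, hW hv⟩ : stab E), ⟨w, hW hw⟩⁆ = 1 := by
        rw [map_commutatorElement, commutatorElement_eq_one_iff_mul_comm, e]
      exact MulAction.mem_stabilizer_iff.2 ((resE_eq_one _).1 e2 x hx)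
    exact fun g hg => MulAction.mem_stabilizer_iff.1 (hle hg)
  · intro z hz hzc
    obtain ⟨w, hw, rfl⟩ := mem_img.1 hz
    exact hfix w hw hzc
  · intro w hw hc
    obtain ⟨w, hwW, rfl⟩ := mem_img.1 hw
    -- the commutator is fixed, hence trivial
    set f := ⁅ā, resE E w⁆ with hf
    have hfW : f ∈ img E W := by
      rw [hf, commutatorElement_def]
      exact mul_mem ((mem_normalizer_iff.1 hnorm _).1 hw) (inv_mem hw)
    obtain ⟨f', hf', hff'⟩ := mem_img.1 hfW
    have hfa : ā * f = f * ā := by rw [← hff']; exact hfix f' hf' (hff' ▸ hc)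
    have hiter : ∀ n : ℕ, ā ^ n * resE E w * (ā ^ n)⁻¹ = f ^ n * resE E w := by
      intro n
      induction n with
      | zero => simp
      | succ n ih =>
        have e1 : ā ^ (n + 1) * resE E w * (ā ^ (n + 1))⁻¹ = ā * (ā ^ n * resE E w * (ā ^ n)⁻¹) * ā⁻¹ := by
          rw [pow_succ']; group
        have e2 : ā * f ^ n * ā⁻¹ = f ^ n := by
          rw [((show Commute ā f from hfa).pow_right n).eq, mul_inv_cancel_right]
        rw [e1, ih, show ā * (f ^ n * resE E w) * ā⁻¹ = (ā * f ^ n * ā⁻¹) * (f * resE E w) by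
          rw [hf, commutatorElement_def]; group, e2, ← mul_assoc, ← pow_succ]
    have hr := hiter r
    rw [← map_pow, show (⟨a, ha⟩ : stab E) ^ r = 1 from Subtype.ext h.apow, map_one, inv_one, one_mul, mul_one,
      right_eq_mul] at hr
    have hf1 : f = 1 := by
      have hd : orderOf f ∣ r := orderOf_dvd_of_pow_eq_one hr
      have hd2 : orderOf f ∣ Nat.card W := (Subgroup.orderOf_dvd_natCard (img E W) hfW).trans (card_img_dvd E W)
      exact orderOf_eq_one_iff.1 (Nat.eq_one_of_dvd_coprimes h.coprime_r hd2 hd)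
    rw [hf, commutatorElement_eq_one_iff_mul_comm] at hf1
    obtain ⟨g, hg, hga, hgr⟩ := lift_fixed hW (a := ⟨a, ha⟩) h.apow h.norm h.coprime_r hw hf1
    rw [← hgr]
    refine mem_centralizer_iff.2 ?_
    rintro _ hx
    obtain ⟨x, hxW, rfl⟩ := mem_img.1 hx
    rw [← map_mul, ← map_mul]
    exact congrArg _ (Subtype.ext (mem_centralizer_iff.1 (h.fixed_central hg hga) x hxW))
  · haveI : Nontrivial E := by
      by_contra hne
      rw [not_nontrivial_iff_subsingleton] at hne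
      exact hE.ne ((AddSubgroup.eq_bot_iff_forall _).2 fun x hx =>
        congrArg Subtype.val (Subsingleton.elim (⟨x, hx⟩ : E) 0))
    obtain ⟨z, hz, hgen⟩ := cyclic_of_semireg (p := p) hēl (X := img E W ⊓ centralizer (img E W : Set (Aut E)))
      ((h.coprime_p.coprime_dvd_left (card_img_dvd E W)).coprime_dvd_left (card_dvd_of_le inf_le_left))
      (fun x hx y hy => mem_centralizer_iff.1 hy.2 x hx.1)
      (fun x hx hx1 v hv => by
        obtain ⟨c, hc, rfl⟩ := hcentre x hx.1 hx.2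
        by_contra hv0
        refine hx1 ((resE_eq_one _).2 (hE.semis c hc (v : V) v.2 (fun e => hv0 (Subtype.ext e)) ?_))
        exact congrArg Subtype.val hv)
    exact ⟨z, hz.1, hz.2, fun x hx hxc => hgen x ⟨hx, hxc⟩⟩
  · intro z hz hzc hz1 v hv
    obtain ⟨c, hc, rfl⟩ := hcentre z hz hzc
    by_contra hv0
    refine hz1 ((resE_eq_one _).2 (hE.semis c hc (v : V) v.2 (fun e => hv0 (Subtype.ext e)) ?_))
    exact congrArg Subtype.val hv

end Core

end Cfsg.Agent.TwoLoss
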