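import Cfsg.Agent.Lib.TwoLoss.Family
import Cfsg.Agent.Lib.TwoLoss.MakeFrame

/-!
# The bottom step
-/

set_option autoImplicit false
set_option linter.unusedSectionVars false
set_option linter.style.haveILetI false

namespace Cfsg.Agent.TwoLoss

open Subgroup
open scoped commutatorElement

universe u

variable {V : Type u} [AddCommGroup V] [Finite V]

/-- The fixed moved points of a group generated by its moved elements vanish if the fixed points are bad. -/
theorem fixed_moved_eq_zero {p r : ℕ} (hp : ∀ x : V, p • x = 0) (hr : r.Prime) (hrp : r.Coprime p) {a : Aut V}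
    (har : a ^ r = 1) {T X : Subgroup (Aut V)} [Group.IsNilpotent X] (hXT : X ≤ T)
    (haX : a ∈ normalizer (X : Set (Aut V))) (hXr : (Nat.card X).Coprime r) (hXp : (Nat.card X).Coprime p)
    (hgen : ⁅X, zpowers a⁆ = X) {K : AddSubgroup V} (hK : Covered a T K) (hfix : ∀ v, a v = v → v ∈ K)
    {v : V} (hv : a v = v) (hvm : v ∈ moved X) : v = 0 := by
  obtain ⟨𝓛, hmeet, hadm⟩ := hK
  refine hmeet v hv fun L hL => ?_
  rcases hadm L hL with hKL | ⟨-, hdi⟩
  · exact hKL (hfix v hv)
  exact delta_mem (δ := AddMonoidHom.id V) hr har haX hXr hgen (fun x hx => torsion_mem hp hrp hx)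
    (fun _ _ _ => rfl) (fun _ => rfl) hfix (fun g hg => hdi g (hXT hg)) v hv (moved_le_closure hp hXp hvm)

namespace Step

variable {p q r : ℕ} {a : Aut V} {G W Y N : Subgroup (Aut V)}

set_option maxHeartbeats 800000 in
/-- **The bottom step.** -/
theorem base (h : Step p q r 0 a G W Y N) (hres : res 1 (fixG a G) = ⊥) {K : AddSubgroup V}
    (hK : Covered a (res 1 G) K) (hfix : ∀ v, a v = v → v ∈ K) : False := by
  classical
  haveI := Fact.mk h.sec.hq
  have hWp := h.sec.pgroup
  have har := h.level.apow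
  have hlev := h.sec.level h.level.hr har h.level.coprime
  set α := qHom W ⟨a, h.sec.a_W⟩ with hα
  have hαr : α ^ r = 1 := hlev.apow
  have hNY : qImg W N = qImg W Y := by rw [← res_zero (qImg W N), h.sec.res_level]
  haveI hnil : Group.IsNilpotent (qImg W Y) := by
    rw [← hNY]; exact (res_succ_eq_bot_iff (qImg W N) 0).1 hlev.bot
  have hKV : ∀ v, α v = v → v ∈ KV a W := by
    intro v hv
    obtain ⟨w, hwa, rfl⟩ := qHom_lift_fixed hWp (a := ⟨a, h.sec.a_W⟩) har h.Wr hv
    refine ⟨w, h.bad_mem hK w.2 hwa fun u hu => AddSubgroup.sub_mem _ (hfix _ ?_) (hfix u hu), rfl⟩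
    rw [← aut_mul, hwa, aut_mul, hu]
  have hcov := h.covered
  rw [res_zero, hNY] at hcov
  have hYr : (Nat.card (qImg W Y)).Coprime r := h.Yr.coprime_dvd_left (qImg_card_dvd W h.sec.Y_norm)
  have hYq : (Nat.card (qImg W Y)).Coprime q := h.sec.Y_q.coprime_dvd_left (qImg_card_dvd W h.sec.Y_norm)
  have hαY : α ∈ normalizer (qImg W Y : Set (Aut (Vq W))) := hNY ▸ hlev.norm
  have hAY : zpowers α ≤ normalizer (qImg W Y : Set (Aut (Vq W))) := zpowers_le.2 hαY
  set X := ⁅qImg W Y, zpowers α⁆ with hX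
  have hXY : X ≤ qImg W Y := Coprime.commutator_le_of_le_normalizer hAY
  haveI : Group.IsNilpotent X := by
    obtain ⟨m, hm⟩ := (isNilpotent_iff_lowerCentralSeries (qImg W Y)).1 hnil
    exact (isNilpotent_iff_lowerCentralSeries X).2 ⟨m, le_bot_iff.1 ((lowerCentralSeries_mono m hXY).trans hm.le)⟩
  have hαX : α ∈ normalizer (X : Set (Aut (Vq W))) := normalizer_commutator_zpowers hαY rfl
  have hYX : qImg W Y ≤ normalizer (X : Set (Aut (Vq W))) := Subgroup.normalizer_commutator_ge_left _ _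
  have hXgen : ⁅X, zpowers α⁆ = X := Coprime.commutator_commutator_eq hAY
    (by rw [Nat.card_zpowers]; exact hYr.symm.coprime_dvd_left (orderOf_dvd_of_pow_eq_one hαr))
    (Or.inl (Coprime.isSolvable_of_isMulCommutative _))
  have hXq : (Nat.card X).Coprime q := hYq.coprime_dvd_left (card_dvd_of_le hXY)
  have hno : ∀ v, α v = v → v = 0 := by
    intro v hv
    rcases hlev.irred (fixed X) (fun x hx => fixed_inv hαX hx)
      (fun g hg x hx => fixed_inv (hYX (hNY ▸ hg)) hx) with hF | hF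
    · refine fixed_moved_eq_zero hlev.elem hlev.hr ((Nat.coprime_primes hlev.hr hlev.hp).2 hlev.rp) hαr hXY hαX
        (hYr.coprime_dvd_left (card_dvd_of_le hXY)) hXq hXgen hcov hKV hv ?_
      obtain ⟨c, m, rfl, hc, hm, -⟩ := split hlev.elem hXq v
      rw [show c = 0 from AddSubgroup.mem_bot.1 (hF ▸ (show c ∈ fixed X from hc)), zero_add]
      exact hm
    -- `a` commutes with the image of `Y`
    have hcomm : ∀ x ∈ qImg W Y, α * x = x * α := by
      intro x hx
      have h1 : ⁅x, α⁆ = 1 := by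
        refine LinearEquiv.ext fun u => ?_
        have hu : u ∈ fixed X := hF ▸ AddSubgroup.mem_top u
        exact hu _ (commutator_mem_commutator hx (mem_zpowers α))
      exact (commutatorElement_eq_one_iff_mul_comm.1 h1).symm
    let F : AddSubgroup (Vq W) :=
      { carrier := {u | α u = u}
        zero_mem' := map_zero α
        add_mem' := fun {x y} hx hy => by
          show α (x + y) = x + y
          rw [map_add, show α x = x from hx, show α y = y from hy]
        neg_mem' := fun {x} hx => by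
          show α (-x) = -x
          rw [map_neg, show α x = x from hx] }
    rcases hlev.irred F (fun x hx => by show α (α x) = α x; rw [show α x = x from hx, show α x = x from hx])
      (fun g hg x hx => by
        show α (g x) = g x
        rw [← aut_mul, hcomm g (hNY ▸ hg), aut_mul, show α x = x from hx]) with hF' | hF'
    · exact AddSubgroup.mem_bot.1 (hF' ▸ (show v ∈ F from hv))
    exfalso
    have hαw : ∀ w ∈ W, ⁅a, w⁆ ∈ phi W := fun w hw => (qHom_eq_iff hWp ⟨a, h.sec.a_W⟩ ⟨w, hw⟩).1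
      (show toQ W ⟨w, hw⟩ ∈ F from hF' ▸ AddSubgroup.mem_top _)
    set Q := fixG a W with hQ
    have hQW : Q ≤ W := inf_le_left
    have hQphi : Q ⊔ phi W = W := by
      refine le_antisymm (sup_le hQW (phi_le W)) fun w hw => ?_
      obtain ⟨c, hc, hca, x, hx, rfl⟩ := h.decompose hw
      refine mul_mem (mem_sup_left (mem_fixG.2 ⟨hc, hca⟩)) (mem_sup_right ?_)
      have hle : X2 a W ≤ phi W := by
        rw [Subgroup.commutator_le]
        intro v hv b hb
        obtain ⟨j, rfl⟩ := mem_powers_iff_mem_zpowers.mpr hb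
        show ⁅v, a ^ j⁆ ∈ phi W
        have hd : (qHom W ⟨a, h.sec.a_W⟩) ^ j = 1 := by
          have h1 : qHom W ⟨a, h.sec.a_W⟩ = 1 := (qHom_eq_one hWp _).2 hαw
          rw [h1, one_pow]
        rw [← map_pow] at hd
        have := (qHom_eq_one hWp _).1 hd v hv
        rw [SubgroupClass.coe_pow] at this
        rw [← commutatorElement_inv]; exact inv_mem this
      exact hle hx
    have hQeq : Q = W := phi_nongen hQW hQphi
    set CY := fixG a Y with hCY
    have hCYW : CY ≤ normalizer (W : Set (Aut V)) := inf_le_left.trans h.sec.Y_norm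
    have hgen : ⁅W, CY⁆ = W := by
      refine phi_nongen (Coprime.commutator_le_of_le_normalizer hCYW) (le_antisymm
        (sup_le (Coprime.commutator_le_of_le_normalizer hCYW) (phi_le W)) ?_)
      conv_lhs => rw [← h.sec.gen]
      rw [Subgroup.commutator_le]
      intro w hw y hy
      set yy : normalizer (W : Set (Aut V)) := ⟨y, h.sec.Y_norm hy⟩
      obtain ⟨z, hz, hza, hze⟩ := qImg_lift_fixed h.sec.Y_norm (a := ⟨a, h.sec.a_W⟩) har h.aY h.Yr
        (mem_qImg.2 ⟨yy, hy, rfl⟩) (hcomm _ (mem_qImg.2 ⟨yy, hy, rfl⟩))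
      have hm : ⁅w, (z : Aut V)⁆ ∈ W := Coprime.commutator_le_of_le_normalizer hCYW
        (commutator_mem_commutator hw (mem_fixG.2 ⟨hz, hza⟩))
      have hm' : ⁅w, y⁆ ∈ W := Coprime.commutator_le_of_le_normalizer h.sec.Y_norm (commutator_mem_commutator hw hy)
      have e : toQ W ⟨_, hm'⟩ = toQ W ⟨_, hm⟩ := by
        have hg : ∀ (g : normalizer (W : Set (Aut V))) (hgm : ⁅w, (g : Aut V)⁆ ∈ W),
            toQ W ⟨_, hgm⟩ = toQ W ⟨w, hw⟩ - qHom W g (toQ W ⟨w, hw⟩) := fun g hgm => by
          rw [qHom_apply, eq_sub_iff_add_eq, ← toQ_mul]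
          congr 1
          exact Subtype.ext (show ⁅w, (g : Aut V)⁆ * ((g : Aut V) * w * (g : Aut V)⁻¹) = w by
            rw [commutatorElement_def]; group)
        rw [hg yy hm', hg z hm, hze]
      rw [show ⁅w, y⁆ = ⁅w, (z : Aut V)⁆ * (⁅w, (z : Aut V)⁆⁻¹ * ⁅w, y⁆) by group]
      exact mul_mem (mem_sup_left (commutator_mem_commutator hw (mem_fixG.2 ⟨hz, hza⟩)))
        (mem_sup_right ((toQ_eq hWp ⟨_, hm⟩ ⟨_, hm'⟩).1 e.symm))
    obtain ⟨i, hi⟩ := IsPGroup.iff_card.1 hWp
    refine h.sec.W_ne (le_bot_iff.1 ?_)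
    rw [← hgen, ← hres]
    refine commutator_le_res (k := 0) (fun w hw => mem_fixG.2 ⟨h.sec.W_G hw, (mem_fixG.1 (hQeq.symm.le hw)).2⟩)
      (fun y hy => mem_fixG.2 ⟨?_, (mem_fixG.1 hy).2⟩) hCYW
      (hi ▸ (Nat.Coprime.pow_right i (h.sec.Y_q.coprime_dvd_left (card_dvd_of_le inf_le_left))))
      (Or.inr (Coprime.isSolvable_of_isPGroup hWp))
    exact h.sec.N_le ((h.sec.Y_le (mem_fixG.1 hy).1))
  -- `W` is generated by its moved elements
  have hWgen : ⁅W, zpowers a⁆ = W := by
    refine phi_nongen h.X2_le (le_antisymm (sup_le h.X2_le (phi_le W)) fun w hw => ?_)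
    obtain ⟨c, hc, hca, x, hx, rfl⟩ := h.decompose hw
    refine mul_mem (mem_sup_right ((toQ_eq_zero hWp ⟨c, hc⟩).1 (hno _ ?_))) (mem_sup_left hx)
    refine (qHom_eq_iff hWp ⟨a, h.sec.a_W⟩ ⟨c, hc⟩).2 ?_
    rw [commutatorElement_eq_one_iff_mul_comm.2 hca]
    exact one_mem _
  haveI : Group.IsNilpotent W := hWp.isNilpotent
  have hrp := (Nat.coprime_primes h.level.hr h.level.hp).2 h.level.rp
  have hnoV : ∀ v, a v = v → v ∈ moved W → v = 0 := fun v hv hvm =>
    fixed_moved_eq_zero h.level.elem h.level.hr hrp har h.sec.W_le h.sec.a_W h.Wr h.Wp hWgen hK hfix hv hvm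
  have hmono : ∀ X : Subgroup (Aut V), X ≤ W → moved X ≤ moved W := fun X hX u hu =>
    closure_le_moved (AddSubgroup.closure_mono (by rintro _ ⟨x, hx, y, e⟩; exact ⟨x, hX hx, y, e⟩)
      (moved_le_closure h.level.elem (h.Wp.coprime_dvd_left (card_dvd_of_le hX)) hu))
  obtain ⟨hX1, haX1, hfpf⟩ := h.X1_spec
  have hX1W : X1 a W ≤ W := hX1.trans inf_le_left
  have hX1p := h.Wp.coprime_dvd_left (card_dvd_of_le hX1W)
  have hbot := generate h.level.elem har h.level.hr (fun x hx y hy => mem_centralizer_iff.1 (hX1 hy).2 x (hX1W hx))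
    haX1 hX1p hfpf (M := ⊥) (fun g _ w hw => by rw [AddSubgroup.mem_bot] at *; rw [hw, map_zero])
    (fun v hv hvm => AddSubgroup.mem_bot.2 (hnoV v hv (hmono _ hX1W hvm)))
  have hfixC : ∀ z ∈ W, z ∈ centralizer (W : Set (Aut V)) → a * z = z * a := by
    intro z hz hzc
    have h1 : ⁅z, a⁆ = 1 := eq_one_of_parts h.level.elem hX1p
      (fun u hu => hu _ (commutator_mem_commutator (Subgroup.mem_inf.2 ⟨hz, hzc⟩) (mem_zpowers a)))
      fun u hu => by rw [AddSubgroup.mem_bot.1 (hbot hu), map_zero]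
    exact (commutatorElement_eq_one_iff_mul_comm.1 h1).symm
  have hcore : Core p q r a W :=
    { hp := h.level.hp, hq := h.sec.hq, hr := h.level.hr, elem := h.level.elem, qp := h.qp, rp := h.level.rp
      rq := h.rq, pgroup := hWp, apow := har, norm := h.sec.a_W, class2 := h.sec.class2, gen := hWgen, fixC := hfixC }
  have hnonab : ¬ W ≤ centralizer (W : Set (Aut V)) := by
    intro hab
    refine h.sec.W_ne (le_bot_iff.1 ?_)
    rw [← hWgen, Subgroup.commutator_le]
    intro w hw b hb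
    obtain ⟨j, rfl⟩ := mem_zpowers_iff.1 hb
    rw [mem_bot, commutatorElement_eq_one_iff_mul_comm]
    exact (((show Commute a w from hfixC w hw (hab hw)).zpow_left j).eq).symm
  have hWW : ⁅W, W⁆ ≤ W := commutator_le_self W
  have hMne : moved ⁅W, W⁆ ≠ ⊥ := by
    intro e
    refine hnonab (Subgroup.commutator_eq_bot_iff_le_centralizer.1 (le_bot_iff.1 ?_))
    intro g hg
    exact mem_bot.2 (eq_one_of_parts h.level.elem (h.Wp.coprime_dvd_left (card_dvd_of_le hWW))
      (fun u hu => hu g hg) fun u hu => by rw [e, AddSubgroup.mem_bot] at hu; rw [hu, map_zero])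
  have hn : ∀ y, y ∈ normalizer (W : Set (Aut V)) → ∀ x ∈ moved ⁅W, W⁆, y x ∈ moved ⁅W, W⁆ := fun y hy x hx =>
    moved_inv (by rw [← Coprime.conj_smul_eq_self_iff, Coprime.conj_smul_commutator,
      Coprime.conj_smul_eq_self_iff.2 hy]) hx
  obtain ⟨E, hE⟩ := hcore.exists_piece _ hMne le_rfl fun w hw => hn w (le_normalizer hw)
  have ha : a ∈ stab E := hE.a_mem hcore (hn a h.sec.a_W)
  set ā := resE E ⟨a, ha⟩ with hā
  have hfixE : ∀ v : E, ā v = v → v = 0 := fun v hv => Subtype.ext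
    (hnoV v (congrArg Subtype.val hv) (hmono _ hWW (hE.le v.2)))
  have hpE : ∀ x : E, p • x = 0 := fun x => Subtype.ext (by simpa using h.level.elem (x : V))
  have hF : Frame p q r ā (img E W) := hcore.frame hE ha (by
    intro w hw hwc
    have hmem : resE E ⟨w, hE.W_stab hw⟩ ∈ img E W ⊓ centralizer (img E W : Set (Aut E)) := by
      refine ⟨mem_img.2 ⟨_, hw, rfl⟩, mem_centralizer_iff.2 ?_⟩
      rintro _ hy
      obtain ⟨g, hg, rfl⟩ := mem_img.1 hy
      symm
      rw [← commutatorElement_eq_one_iff_mul_comm, ← map_commutatorElement]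
      exact (resE_eq_one _).2 fun v hv => hwc _ hg v hv
    have h1 := comm_of_no_fixed hpE h.level.hr (a := ā)
      (by rw [hā, ← map_pow, show (⟨a, ha⟩ : stab E) ^ r = 1 from Subtype.ext har, map_one]) hfixE
      (centre_norm (img_norm h.sec.a_W))
      ((h.Wr.coprime_dvd_left (card_img_dvd E W)).coprime_dvd_left (card_dvd_of_le inf_le_left))
      ((h.Wp.coprime_dvd_left (card_img_dvd E W)).coprime_dvd_left (card_dvd_of_le inf_le_left))
      (fun x hx y hy => mem_centralizer_iff.1 hy.2 x hx.1) hmem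
    rw [hā, ← commutatorElement_eq_one_iff_mul_comm, ← map_commutatorElement] at h1
    exact (resE_eq_one _).1 h1)
  obtain ⟨-, -, -, hrig⟩ := hF.exceptional hfixE
  -- the centre is the Frattini subgroup
  have hcentre : Core.centre W ≤ phi W := by
    rcases h.sec.irred (Core.centre W) (le_inf (phi_le W) h.sec.phi_central) inf_le_left (centre_norm h.sec.a_W)
      (fun g hg => centre_norm (h.sec.N_W hg)) with e | e
    · exact e.le
    · exact absurd (fun w hw => (e.symm.le hw).2) hnonab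
  have hEker : classes W (ker W E) = ⊥ := by
    rcases hlev.irred (classes W (ker W E))
      (fun x hx => classes_map (X := ker W E) (X' := ker W E) (fun z hz => mem_ker.2 ⟨(mem_normalizer_iff.1 h.sec.a_W z).1 hz.1, fun u hu => by
        rw [aut_mul, aut_mul, hz.2 _ (((inv_mem ha : a⁻¹ ∈ stab E) u).2 hu), aut_inv_apply]⟩) hx)
      (fun g hg x hx => by
        rw [hNY] at hg
        obtain ⟨y, hy, rfl⟩ := mem_qImg.1 hg
        have hys : (y : Aut V) ∈ stab E := hE.stab_of _ (hn _ y.2) fun z hz => h.sec.phiY z (hcentre hz) _ hy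
        exact classes_map (X := ker W E) (X' := ker W E) (fun z hz => mem_ker.2 ⟨(mem_normalizer_iff.1 y.2 z).1 hz.1, fun u hu => by
          rw [aut_mul, aut_mul, hz.2 _ (((inv_mem hys : (y : Aut V)⁻¹ ∈ stab E) u).2 hu), aut_inv_apply]⟩) hx) with e | e
    · exact e
    exfalso
    have hk : ker W E = W := phi_nongen (fun x hx => (mem_ker.1 hx).1) (le_antisymm
      (sup_le (fun x hx => (mem_ker.1 hx).1) (phi_le W)) fun w hw => by
        obtain ⟨w', hw', e'⟩ := (e ▸ AddSubgroup.mem_top (toQ W ⟨w, hw⟩) : toQ W ⟨w, hw⟩ ∈ classes W (ker W E))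
        rw [show w = (w' : Aut V) * ((w' : Aut V)⁻¹ * w) by group]
        exact mul_mem (mem_sup_left hw') (mem_sup_right ((toQ_eq hWp w' ⟨w, hw⟩).1 e')))
    refine hE.ne ((AddSubgroup.eq_bot_iff_forall _).2 fun x hx => ?_)
    exact eq_zero_of_moved h.level.elem (h.Wp.coprime_dvd_left (card_dvd_of_le hWW)) (hE.le hx)
      fun g hg => (mem_ker.1 (hk.symm.le (hWW hg))).2 x hx
  have hYfix : ∀ x ∈ qImg W Y, α * x = x * α → x = 1 := by
    intro x hx hxa
    obtain ⟨y, hy, hya, rfl⟩ := qImg_lift_fixed h.sec.Y_norm (a := ⟨a, h.sec.a_W⟩) har h.aY h.Yr hx hxa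
    have hys : (y : Aut V) ∈ stab E := hE.stab_of _ (hn _ y.2) fun z hz => h.sec.phiY z (hcentre hz) _ hy
    have hgood : Good ā (img E W) (resE E ⟨y, hys⟩) := by
      refine ⟨?_, img_norm y.2, fun z hz hzc => ?_⟩
      · rw [hā, ← map_mul, ← map_mul]; exact congrArg _ (Subtype.ext hya)
      · obtain ⟨g, hg, hga, rfl⟩ := lift_fixed hE.W_stab har h.sec.a_W h.Wr hz (hF.fixC z hz hzc)
        rw [← map_mul, ← map_mul]
        exact congrArg _ (Subtype.ext (h.sec.phiY _ (hcentre ⟨hg, hcore.fixed_central hg hga⟩) _ hy))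
    have hord : (orderOf (resE E ⟨(y : Aut V), hys⟩)).Coprime r :=
      (h.Yr.coprime_dvd_left (Subgroup.orderOf_dvd_natCard Y hy)).coprime_dvd_left
        ((orderOf_map_dvd (resE E) _).trans (by rw [orderOf_mk]))
    refine (qHom_eq_one hWp y).2 fun w hw => ?_
    have h1 := hF.centralizes hgood (hrig _ hgood hord) (resE E ⟨w, hE.W_stab hw⟩) (mem_img.2 ⟨_, hw, rfl⟩)
    rw [← commutatorElement_eq_one_iff_mul_comm, ← map_commutatorElement] at h1
    have hm : ⁅(y : Aut V), w⁆ ∈ W := by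
      rw [commutatorElement_def]; exact mul_mem ((mem_normalizer_iff.1 y.2 w).1 hw) (inv_mem hw)
    refine (toQ_eq_zero hWp ⟨_, hm⟩).1 (AddSubgroup.mem_bot.1 (hEker ▸ ?_))
    exact ⟨⟨_, hm⟩, mem_ker.2 ⟨hm, (resE_eq_one _).1 h1⟩, rfl⟩
  -- the centre of the image of `Y`
  haveI : Nontrivial (qImg W Y) := (nontrivial_iff_ne_bot _).2 (by
    rw [← hNY]; exact hlev.ne)
  refine Group.IsNilpotent.center_ne_bot (G := qImg W Y) ((eq_bot_iff_forall _).2 fun z hz => Subtype.ext ?_)
  refine hYfix z z.2 (comm_of_no_fixed hlev.elem hlev.hr hαr hno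
    (B := qImg W Y ⊓ centralizer (qImg W Y : Set (Aut (Vq W)))) (centre_norm hαY)
    (hYr.coprime_dvd_left (card_dvd_of_le inf_le_left)) (hYq.coprime_dvd_left (card_dvd_of_le inf_le_left))
    (fun x hx y hy => mem_centralizer_iff.1 hy.2 x hx.1) ⟨z.2, (mem_center_iff' z).1 hz⟩)

end Step

end Cfsg.Agent.TwoLoss
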