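import Cfsg.Agent.Lib.TwoLoss.FrameExt

/-!
# The facts about frames, without scalar structure
-/

set_option autoImplicit false

namespace Cfsg.Agent.TwoLoss

open Subgroup
open scoped commutatorElement

universe u

variable {V : Type u} [AddCommGroup V] [Finite V] {p q r : ℕ} {a : Aut V} {W : Subgroup (Aut V)}

/-- Without fixed points the frame is exceptional and rigid. -/
theorem Frame.exceptional (h : Frame p q r a W) (hfix : ∀ v, a v = v → v = 0) :
    ∃ Q, Nat.card (Lab W) = Q ^ 2 ∧ Q + 1 = r ∧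
      ∀ y, Good a W y → (orderOf y).Coprime r → ∀ w ∈ W, ⁅y, w⁆ ∈ centralizer (W : Set (Aut V)) := by
  haveI := Fact.mk h.hp
  letI : Module (ZMod p) V := AddCommGroup.zmodModule h.elem
  exact h.exceptional_aux hfix

/-- A bad free element has order two, in the second exceptional dimension. -/
theorem Frame.bad (h : Frame p q r a W) {y : Aut V} (hy : Good a W y) {d : ℕ} (hd : FreeOn W y d) (hdp : d.Prime)
    (hrd : r.Coprime d) (φ : V →+ ZMod p) (S : Subgroup (Aut V)) (hSW : S ≤ W)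
    (hS : ∀ s ∈ S, ∀ x, φ (s x) = φ x)
    (hoff : ∀ g ∈ W, (∀ s ∈ S, g⁻¹ * s ∉ centralizer (W : Set (Aut V))) → ∀ v, a v = v → φ (g (y v - v)) = 0)
    (hH : ∀ B : Subgroup (Aut V), B ≤ W → W ⊓ centralizer (W : Set (Aut V)) ≤ B →
      a ∈ normalizer (B : Set (Aut V)) → y ∈ normalizer (B : Set (Aut V)) →
      (∀ b ∈ B, ∀ b' ∈ B, b * b' = b' * b) → B ≤ centralizer (W : Set (Aut V))) :
    (∀ v, a v = v → φ v = 0) ∨ (d = 2 ∧ ∃ Q, Nat.card (Lab W) = Q ^ 2 ∧ Q + 1 = 2 * r) := by
  haveI := Fact.mk h.hp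
  letI : Module (ZMod p) V := AddCommGroup.zmodModule h.elem
  exact h.bad_aux hy hd hdp hrd φ S hSW hS hoff hH

/-- No free element of order four in the second exceptional dimension. -/
theorem Frame.no_four (h : Frame p q r a W) {Q : ℕ} (hQ : Nat.card (Lab W) = Q ^ 2) (hQr : Q + 1 = 2 * r)
    {y : Aut V} (hy : Good a W y) (hd : FreeOn W y 4) (hr4 : r.Coprime 4) : False := by
  haveI := Fact.mk h.hp
  letI : Module (ZMod p) V := AddCommGroup.zmodModule h.elem
  exact h.no_four_aux hQ hQr hy hd hr4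

end Cfsg.Agent.TwoLoss
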