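import Cfsg.Agent.Lib.TwoLoss.MakeFrame
import Cfsg.Agent.Lib.TwoLoss.FrameMain

/-!
# A bad group on a frame acts as a sign
-/

set_option autoImplicit false
set_option linter.unusedSectionVars false
set_option linter.style.haveILetI false

namespace Cfsg.Agent.TwoLoss

open Subgroup Finset
open scoped commutatorElement

universe u

variable {V : Type u} [AddCommGroup V] [Finite V]

private theorem exists_functional_aux {p : ℕ} [Fact p.Prime] [Module (ZMod p) V] {L : Submodule (ZMod p) V}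
    {v : V} (hv : v ∉ L) : ∃ φ : V →+ ZMod p, (∀ x ∈ L, φ x = 0) ∧ φ v ≠ 0 := by
  obtain ⟨f, hf, hfL⟩ := Submodule.exists_dual_map_eq_bot_of_notMem (p := L) (x := v) hv (by infer_instance)
  refine ⟨f.toAddMonoidHom, fun x hx => ?_, hf⟩
  have h0 : f x ∈ L.map f := ⟨x, hx, rfl⟩
  rw [hfL] at h0
  exact h0

/-- A functional killing `L` but not `v`. -/
theorem exists_functional {p : ℕ} [Fact p.Prime] (hp : ∀ x : V, p • x = 0) {L : AddSubgroup V} {v : V}
    (hv : v ∉ L) : ∃ φ : V →+ ZMod p, (∀ x ∈ L, φ x = 0) ∧ φ v ≠ 0 := by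
  letI : Module (ZMod p) V := AddCommGroup.zmodModule hp
  exact exists_functional_aux (L := AddSubgroup.toZModSubmodule p L) hv

namespace Frame

variable {p q r : ℕ} {a : Aut V} {W : Subgroup (Aut V)}

theorem coprime_p (h : Frame p q r a W) : (Nat.card W).Coprime p := coprime_of_pgroup h.hq h.hp h.qp.symm h.pgroup

theorem coprime_r (h : Frame p q r a W) : (Nat.card W).Coprime r := coprime_of_pgroup h.hq h.hr h.rq h.pgroup

theorem lab_zero (h : Frame p q r a W) {w : Aut V} (hw : w ∈ W) :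
    toLab W ⟨w, hw⟩ = 0 ↔ w ∈ centralizer (W : Set (Aut V)) := by
  rw [toLab_eq_zero W h.class2', mem_center_iff']

/-- The subframe moved by `c`. -/
theorem subframe (h : Frame p q r a W) {c : Aut V} (hc : Good a W c) (hcq : (orderOf c).Coprime q)
    (hne : ∃ w ∈ W, ⁅c, w⁆ ∉ centralizer (W : Set (Aut V))) :
    let X := ⁅W, zpowers c⁆ ⊔ (W ⊓ centralizer (W : Set (Aut V)))
    X ≤ W ∧ Frame p q r a X ∧ Good a X c ∧ W ⊓ centralizer (W : Set (Aut V)) ≤ X ∧
      (∀ x ∈ X, x ∈ centralizer (X : Set (Aut V)) → x ∈ centralizer (W : Set (Aut V))) ∧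
      (∀ w ∈ W, ⁅c, w⁆ ∈ centralizer (W : Set (Aut V)) → w ∈ centralizer (X : Set (Aut V))) := by
  intro X
  haveI := Fact.mk h.hq
  have hcW : zpowers c ≤ normalizer (W : Set (Aut V)) := zpowers_le.2 hc.norm
  have hcop : (Nat.card (zpowers c)).Coprime (Nat.card W) := by
    obtain ⟨e, he⟩ := IsPGroup.iff_card.1 h.pgroup
    rw [Nat.card_zpowers, he]
    exact Nat.Coprime.pow_right _ hcq
  have hZW : W ⊓ centralizer (W : Set (Aut V)) ≤ W := inf_le_left
  have hcomm : ⁅W, zpowers c⁆ ≤ W := Coprime.commutator_le_of_le_normalizer hcW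
  have hXW : X ≤ W := sup_le hcomm hZW
  -- fixed points of `c` commute with `X`
  have hfixX : ∀ u ∈ W, c * u = u * c → u ∈ centralizer (X : Set (Aut V)) := by
    intro u hu hcu
    have hle : X ≤ centralizer ({u} : Set (Aut V)) := by
      refine sup_le (Subgroup.commutator_le.2 fun w hw b hb => mem_centralizer_iff.2 fun g hg => ?_)
        (fun z hz => mem_centralizer_iff.2 fun g hg => ?_)
      · rw [Set.mem_singleton_iff] at hg
        subst hg
        obtain ⟨n, rfl⟩ := mem_zpowers_iff.1 hb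
        have hcn : Commute (c ^ n) g := (show Commute c g from hcu).zpow_left n
        have hz := h.class2 g hu w hw
        have hzW : ⁅g, w⁆ ∈ W := by
          rw [commutatorElement_def]; exact mul_mem (mul_mem (mul_mem hu hw) (inv_mem hu)) (inv_mem hw)
        have hzc : Commute (c ^ n) ⁅g, w⁆ := (show Commute c _ from hc.centre _ hzW hz).zpow_left n
        have e : g * ⁅w, c ^ n⁆ * g⁻¹ = ⁅w, c ^ n⁆ := by
          calc g * ⁅w, c ^ n⁆ * g⁻¹ = (g * w * g⁻¹) * (g * c ^ n * g⁻¹) * (g * w * g⁻¹)⁻¹ * (g * c ^ n * g⁻¹)⁻¹ := by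
                rw [commutatorElement_def]; group
            _ = ⁅g, w⁆ * (w * c ^ n * w⁻¹) * (⁅g, w⁆⁻¹ * (c ^ n)⁻¹) := by
                rw [← hcn.eq, mul_inv_cancel_right, commutatorElement_def]; group
            _ = ⁅g, w⁆ * (w * c ^ n * w⁻¹ * (c ^ n)⁻¹) * ⁅g, w⁆⁻¹ := by
                rw [← hzc.inv_inv.eq]; group
            _ = ⁅w, c ^ n⁆ := by
                have hX : w * c ^ n * w⁻¹ * (c ^ n)⁻¹ ∈ W := by
                  have := mul_mem hw ((mem_normalizer_iff.1 (zpow_mem hc.norm n) w⁻¹).1 (inv_mem hw))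
                  simpa [mul_assoc] using this
                rw [← mem_centralizer_iff.1 hz _ hX, mul_inv_cancel_right, commutatorElement_def w]
        exact mul_inv_eq_iff_eq_mul.1 e
      · rw [Set.mem_singleton_iff] at hg
        subst hg
        exact mem_centralizer_iff.1 hz.2 g hu
    exact mem_centralizer_iff.2 fun x hx => (mem_centralizer_iff.1 (hle hx) u rfl).symm
  have hcentre : ∀ x ∈ X, x ∈ centralizer (X : Set (Aut V)) → x ∈ centralizer (W : Set (Aut V)) := by
    intro x hx hxc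
    refine mem_centralizer_iff.2 fun w hw => ?_
    obtain ⟨u, hu, y, hy, rfl⟩ := Coprime.exists_eq_centralizer_mul_commutator hcW hcop
      (Or.inl (Coprime.isSolvable_of_isMulCommutative _)) hw
    have h1 : Commute u x := (mem_centralizer_iff.1 (hfixX u hu.1 (mem_centralizer_iff.1 hu.2 c (mem_zpowers c))) x hx).symm
    have h2 : Commute y x := mem_centralizer_iff.1 hxc y (mem_sup_left hy)
    exact (h1.mul_left h2).eq
  have hfree : ∀ w ∈ W, ⁅c, w⁆ ∈ centralizer (W : Set (Aut V)) → w ∈ centralizer (X : Set (Aut V)) := by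
    intro w hw hz
    set f := ⁅c, w⁆ with hf
    have hfW : f ∈ W := by
      rw [hf, commutatorElement_def]; exact mul_mem ((mem_normalizer_iff.1 hc.norm w).1 hw) (inv_mem hw)
    have hcf : Commute c f := hc.centre f hfW hz
    have hiter : ∀ n : ℕ, c ^ n * w * (c ^ n)⁻¹ = f ^ n * w := by
      intro n
      induction n with
      | zero => simp
      | succ n ih =>
        have e1 : c ^ (n + 1) * w * (c ^ (n + 1))⁻¹ = c * (c ^ n * w * (c ^ n)⁻¹) * c⁻¹ := by rw [pow_succ']; group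
        rw [e1, ih, show c * (f ^ n * w) * c⁻¹ = (c * f ^ n * c⁻¹) * (f * w) by
          rw [hf, commutatorElement_def]; group, (hcf.pow_right n).eq, mul_inv_cancel_right, ← mul_assoc,
          ← pow_succ]
    have h1 := hiter (orderOf c)
    rw [pow_orderOf_eq_one, inv_one, one_mul, mul_one, right_eq_mul] at h1
    have hf1 : f = 1 := by
      obtain ⟨e, he⟩ := IsPGroup.iff_card.1 h.pgroup
      have hd : orderOf f ∣ orderOf c := orderOf_dvd_of_pow_eq_one h1
      have hd2 : orderOf f ∣ q ^ e := he ▸ Subgroup.orderOf_dvd_natCard W hfW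
      exact orderOf_eq_one_iff.1 (Nat.eq_one_of_dvd_coprimes (Nat.Coprime.pow_right e hcq) hd hd2)
    rw [hf, commutatorElement_eq_one_iff_mul_comm] at hf1
    exact hfixX w hw hf1
  have hcX : c ∈ normalizer (X : Set (Aut V)) := by
    refine normalizer_inf_normalizer_le_normalizer_sup _ _ (mem_inf.2 ⟨?_, ?_⟩)
    · exact Subgroup.normalizer_commutator_ge_right W (zpowers c) (mem_zpowers c)
    · refine normalizer_of_map fun z hz => ?_
      rw [hc.centre z hz.1 hz.2, mul_inv_cancel_right]; exact hz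
  have haX : a ∈ normalizer (X : Set (Aut V)) := by
    refine normalizer_inf_normalizer_le_normalizer_sup _ _ (mem_inf.2 ⟨?_, ?_⟩)
    · have hac : a ∈ normalizer ((zpowers c : Subgroup (Aut V)) : Set (Aut V)) := normalizer_of_map fun x hx => by
        obtain ⟨n, rfl⟩ := mem_zpowers_iff.1 hx
        rw [((show Commute a c from hc.comm).zpow_right n).eq, mul_inv_cancel_right]
        exact zpow_mem (mem_zpowers c) n
      rw [← Coprime.conj_smul_eq_self_iff, Coprime.conj_smul_commutator, Coprime.conj_smul_eq_self_iff.2 h.norm,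
        Coprime.conj_smul_eq_self_iff.2 hac]
    · refine normalizer_of_map fun z hz => ?_
      rw [h.fixC z hz.1 hz.2, mul_inv_cancel_right]; exact hz
  refine ⟨hXW, ?_, ⟨hc.comm, hcX, fun z hz hzc => hc.centre z (hXW hz) (hcentre z hz hzc)⟩, le_sup_right,
    hcentre, hfree⟩
  obtain ⟨z₀, hz₀, hz₀c, hgen⟩ := h.cyclic
  have hcXW : centralizer (W : Set (Aut V)) ≤ centralizer (X : Set (Aut V)) := centralizer_le hXW
  refine
    { hp := h.hp, hq := h.hq, hr := h.hr, elem := h.elem, qp := h.qp, rp := h.rp, rq := h.rq, nt := h.nt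
      pgroup := h.pgroup.to_le hXW, apow := h.apow, norm := haX
      class2 := fun v hv w hw => hcXW (h.class2 v (hXW hv) w (hXW hw))
      nonab := ?_, fixC := fun z hz hzc => h.fixC z (hXW hz) (hcentre z hz hzc)
      fpf := fun w hw hwc => hcXW (h.fpf w (hXW hw) (hcentre _ ?_ hwc))
      cyclic := ⟨z₀, mem_sup_right ⟨hz₀, hz₀c⟩, hcXW hz₀c, fun z hz hzc => hgen z (hXW hz) (hcentre z hz hzc)⟩
      semis := fun z hz hzc => h.semis z (hXW hz) (hcentre z hz hzc) }
  · intro hab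
    obtain ⟨w, hw, hwc⟩ := hne
    apply hwc
    have hm : ⁅w, c⁆ ∈ X := mem_sup_left (commutator_mem_commutator hw (mem_zpowers c))
    have := hcentre _ hm (hab hm)
    rw [← commutatorElement_inv]; exact inv_mem this
  · rw [commutatorElement_def]; exact mul_mem ((mem_normalizer_iff.1 haX w).1 hw) (inv_mem hw)

/-- One element of prime order on the classes. -/
theorem bad_element (h : Frame p q r a W) {c : Aut V} (hc : Good a W c) {d : ℕ} (hd : FreeOn W c d) (hdp : d.Prime)
    (hrd : r.Coprime d) (hcr : (orderOf c).Coprime r) {K : AddSubgroup V} (hK : Covered a W K)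
    (hbad : ∀ v, a v = v → c v - v ∈ K) (hC : ∃ v, a v = v ∧ v ≠ 0) :
    d = 2 ∧ ∃ Q, Nat.card (Lab W) = Q ^ 2 ∧ Q + 1 = 2 * r := by
  haveI := Fact.mk h.hp
  by_contra hne
  have hH : ∀ B : Subgroup (Aut V), B ≤ W → W ⊓ centralizer (W : Set (Aut V)) ≤ B →
      a ∈ normalizer (B : Set (Aut V)) → c ∈ normalizer (B : Set (Aut V)) →
      (∀ b ∈ B, ∀ b' ∈ B, b * b' = b' * b) → B ≤ centralizer (W : Set (Aut V)) := by
    intro B hBW _ haB hcB hBc
    have hA : zpowers a ≤ normalizer (B : Set (Aut V)) := zpowers_le.2 haB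
    set B₁ := ⁅B, zpowers a⁆
    have hB₁ : B₁ ≤ B := Coprime.commutator_le_of_le_normalizer hA
    have hcop : (Nat.card (zpowers a)).Coprime (Nat.card B) := by
      rw [Nat.card_zpowers]
      exact (h.coprime_r.symm.coprime_dvd_left (orderOf_dvd_of_pow_eq_one h.apow)).coprime_dvd_right
        (card_dvd_of_le hBW)
    have hgen : ⁅B₁, zpowers a⁆ = B₁ :=
      Coprime.commutator_commutator_eq hA hcop (Or.inl (Coprime.isSolvable_of_isMulCommutative _))
    have ha₁ : a ∈ normalizer (B₁ : Set (Aut V)) :=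
      Subgroup.normalizer_commutator_ge_right B (zpowers a) (mem_zpowers a)
    have hfix : ∀ x ∈ B₁, a * x = x * a → x = 1 := by
      intro x hx hxa
      have h1 := fixed_le_derived h.hr h.apow ha₁ (h.coprime_r.coprime_dvd_left (card_dvd_of_le (hB₁.trans hBW)))
        hgen (mem_inf.2 ⟨hx, mem_centralizer_iff.2 fun g hg => by rw [Set.mem_singleton_iff.1 hg]; exact hxa⟩)
      have h2 : ⁅B₁, B₁⁆ = ⊥ := by
        rw [eq_bot_iff, Subgroup.commutator_le]
        intro u hu v hv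
        rw [mem_bot, commutatorElement_eq_one_iff_mul_comm]
        exact hBc u (hB₁ hu) v (hB₁ hv)
      rwa [h2, mem_bot] at h1
    have hc₁ : c ∈ normalizer (B₁ : Set (Aut V)) := by
      have hca : c ∈ normalizer ((zpowers a : Subgroup (Aut V)) : Set (Aut V)) := normalizer_of_map fun x hx => by
        obtain ⟨n, rfl⟩ := mem_zpowers_iff.1 hx
        rw [((show Commute c a from hc.comm.symm).zpow_right n).eq, mul_inv_cancel_right]
        exact zpow_mem (mem_zpowers a) n
      rw [← Coprime.conj_smul_eq_self_iff, Coprime.conj_smul_commutator, Coprime.conj_smul_eq_self_iff.2 hcB,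
        Coprime.conj_smul_eq_self_iff.2 hca]
    obtain ⟨-, hcomm⟩ := abelian_bad h.elem h.apow h.hr (fun u hu v hv => hBc u (hB₁ hu) v (hB₁ hv)) ha₁
      (h.coprime_r.coprime_dvd_left (card_dvd_of_le (hB₁.trans hBW)))
      (h.coprime_p.coprime_dvd_left (card_dvd_of_le (hB₁.trans hBW))) hfix (hK.mono (hB₁.trans hBW)) hc.comm hc₁
      hcr hbad
    intro b hb
    have hm : ⁅a, b⁆ ∈ B₁ := by
      rw [← commutatorElement_inv]; exact inv_mem (commutator_mem_commutator hb (mem_zpowers a))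
    refine h.fpf b (hBW hb) (hd.free 1 (fun h1 => hdp.ne_one (Nat.dvd_one.1 h1)) _ (hBW (hB₁ hm)) ?_)
    rw [pow_one, commutatorElement_eq_one_iff_mul_comm.2 (hcomm _ hm)]
    exact one_mem _
  obtain ⟨𝓛, hmeet, hadm⟩ := hK
  have htriv : ∀ v, a v = v → c v = v := by
    intro v hv
    refine sub_eq_zero.1 (hmeet _ (by rw [map_sub, ← aut_mul, hc.comm, aut_mul, hv]) fun L hL => ?_)
    rcases hadm L hL with hKL | ⟨hLa, hdi⟩
    · exact hKL (hbad v hv)
    by_contra hout
    obtain ⟨φ, hφ, hφv⟩ := exists_functional h.elem hout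
    rcases h.bad hc hd hdp hrd φ (fixMod W L) (fun x hx => hx.1)
      (fun s hs x => sub_eq_zero.1 (by rw [← map_sub]; exact hφ _ (hs.2 x)))
      (fun g hg hgS w hw => hφ _ (by
        rcases hdi g hg with hm | hm
        · exfalso
          obtain ⟨s, hs, z, hz, hza, e⟩ := translate_mem h.apow h.norm h.coprime_r hLa hg hm
          refine hgS s hs ?_
          rw [e, mul_inv_rev, inv_mul_cancel_right]
          refine inv_mem (h.fpf z hz ?_)
          rw [commutatorElement_eq_one_iff_mul_comm.2 hza]; exact one_mem _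
        · exact hm _ (hbad w hw)))
      hH with h1 | h1
    · exact hφv (h1 _ (by rw [map_sub, ← aut_mul, hc.comm, aut_mul, hv]))
    · exact hne h1
  obtain ⟨v, hv, hv0⟩ := hC
  obtain ⟨φ, -, hφv⟩ := exists_functional h.elem (L := ⊥) (fun e => hv0 (AddSubgroup.mem_bot.1 e))
  rcases h.bad hc hd hdp hrd φ ⊥ bot_le (fun s hs x => by rw [mem_bot.1 hs]; rfl)
    (fun g _ _ w hw => by rw [htriv w hw, sub_self, map_zero, map_zero]) hH with h1 | h1
  · exact hφv (h1 v hv)
  · exact hne h1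

theorem lab_card_coprime (h : Frame p q r a W) {n : ℕ} (hn : (q : ℕ).Coprime n) : (Nat.card (Lab W)).Coprime n := by
  haveI := Fact.mk h.hq
  obtain ⟨e, he⟩ := IsPGroup.iff_card.1 h.pgroup
  refine (Nat.Coprime.pow_left e hn).coprime_dvd_left ?_
  rw [← he, show Nat.card (Lab W) = Nat.card (Abelianization (↥W ⧸ Subgroup.center ↥W)) from
    Nat.card_congr Additive.toMul]
  exact (Subgroup.card_quotient_dvd_card _).trans (Subgroup.card_quotient_dvd_card _)

end Frame

/-- The points negated by an endomorphism. -/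
def negPart {A : Type u} [AddCommGroup A] (η : A ≃ₗ[ℤ] A) : AddSubgroup A where
  carrier := {x | η x = -x}
  zero_mem' := by simp
  add_mem' {x y} hx hy := by
    simp only [Set.mem_ofPred_eq] at *
    rw [map_add, hx, hy, neg_add_rev, add_comm]
  neg_mem' {x} hx := by
    simp only [Set.mem_ofPred_eq] at *
    rw [map_neg, hx]

/-- The fixed points of an endomorphism. -/
def fixPart {A : Type u} [AddCommGroup A] (η : A ≃ₗ[ℤ] A) : AddSubgroup A where
  carrier := {x | η x = x}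
  zero_mem' := by simp
  add_mem' {x y} hx hy := by
    simp only [Set.mem_ofPred_eq] at *
    rw [map_add, hx, hy]
  neg_mem' {x} hx := by
    simp only [Set.mem_ofPred_eq] at *
    rw [map_neg, hx]

theorem mem_negPart {A : Type u} [AddCommGroup A] {η : A ≃ₗ[ℤ] A} {x : A} : x ∈ negPart η ↔ η x = -x := Iff.rfl

theorem mem_fixPart {A : Type u} [AddCommGroup A] {η : A ≃ₗ[ℤ] A} {x : A} : x ∈ fixPart η ↔ η x = x := Iff.rfl

/-- An involution splits an invariant subgroup of odd order. -/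
theorem card_split {A : Type u} [AddCommGroup A] [Finite A] (hA : (Nat.card A).Coprime 2) {η : A ≃ₗ[ℤ] A}
    (hη : η * η = 1) (M : AddSubgroup A) (hM : ∀ x ∈ M, η x ∈ M) :
    Nat.card ↥(M ⊓ negPart η) * Nat.card ↥(M ⊓ fixPart η) = Nat.card M := by
  rw [← Nat.card_prod]
  let f : ↥(M ⊓ negPart η) × ↥(M ⊓ fixPart η) → M := fun x => ⟨x.1.1 + x.2.1, add_mem x.1.2.1 x.2.2.1⟩
  have hinv : ∀ x, η (η x) = x := fun x => by rw [← LinearEquiv.mul_apply, hη]; rfl
  refine Nat.card_congr (Equiv.ofBijective f ⟨fun x y e => ?_, fun x => ?_⟩)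
  · have e' : (x.1 : A) + x.2 = (y.1 : A) + y.2 := congrArg Subtype.val e
    have h1 : (x.1 : A) - y.1 = y.2 - x.2 := by rw [sub_eq_sub_iff_add_eq_add, e']; abel
    have h2 : η ((x.1 : A) - y.1) = -((x.1 : A) - y.1) := sub_mem (H := negPart η) x.1.2.2 y.1.2.2
    have h3 : η ((x.1 : A) - y.1) = (x.1 : A) - y.1 := by
      rw [h1]; exact sub_mem (H := fixPart η) y.2.2.2 x.2.2.2
    have h4 : (2 : ℕ) • ((x.1 : A) - y.1) = (2 : ℕ) • (0 : A) := by
      rw [nsmul_zero, two_nsmul]; conv_lhs => arg 1; rw [← h3, h2]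
      exact neg_add_cancel _
    have h5 : (x.1 : A) - y.1 = 0 := (nsmulCoprime hA).injective h4
    have h6 : (x.1 : A) = y.1 := sub_eq_zero.1 h5
    have h7 : (x.2 : A) = y.2 := by rw [h6] at e'; exact add_left_cancel e'
    exact Prod.ext (Subtype.ext h6) (Subtype.ext h7)
  · obtain ⟨y, hy⟩ := (nsmulCoprime hA).surjective (x : A)
    have hy' : (2 : ℕ) • y = (x : A) := hy
    have hyM : y ∈ M := by
      have hM2 : (Nat.card M).Coprime 2 := hA.coprime_dvd_left (AddSubgroup.card_addSubgroup_dvd_card M)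
      obtain ⟨y', hy''⟩ := (nsmulCoprime hM2).surjective x
      have : (2 : ℕ) • (y' : A) = (2 : ℕ) • y := by rw [hy']; exact congrArg Subtype.val hy''
      rw [← (nsmulCoprime hA).injective this]
      exact y'.2
    refine ⟨⟨⟨y - η y, M.sub_mem hyM (hM y hyM), ?_⟩, ⟨y + η y, M.add_mem hyM (hM y hyM), ?_⟩⟩, Subtype.ext ?_⟩
    · show η (y - η y) = -(y - η y)
      rw [map_sub, hinv, neg_sub]
    · show η (y + η y) = y + η y
      rw [map_add, hinv, add_comm]
    · show y - η y + (y + η y) = (x : A)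
      rw [← hy', two_nsmul]; abel

/-- A fixed point free map of prime order: the order is one modulo the prime. -/
theorem card_modEq_one {A : Type u} [AddCommGroup A] [Finite A] {r : ℕ} [Fact r.Prime] {α : A ≃ₗ[ℤ] A}
    (hα : α ^ r = 1) (M : AddSubgroup A) (hM : ∀ x ∈ M, α x ∈ M) (hfree : ∀ x, α x = x → x = 0) :
    Nat.card M ≡ 1 [MOD r] := by
  classical
  haveI := Fintype.ofFinite M
  let f : Function.End M := fun x => ⟨α x, hM x x.2⟩
  have hiter : ∀ (n : ℕ) (x : M), ((f ^ n : Function.End M) x : A) = (α ^ n) x := by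
    intro n
    induction n with
    | zero => intro x; rfl
    | succ n ih =>
      intro x
      rw [pow_succ', pow_succ', LinearEquiv.mul_apply, ← ih x]
      rfl
  have hf : f ^ r ^ 1 = 1 := funext fun x => Subtype.ext (by rw [pow_one, hiter, hα]; rfl)
  have h := Equiv.Perm.card_fixedPoints_modEq hf
  rw [← Nat.card_eq_fintype_card, ← Nat.card_eq_fintype_card] at h
  have h1 : Nat.card (Function.fixedPoints f) = 1 :=
    Nat.card_eq_one_iff_unique.2 ⟨⟨fun x y => ?_⟩, ⟨⟨0, Subtype.ext (map_zero α)⟩⟩⟩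
  · rwa [h1] at h
  have hx : ((x : M) : A) = 0 := hfree _ (congrArg Subtype.val x.2)
  have hy : ((y : M) : A) = 0 := hfree _ (congrArg Subtype.val y.2)
  exact Subtype.ext (Subtype.ext (hx.trans hy.symm))

/-- Two commuting involutions: the common negated part is one of three of equal size. -/
theorem three_parts {A : Type u} [AddCommGroup A] [Finite A] (hA : (Nat.card A).Coprime 2) {η₁ η₂ : A ≃ₗ[ℤ] A}
    (h₁ : η₁ * η₁ = 1) (h₂ : η₂ * η₂ = 1) (hcom : ∀ x, η₁ (η₂ x) = η₂ (η₁ x)) {Q : ℕ}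
    (hM1 : Nat.card (negPart η₁) = Q ^ 2) (hM2 : Nat.card (negPart η₂) = Q ^ 2)
    (hM3 : Nat.card (negPart (η₁ * η₂)) = Q ^ 2) : Nat.card ↥(negPart η₁ ⊓ fixPart η₂) = Q := by
  have hn1 : ∀ z ∈ negPart η₁, η₂ z ∈ negPart η₁ := fun z hz => by
    rw [mem_negPart] at *; rw [hcom, hz, map_neg]
  have hn2 : ∀ z ∈ negPart η₂, η₁ z ∈ negPart η₂ := fun z hz => by
    rw [mem_negPart] at *; rw [← hcom, hz, map_neg]
  have hn3 : ∀ z ∈ negPart (η₁ * η₂), η₁ z ∈ negPart (η₁ * η₂) := fun z hz => by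
    rw [mem_negPart, LinearEquiv.mul_apply] at *; rw [← hcom, hz, map_neg]
  have s1 := card_split hA h₂ (negPart η₁) hn1
  have s2 := card_split hA h₁ (negPart η₂) hn2
  have s3 := card_split hA h₁ (negPart (η₁ * η₂)) hn3
  rw [hM1] at s1
  rw [hM2, inf_comm (negPart η₂) (negPart η₁)] at s2
  rw [hM3,
    show negPart (η₁ * η₂) ⊓ negPart η₁ = negPart η₁ ⊓ fixPart η₂ from AddSubgroup.ext fun z => by
      simp only [AddSubgroup.mem_inf, mem_negPart, mem_fixPart, LinearEquiv.mul_apply]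
      constructor
      · rintro ⟨hz3, hz1⟩; exact ⟨hz1, η₁.injective (by rw [hz3, hz1])⟩
      · rintro ⟨hz1, hz2⟩; exact ⟨by rw [hz2, hz1], hz1⟩,
    show negPart (η₁ * η₂) ⊓ fixPart η₁ = negPart η₂ ⊓ fixPart η₁ from AddSubgroup.ext fun z => by
      simp only [AddSubgroup.mem_inf, mem_negPart, mem_fixPart, LinearEquiv.mul_apply]
      constructor
      · rintro ⟨hz3, hz1⟩; exact ⟨η₁.injective (by rw [hz3, map_neg, hz1]), hz1⟩
      · rintro ⟨hz2, hz1⟩; exact ⟨by rw [hz2, map_neg, hz1], hz1⟩] at s3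
  have hApos : 0 < Nat.card ↥(negPart η₁ ⊓ negPart η₂) := Nat.card_pos
  have hBD := Nat.eq_of_mul_eq_mul_left hApos (s1.trans s2.symm)
  refine Nat.pow_left_injective two_ne_zero ?_
  simp only [sq] at *
  rw [← s3, hBD]

namespace Frame

variable {p q r : ℕ} {a : Aut V} {W : Subgroup (Aut V)}

/-- On its moved classes an element of prime power order acts freely. -/
theorem moved_classes (h : Frame p q r a W) {c : Aut V} (hc : Good a W c) {d : ℕ} (hdp : d.Prime) {k : ℕ}
    (hk : 0 < k) (hord : orderOf (labHom W ⟨c, hc.norm⟩) = d ^ k) (hcq : (orderOf c).Coprime q) :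
    ∃ X, X ≤ W ∧ Frame p q r a X ∧ Good a X c ∧ FreeOn X c (d ^ k) ∧
      Good a X (c ^ d ^ (k - 1)) ∧ FreeOn X (c ^ d ^ (k - 1)) d ∧
      (d = 2 → Nat.card (Lab X) = Nat.card (negPart (labHom W ⟨c, hc.norm⟩ ^ d ^ (k - 1)))) := by
  set η := labHom W ⟨c, hc.norm⟩ with hη
  set e := d ^ (k - 1) with he
  have hed : e * d = d ^ k := by rw [he, ← pow_succ]; congr 1; omega
  have hη' : labHom W ⟨c ^ e, (hc.pow e).norm⟩ = η ^ e := by
    rw [hη, ← map_pow]; rfl
  have hlab : ∀ (i : ℕ) (w : W), (η ^ i) (toLab W w) = toLab W w ↔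
      ⁅c ^ i, (w : Aut V)⁆ ∈ centralizer (W : Set (Aut V)) := by
    intro i w
    rw [hη, ← map_pow]; exact h.lab_eq _ w
  have hceq : (orderOf (c ^ e)).Coprime q := hcq.coprime_dvd_left (orderOf_pow_dvd e)
  have hne : ∃ w ∈ W, ⁅c ^ e, w⁆ ∉ centralizer (W : Set (Aut V)) := by
    by_contra hno
    push Not at hno
    have hdvd : d ^ k ∣ e := hord ▸ orderOf_dvd_of_pow_eq_one (LinearEquiv.ext fun x => by
      obtain ⟨w, rfl⟩ := toLab_surjective W x
      rw [LinearEquiv.coe_one, id_eq, hlab]; exact hno w w.2)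
    rw [he] at hdvd
    have := Nat.le_of_dvd (pow_pos hdp.pos _) hdvd
    have := Nat.pow_lt_pow_right hdp.one_lt (show k - 1 < k by omega)
    omega
  obtain ⟨hXW, hF, hG, hZX, hcentre, hfree⟩ := h.subframe (hc.pow e) hceq hne
  set X := ⁅W, zpowers (c ^ e)⁆ ⊔ (W ⊓ centralizer (W : Set (Aut V))) with hX
  have hcX : c ∈ normalizer (X : Set (Aut V)) := by
    refine normalizer_inf_normalizer_le_normalizer_sup _ _ (mem_inf.2 ⟨?_, ?_⟩)
    · have hn : c ∈ normalizer ((zpowers (c ^ e) : Subgroup (Aut V)) : Set (Aut V)) := normalizer_of_map fun x hx => by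
        obtain ⟨n, rfl⟩ := mem_zpowers_iff.1 hx
        rw [(((Commute.refl c).pow_right e).zpow_right n).eq, mul_inv_cancel_right]
        exact zpow_mem (mem_zpowers _) n
      rw [← Coprime.conj_smul_eq_self_iff, Coprime.conj_smul_commutator, Coprime.conj_smul_eq_self_iff.2 hc.norm,
        Coprime.conj_smul_eq_self_iff.2 hn]
    · refine normalizer_of_map fun z hz => ?_
      rw [hc.centre z hz.1 hz.2, mul_inv_cancel_right]; exact hz
  have hGc : Good a X c := ⟨hc.comm, hcX, fun z hz hzc => hc.centre z (hXW hz) (hcentre z hz hzc)⟩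
  have hcm : ∀ (i : ℕ) (x : Aut V), x ∈ X → (⁅c ^ i, x⁆ ∈ centralizer (X : Set (Aut V)) ↔
      ⁅c ^ i, x⁆ ∈ centralizer (W : Set (Aut V))) := fun i x hx => by
    refine ⟨hcentre _ ?_, fun hz => centralizer_le hXW hz⟩
    rw [commutatorElement_def]; exact mul_mem ((mem_normalizer_iff.1 (pow_mem hcX i) x).1 hx) (inv_mem hx)
  have hfree' : ∀ i : ℕ, ¬ d ^ k ∣ i → ∀ x ∈ X, ⁅c ^ i, x⁆ ∈ centralizer (X : Set (Aut V)) →
      x ∈ centralizer (X : Set (Aut V)) := by
    intro i hi x hx hxc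
    set y := toLab W ⟨x, hXW hx⟩
    have h1 : (η ^ i) y = y := (hlab i ⟨x, hXW hx⟩).2 ((hcm i x hx).1 hxc)
    refine hfree x (hXW hx) ((hlab e ⟨x, hXW hx⟩).1 ?_)
    -- `gcd i (d ^ k)` divides `e`
    have hg : Nat.gcd i (d ^ k) ∣ e := by
      obtain ⟨j, hj, hje⟩ := (Nat.dvd_prime_pow hdp).1 (Nat.gcd_dvd_right i (d ^ k))
      rw [hje, he]
      refine pow_dvd_pow d ?_
      by_contra hlt
      have hjk : j = k := by omega
      exact hi (by rw [← hjk, ← hje]; exact Nat.gcd_dvd_left _ _)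
    let St : Subgroup (Lab W ≃ₗ[ℤ] Lab W) :=
      { carrier := {g | g y = y}
        one_mem' := rfl
        mul_mem' := fun {g g'} hg hg' => by
          simp only [Set.mem_ofPred_eq, LinearEquiv.mul_apply] at *; rw [hg', hg]
        inv_mem' := fun {g} hg => by
          simp only [Set.mem_ofPred_eq] at *
          conv_lhs => rw [← hg, ← LinearEquiv.mul_apply, inv_mul_cancel]
          rfl }
    obtain ⟨t, ht⟩ := hg
    have h2 : η ^ (Nat.gcd i (d ^ k)) ∈ St := by
      have e1 : (Nat.gcd i (d ^ k) : ℤ) = (i : ℤ) * Nat.gcdA i (d ^ k) + (d ^ k : ℕ) * Nat.gcdB i (d ^ k) :=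
        Nat.gcd_eq_gcd_ab i (d ^ k)
      rw [← zpow_natCast, e1, zpow_add, zpow_mul, zpow_mul, zpow_natCast, zpow_natCast, ← hord, pow_orderOf_eq_one,
        one_zpow, mul_one]
      exact zpow_mem (show η ^ i ∈ St from h1) _
    rw [ht, pow_mul]
    exact pow_mem h2 t
  refine ⟨X, hXW, hF, hGc, ⟨fun x hx => ?_, hfree'⟩, hG, ⟨fun x hx => ?_, fun i hi x hx hxc => ?_⟩, fun hd2 => ?_⟩
  · refine (hcm _ x hx).2 ((hlab _ ⟨x, hXW hx⟩).1 ?_)
    rw [← hord, pow_orderOf_eq_one]; rfl
  · rw [← pow_mul, hed]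
    refine (hcm _ x hx).2 ((hlab _ ⟨x, hXW hx⟩).1 ?_)
    rw [← hord, pow_orderOf_eq_one]; rfl
  · rw [← pow_mul] at hxc
    refine hfree' (e * i) (fun hdv => hi ?_) x hx hxc
    rw [← hed] at hdv
    exact Nat.dvd_of_mul_dvd_mul_left (pow_pos hdp.pos _) hdv
  · subst hd2
    -- the classes of `X` are the negated classes of `W`
    have hodd : (Nat.card (Lab W)).Coprime 2 := h.lab_card_coprime (by
      have h2 : 2 ∣ orderOf c :=
        ((dvd_pow_self 2 (by omega)).trans hord.symm.dvd).trans ((orderOf_map_dvd (labHom W) _).trans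
          (by rw [orderOf_mk]))
      exact (hcq.coprime_dvd_left h2).symm)
    set θ := η ^ e with hθ
    have hθ2 : θ * θ = 1 := by rw [hθ, ← pow_add, ← mul_two, hed, ← hord, pow_orderOf_eq_one]
    let N : Subgroup (Aut V) :=
      { carrier := {w | ∃ hw : w ∈ W, toLab W ⟨w, hw⟩ ∈ negPart θ}
        one_mem' := ⟨one_mem W, by
          rw [show toLab W (⟨1, one_mem W⟩ : W) = 0 from (toLab_eq_zero W h.class2' _).2 (one_mem _)]
          exact zero_mem _⟩
        mul_mem' := fun {b c} ⟨hb, hb'⟩ ⟨hc, hc'⟩ => ⟨mul_mem hb hc, by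
          rw [show (⟨b * c, mul_mem hb hc⟩ : W) = ⟨b, hb⟩ * ⟨c, hc⟩ from rfl, toLab_mul]
          exact add_mem hb' hc'⟩
        inv_mem' := fun {b} ⟨hb, hb'⟩ => ⟨inv_mem hb, by
          have e : toLab W (⟨b⁻¹, inv_mem hb⟩ : W) = - toLab W ⟨b, hb⟩ := by
            rw [eq_neg_iff_add_eq_zero, ← toLab_mul, toLab_eq_zero W h.class2']
            have : (⟨b⁻¹, inv_mem hb⟩ : W) * ⟨b, hb⟩ = 1 := Subtype.ext (inv_mul_cancel b)
            rw [this]; exact one_mem _
          rw [e]; exact neg_mem hb'⟩ }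
    have hcj : ∀ (g : Aut V) (hg : g ∈ normalizer (W : Set (Aut V))) (w : Aut V) (hw : w ∈ W)
        (hw' : ⁅w, g⁆ ∈ W), toLab W ⟨⁅w, g⁆, hw'⟩ = toLab W ⟨w, hw⟩ - labHom W ⟨g, hg⟩ (toLab W ⟨w, hw⟩) := by
      intro g hg w hw hw'
      rw [labHom_apply, eq_sub_iff_add_eq, ← toLab_mul]
      congr 1
      exact Subtype.ext (show ⁅w, g⁆ * (g * w * g⁻¹) = w by rw [commutatorElement_def]; group)
    have hXN : X ≤ N := by
      refine sup_le (Subgroup.commutator_le.2 fun w hw g hg => ?_) fun z hz => ⟨hz.1, ?_⟩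
      · obtain ⟨n, rfl⟩ := mem_powers_iff_mem_zpowers.mpr hg
        have hgn : c ^ e ^ 1 ∈ normalizer (W : Set (Aut V)) := by simpa using (hc.pow e).norm
        have hg' : (c ^ e) ^ n ∈ normalizer (W : Set (Aut V)) := pow_mem (hc.pow e).norm n
        have hw' : ⁅w, (c ^ e) ^ n⁆ ∈ W := by
          rw [show ⁅w, (c ^ e) ^ n⁆ = w * ((c ^ e) ^ n * w⁻¹ * ((c ^ e) ^ n)⁻¹) by rw [commutatorElement_def]; group]
          exact mul_mem hw ((mem_normalizer_iff.1 hg' _).1 (inv_mem hw))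
        refine ⟨hw', ?_⟩
        rw [hcj _ hg' w hw hw', show labHom W ⟨(c ^ e) ^ n, hg'⟩ = θ ^ n by
          rw [← hη', ← map_pow]; rfl, mem_negPart, map_sub, ← LinearEquiv.mul_apply, ← pow_succ']
        rcases Nat.even_or_odd n with ⟨m, rfl⟩ | ⟨m, rfl⟩
        · rw [← two_mul, pow_succ, pow_mul, sq, hθ2, one_pow, one_mul, LinearEquiv.coe_one, id_eq, sub_self,
            sub_self, neg_zero]
        · rw [show 2 * m + 1 + 1 = 2 * (m + 1) by ring, pow_mul, sq, hθ2, one_pow, pow_succ, pow_mul, sq, hθ2,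
            one_pow, one_mul, LinearEquiv.coe_one, id_eq, neg_sub]
      · rw [show toLab W ⟨z, hz.1⟩ = 0 from (h.lab_zero hz.1).2 hz.2]; exact zero_mem _
    have hc2 : ∀ x : X, toLab X x = 0 ↔ toLab W ⟨x, hXW x.2⟩ = 0 := fun x => by
      rw [h.lab_zero, show (x : X) = ⟨(x : Aut V), x.2⟩ from rfl, hF.lab_zero]
      exact ⟨hcentre _ x.2, fun hz => centralizer_le hXW hz⟩
    have hsub : ∀ x y : X, toLab X x = toLab X y ↔ toLab W ⟨x, hXW x.2⟩ = toLab W ⟨y, hXW y.2⟩ := fun x y => by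
      rw [toLab_eq_iff X hF.class2', toLab_eq_iff W h.class2', ← toLab_eq_zero X hF.class2',
        ← toLab_eq_zero W h.class2', hc2]
      rfl
    refine Nat.card_congr (Equiv.ofBijective (fun l => (⟨toLab W ⟨(Function.surjInv (toLab_surjective X) l : X),
      hXW (Function.surjInv (toLab_surjective X) l).2⟩, (hXN (Function.surjInv (toLab_surjective X) l).2).2⟩ :
        negPart θ)) ⟨fun l l' el => ?_, fun x => ?_⟩)
    · have := (hsub _ _).2 (congrArg Subtype.val el)
      rwa [Function.surjInv_eq (toLab_surjective X) l, Function.surjInv_eq (toLab_surjective X) l'] at this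
    · obtain ⟨x, hx⟩ := x
      obtain ⟨y, hy⟩ := (nsmulCoprime hodd).surjective x
      have hy' : (2 : ℕ) • y = x := hy
      have hyneg : θ y = -y := (nsmulCoprime hodd).injective (by
        show (2 : ℕ) • θ y = (2 : ℕ) • -y
        rw [← map_nsmul, hy', mem_negPart.1 hx, ← hy', smul_neg])
      obtain ⟨w, rfl⟩ := toLab_surjective W y
      have hwX : ⁅(w : Aut V), c ^ e⁆ ∈ X := mem_sup_left (commutator_mem_commutator w.2 (mem_zpowers _))
      refine ⟨toLab X ⟨_, hwX⟩, Subtype.ext ?_⟩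
      show toLab W _ = x
      have e1 := (hsub _ ⟨_, hwX⟩).1 (Function.surjInv_eq (toLab_surjective X) _)
      rw [e1, hcj _ (hc.pow e).norm _ w.2 (hXW hwX), hη', hyneg, sub_neg_eq_add, ← two_nsmul, hy']

set_option maxHeartbeats 800000 in
/-- **A bad group on a frame acts as a sign.** -/
theorem sign (h : Frame p q r a W) {R : Subgroup (Aut V)} (hgood : ∀ c ∈ R, Good a W c)
    (hRr : (Nat.card R).Coprime r) (hRq : (Nat.card R).Coprime q) {K : AddSubgroup V} (hK : Covered a W K)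
    (hbad : ∀ c ∈ R, ∀ v, a v = v → c v - v ∈ K) (hC : ∃ v, a v = v ∧ v ≠ 0)
    (hfpf : ∀ w ∈ W, (∀ c ∈ R, ⁅c, w⁆ ∈ centralizer (W : Set (Aut V))) → w ∈ centralizer (W : Set (Aut V)))
    {c : Aut V} (hc : c ∈ R) :
    labHom W ⟨c, (hgood c hc).norm⟩ = 1 ∨ ∀ x, labHom W ⟨c, (hgood c hc).norm⟩ x = -x := by
  classical
  haveI := Fact.mk h.hr
  have hor : ∀ g ∈ R, (orderOf g).Coprime r ∧ (orderOf g).Coprime q := fun g hg =>
    ⟨hRr.coprime_dvd_left (Subgroup.orderOf_dvd_natCard R hg),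
      hRq.coprime_dvd_left (Subgroup.orderOf_dvd_natCard R hg)⟩
  let η : ∀ g, g ∈ R → (Lab W ≃ₗ[ℤ] Lab W) := fun g hg => labHom W ⟨g, (hgood g hg).norm⟩
  have hmul : ∀ g g' (hg : g ∈ R) (hg' : g' ∈ R), η (g * g') (mul_mem hg hg') = η g hg * η g' hg' := by
    intro g g' hg hg'
    simp only [η]
    rw [← map_mul]
    exact congrArg (labHom W) (Subtype.ext rfl)
  -- the prime order case and order four
  have step : ∀ g (hg : g ∈ R) (d k : ℕ), d.Prime → 0 < k → k ≤ 2 → orderOf (η g hg) = d ^ k →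
      d = 2 ∧ k = 1 ∧ Nat.card (negPart (η g hg)) = (2 * r - 1) ^ 2 := by
    intro g hg d k hd hk hk2 hord
    obtain ⟨X, hXW, hF, hG, hfree, hG', hfree', hcard⟩ := h.moved_classes (hgood g hg) hd hk hord (hor g hg).2
    have hg' : g ^ d ^ (k - 1) ∈ R := pow_mem hg _
    have hrd : r.Coprime d := by
      refine ((hor g hg).1.coprime_dvd_left ?_).symm
      exact ((dvd_pow_self d hk.ne').trans hord.symm.dvd).trans
        ((orderOf_map_dvd (labHom W) _).trans (by rw [orderOf_mk]))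
    obtain ⟨hd2, Q, hQ, hQr⟩ := hF.bad_element hG' hfree' hd hrd (hor _ hg').1 (hK.mono hXW) (hbad _ hg') hC
    subst hd2
    have hk1 : k = 1 := by
      by_contra hne
      obtain rfl : k = 2 := by omega
      exact hF.no_four hQ hQr hG hfree (by
        rw [show (4 : ℕ) = 2 ^ 2 by norm_num]; exact Nat.Coprime.pow_right 2 hrd)
    subst hk1
    refine ⟨rfl, rfl, ?_⟩
    have e := hcard rfl
    rw [Nat.sub_self, pow_zero, pow_one] at e
    rw [← hQr, Nat.add_sub_cancel, ← hQ, e]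
  -- every element squares to one
  have hsq : ∀ g (hg : g ∈ R), η g hg * η g hg = 1 := by
    intro g hg
    set n := orderOf (η g hg) with hn
    have hpw : ∀ m, orderOf (η (g ^ m) (pow_mem hg m)) = orderOf (η g hg ^ m) := fun m => by
      congr 1
      simp only [η]
      rw [← map_pow]
      exact congrArg (labHom W) (Subtype.ext rfl)
    have hpos : 0 < n := orderOf_pos _
    have hprimes : ∀ d : ℕ, d.Prime → d ∣ n → d = 2 := fun d hd hdn => by
      refine (step (g ^ (n / d)) (pow_mem hg _) d 1 hd one_pos one_le_two ?_).1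
      rw [hpw, pow_one, orderOf_pow_of_dvd (Nat.div_pos (Nat.le_of_dvd hpos hdn) hd.pos).ne' (Nat.div_dvd_of_dvd hdn),
        Nat.div_div_self hdn hpos.ne']
    have h4 : ¬ 4 ∣ n := fun h4n => by
      have h41 : (1 : ℕ) ≠ 2 := by norm_num
      refine absurd (step (g ^ (n / 4)) (pow_mem hg _) 2 2 Nat.prime_two two_pos le_rfl ?_).2.1 h41.symm
      rw [hpw, orderOf_pow_of_dvd (Nat.div_pos (Nat.le_of_dvd hpos h4n) (by norm_num)).ne' (Nat.div_dvd_of_dvd h4n),
        Nat.div_div_self h4n hpos.ne']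
      norm_num
    obtain ⟨j, hj⟩ : ∃ j, n = 2 ^ j := ⟨_, Nat.eq_prime_pow_of_unique_prime_dvd hpos.ne' fun {d} hd hdn =>
      hprimes d hd hdn⟩
    have hn2 : n ∣ 2 := by
      rw [hj]
      calc 2 ^ j ∣ 2 ^ 1 := pow_dvd_pow 2 (by
            by_contra hlt
            exact h4 (hj ▸ (pow_dvd_pow 2 (show 2 ≤ j by omega))))
        _ = 2 := pow_one 2
    rw [← sq]; exact orderOf_dvd_iff_pow_eq_one.1 (hn ▸ hn2)
  have hcard : ∀ g (hg : g ∈ R), η g hg ≠ 1 → Nat.card (negPart (η g hg)) = (2 * r - 1) ^ 2 := fun g hg hne =>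
    (step g hg 2 1 Nat.prime_two one_pos one_le_two (by
      rw [pow_one]; exact orderOf_eq_prime (by rw [sq]; exact hsq g hg) hne)).2.2
  by_cases h1 : η c hc = 1
  · exact Or.inl h1
  have hpre : (orderOf (η c hc)) = 2 := orderOf_eq_prime (by rw [sq]; exact hsq c hc) h1
  have h2c : 2 ∣ orderOf c := hpre ▸ ((orderOf_map_dvd (labHom W) _).trans (by rw [orderOf_mk]))
  have hr2 : r ≠ 2 := fun e => by
    have := (hor c hc).1.coprime_dvd_left h2c
    rw [e] at this; norm_num at this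
  have hodd : (Nat.card (Lab W)).Coprime 2 := h.lab_card_coprime ((hor c hc).2.coprime_dvd_left h2c).symm
  refine Or.inr ?_
  show ∀ x, η c hc x = -x
  by_contra hno
  push Not at hno
  obtain ⟨x, hx⟩ := hno
  set η₁ := η c hc with hη₁
  have hi₁ : ∀ x, η₁ (η₁ x) = x := fun x => by rw [← LinearEquiv.mul_apply, hη₁, hsq c hc]; rfl
  set y := x + η₁ x with hy
  have hy0 : y ≠ 0 := fun e => hx (eq_neg_of_add_eq_zero_right e)
  have hy1 : η₁ y = y := by rw [hy, map_add, hi₁, add_comm]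
  obtain ⟨g, hg, hgy⟩ : ∃ g, ∃ hg : g ∈ R, η g hg y ≠ y := by
    by_contra hno
    push Not at hno
    obtain ⟨w, hw⟩ := toLab_surjective W y
    apply hy0
    rw [← hw, show w = ⟨(w : Aut V), w.2⟩ from rfl, h.lab_zero]
    refine hfpf w w.2 fun g hg => (h.lab_eq ⟨g, (hgood g hg).norm⟩ w).1 ?_
    rw [hw]; exact hno g hg
  set η₂ := η g hg with hη₂
  have hi₂ : ∀ x, η₂ (η₂ x) = x := fun x => by rw [← LinearEquiv.mul_apply, hη₂, hsq g hg]; rfl
  have hcom : ∀ x, η₁ (η₂ x) = η₂ (η₁ x) := by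
    intro x
    have e := hsq _ (mul_mem hc hg)
    rw [hmul c g hc hg] at e
    have e2 := LinearEquiv.congr_fun e (η₂ (η₁ x))
    simp only [LinearEquiv.mul_apply, LinearEquiv.coe_one, id_eq, ← hη₁, ← hη₂, hi₂, hi₁] at e2
    exact e2
  -- the three parts
  have e12 : η₁ * η₂ = η (c * g) (mul_mem hc hg) := (hmul c g hc hg).symm
  have hB := three_parts hodd (hsq c hc) (hsq g hg) hcom (Q := 2 * r - 1) (hcard c hc h1)
    (hcard g hg fun e => hgy (by rw [hη₂, e]; rfl))
    (e12 ▸ hcard (c * g) (mul_mem hc hg) fun e => hgy (by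
      rw [← e12] at e
      have e3 := LinearEquiv.congr_fun e y
      rwa [LinearEquiv.mul_apply, hcom, hy1] at e3))
  -- `a` acts without fixed points on a part
  set α := labHom W ⟨a, h.norm⟩ with hα
  have hαr : α ^ r = 1 := by
    rw [hα, ← map_pow, show (⟨a, h.norm⟩ : normalizer (W : Set (Aut V))) ^ r = 1 from Subtype.ext h.apow, map_one]
  have hαg : ∀ g (hg : g ∈ R) z, α (η g hg z) = η g hg (α z) := fun g hg z => by
    rw [← LinearEquiv.mul_apply, hα, ← map_mul,
      show (⟨a, h.norm⟩ : normalizer (W : Set (Aut V))) * ⟨g, (hgood g hg).norm⟩ =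
        ⟨g, (hgood g hg).norm⟩ * ⟨a, h.norm⟩ from Subtype.ext (hgood g hg).comm, map_mul]
    rfl
  have hmod := card_modEq_one hαr (negPart η₁ ⊓ fixPart η₂) (fun z hz => by
    simp only [AddSubgroup.mem_inf, mem_negPart, mem_fixPart] at *
    rw [hη₁, ← hαg c hc, hη₂, ← hαg g hg, ← hη₁, ← hη₂, hz.1, hz.2, map_neg]
    exact ⟨rfl, rfl⟩) (fun z hz => (h.free_labels h.norm h.alpha_free).free 1
      (fun hd => h.hr.ne_one (Nat.dvd_one.1 hd)) z (by rw [pow_one]; exact hz))
  rw [hB, Nat.ModEq, Nat.mod_eq_of_lt h.hr.one_lt,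
    show 2 * r - 1 = r + (r - 1) by have := h.hr.pos; omega, Nat.add_mod_left,
    Nat.mod_eq_of_lt (by have := h.hr.pos; omega)] at hmod
  exact hr2 (by omega)

end Frame

end Cfsg.Agent.TwoLoss
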