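import Cfsg.Agent.Lib.TwoLoss.BadAction
import Cfsg.Agent.Lib.TwoLoss.SmallGroup

/-!
# The crux: a bad residual group acts trivially
-/

set_option autoImplicit false
set_option linter.unusedSectionVars false
set_option linter.style.haveILetI false

namespace Cfsg.Agent.TwoLoss

open Subgroup
open scoped commutatorElement

universe u

variable {V : Type u} [AddCommGroup V] [Finite V]

/-- A bad residual group `R` of `C` acting on `W = ⁅W, R⁆`. -/
structure CruxData (p q r : ℕ) (a : Aut V) (W R C : Subgroup (Aut V)) (K : AddSubgroup V) : Prop where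
  hp : p.Prime
  hq : q.Prime
  hr : r.Prime
  elem : ∀ x : V, p • x = 0
  qp : q ≠ p
  rp : r ≠ p
  rq : r ≠ q
  pgroup : IsPGroup q W
  apow : a ^ r = 1
  norm : a ∈ normalizer (W : Set (Aut V))
  class2 : ∀ v ∈ W, ∀ w ∈ W, ⁅v, w⁆ ∈ centralizer (W : Set (Aut V))
  fixed_central : ∀ w ∈ W, a * w = w * a → w ∈ centralizer (W : Set (Aut V))
  le : R ≤ C
  comm : ∀ h ∈ C, a * h = h * a
  Cnorm : C ≤ normalizer (W : Set (Aut V))
  Rq : (Nat.card R).Coprime q
  Cr : (Nat.card C).Coprime r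
  fixR : ∀ w ∈ W, a * w = w * a → ∀ c ∈ R, c * w = w * c
  gen : ⁅W, R⁆ = W
  cov : Covered a W K
  bad : ∀ c ∈ R, ∀ v, a v = v → c v - v ∈ K
  badz : ∀ h ∈ C, ∀ z ∈ W, a * z = z * a → ∀ v, a v = v → ⁅h, z⁆ v - v ∈ K
  residual : (∀ h ∈ C, ∀ c ∈ R, ∀ w ∈ W, ⁅h, c⁆ * w = w * ⁅h, c⁆) → ∀ c ∈ R, ∀ w ∈ W, c * w = w * c

namespace CruxData

variable {p q r : ℕ} {a : Aut V} {W R C : Subgroup (Aut V)} {K : AddSubgroup V}

theorem badAction (h : CruxData p q r a W R C K) : BadAction p r a W R K where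
  hr := h.hr
  elem := h.elem
  apow := h.apow
  norm := h.norm
  comm c hc := h.comm c (h.le hc)
  Rnorm c hc := h.Cnorm (h.le hc)
  Wp := coprime_of_pgroup h.hq h.hp h.qp.symm h.pgroup
  Wr := coprime_of_pgroup h.hq h.hr h.rq h.pgroup
  Rr := h.Cr.coprime_dvd_left (card_dvd_of_le h.le)
  gen := h.gen
  cov := h.cov
  bad := h.bad

theorem fixC (h : CruxData p q r a W R C K) {z : Aut V} (hz : z ∈ W)
    (hzc : z ∈ centralizer (W : Set (Aut V))) : a * z = z * a := h.badAction.centre_fixed hz hzc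

theorem core (h : CruxData p q r a W R C K) : Core p q r a W := by
  refine
    { hp := h.hp, hq := h.hq, hr := h.hr, elem := h.elem, qp := h.qp, rp := h.rp, rq := h.rq, pgroup := h.pgroup
      apow := h.apow, norm := h.norm, class2 := h.class2, gen := ?_, fixC := fun z hz hzc => h.fixC hz hzc }
  have hA : zpowers a ≤ normalizer (W : Set (Aut V)) := zpowers_le.2 h.norm
  have hW₁ : ⁅W, zpowers a⁆ ≤ W := Coprime.commutator_le_of_le_normalizer hA
  have hcop : (Nat.card (zpowers a)).Coprime (Nat.card W) := by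
    rw [Nat.card_zpowers]
    exact (coprime_of_pgroup h.hq h.hr h.rq h.pgroup).symm.coprime_dvd_left (orderOf_dvd_of_pow_eq_one h.apow)
  refine le_antisymm hW₁ ?_
  conv_lhs => rw [← h.gen]
  rw [Subgroup.commutator_le]
  intro w hw c hc
  obtain ⟨u, hu, y, hy, rfl⟩ := Coprime.exists_eq_centralizer_mul_commutator hA hcop
    (Or.inl (Coprime.isSolvable_of_isMulCommutative _)) hw
  have hua : a * u = u * a := mem_centralizer_iff.1 hu.2 a (mem_zpowers a)
  have h1 : c * u⁻¹ * c⁻¹ = u⁻¹ := by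
    rw [show c * u⁻¹ * c⁻¹ = (c * u * c⁻¹)⁻¹ by group, h.fixR u hu.1 hua c hc, mul_inv_cancel_right]
  have hc1 : c ∈ normalizer ((⁅W, zpowers a⁆ : Subgroup (Aut V)) : Set (Aut V)) :=
    normalizer_commutator_zpowers (h.Cnorm (h.le hc)) (h.comm c (h.le hc))
  have hm : y * (c * y⁻¹ * c⁻¹) ∈ ⁅W, zpowers a⁆ := mul_mem hy ((mem_normalizer_iff.1 hc1 _).1 (inv_mem hy))
  have e : ⁅u * y, c⁆ = y * (c * y⁻¹ * c⁻¹) := by
    calc ⁅u * y, c⁆ = u * (y * (c * y⁻¹ * c⁻¹)) * (c * u⁻¹ * c⁻¹) := by rw [commutatorElement_def]; group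
      _ = y * (c * y⁻¹ * c⁻¹) := by
        rw [h1, ← mem_centralizer_iff.1 (h.fixed_central u hu.1 hua) _ (hW₁ hm), mul_inv_cancel_right]
  rw [e]; exact hm

theorem norm_derived {y : Aut V} (hy : y ∈ normalizer (W : Set (Aut V))) :
    y ∈ normalizer ((⁅W, W⁆ : Subgroup (Aut V)) : Set (Aut V)) := by
  rw [← Coprime.conj_smul_eq_self_iff, Coprime.conj_smul_commutator, Coprime.conj_smul_eq_self_iff.2 hy]

/-- `W` is trivial where its derived group is. -/
theorem trivial_on_fixed (h : CruxData p q r a W R C K) {w : Aut V} (hw : w ∈ W) {u : V}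
    (hu : u ∈ fixed ⁅W, W⁆) : w u = u := by
  set E := fixed (⁅W, W⁆ : Subgroup (Aut V))
  have hst : ∀ y, y ∈ normalizer (W : Set (Aut V)) → y ∈ stab E := fun y hy =>
    mem_stab_of_map fun x hx => fixed_inv (norm_derived hy) hx
  have hWs : W ≤ stab E := fun y hy => hst y (le_normalizer hy)
  have hb := h.badAction.restrict (hst a h.norm) hWs fun c hc => hst c (h.Cnorm (h.le hc))
  have hab : ∀ x ∈ img E W, x ∈ centralizer (img E W : Set (Aut E)) := by
    intro x hx
    obtain ⟨g, hg, rfl⟩ := mem_img.1 hx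
    refine mem_centralizer_iff.2 ?_
    rintro _ hy
    obtain ⟨g', hg', rfl⟩ := mem_img.1 hy
    rw [← commutatorElement_eq_one_iff_mul_comm, ← map_commutatorElement]
    exact (resE_eq_one _).2 fun v hv => hv _ (commutator_mem_commutator hg' hg)
  have hbot : img E W ≤ ⊥ := by
    conv_lhs => rw [← img_commutator hWs (a := ⟨a, hst a h.norm⟩) h.core.gen]
    rw [Subgroup.commutator_le]
    intro x hx y hy
    obtain ⟨n, rfl⟩ := mem_zpowers_iff.1 hy
    rw [mem_bot, commutatorElement_eq_one_iff_mul_comm]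
    exact (((show Commute _ x from hb.centre_fixed hx (hab x hx)).zpow_left n).eq).symm
  have h1 : resE E ⟨w, hWs hw⟩ = 1 := mem_bot.1 (hbot (mem_img.2 ⟨⟨w, hWs hw⟩, hw, rfl⟩))
  exact (resE_eq_one _).1 h1 u hu

/-- A central element with nothing moved inside the moved part of the derived group is trivial. -/
theorem central_eq_one (h : CruxData p q r a W R C K) {z : Aut V} (hz : z ∈ W)
    (hM : moved ⁅W, W⁆ ⊓ moved (zpowers z) = ⊥) : z = 1 := by
  refine eq_one_of_parts h.elem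
    (h.badAction.Wp.coprime_dvd_left (card_dvd_of_le (fun x hx => (h.core.commutator_le hx).1)))
    (fun u hu => h.trivial_on_fixed hz hu) fun u hu => sub_eq_zero.1 ?_
  haveI := Fintype.ofFinite (zpowers z)
  have : z u - u ∈ moved ⁅W, W⁆ ⊓ moved (zpowers z) :=
    ⟨AddSubgroup.sub_mem _ (moved_inv (norm_derived (le_normalizer hz)) hu) hu, sub_mem_moved u (mem_zpowers z)⟩
  rwa [hM, AddSubgroup.mem_bot] at this

/-- `M` is invariant under `a`, `W` and `R`. -/
structure Inv (a : Aut V) (W R : Subgroup (Aut V)) (M : AddSubgroup V) : Prop where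
  le : M ≤ moved ⁅W, W⁆
  W_mem : ∀ w ∈ W, ∀ x ∈ M, w x ∈ M
  R_mem : ∀ c ∈ R, ∀ x ∈ M, c x ∈ M
  a_mem : ∀ x ∈ M, a x ∈ M

theorem inv_moved (h : CruxData p q r a W R C K) {z : Aut V} (hz : z ∈ W)
    (hzc : z ∈ centralizer (W : Set (Aut V))) : Inv a W R (moved ⁅W, W⁆ ⊓ moved (zpowers z)) := by
  have hmv : ∀ y, y ∈ normalizer (W : Set (Aut V)) → y * z = z * y →
      ∀ x ∈ moved ⁅W, W⁆ ⊓ moved (zpowers z), y x ∈ moved ⁅W, W⁆ ⊓ moved (zpowers z) := fun y hy hyz x hx =>
    ⟨moved_inv (norm_derived hy) hx.1, moved_inv (normalizer_of_map fun g hg => by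
      obtain ⟨n, rfl⟩ := mem_zpowers_iff.1 hg
      rw [((show Commute y z from hyz).zpow_right n).eq, mul_inv_cancel_right]
      exact zpow_mem (mem_zpowers z) n) hx.2⟩
  exact ⟨inf_le_left, fun w hw => hmv w (le_normalizer hw) (mem_centralizer_iff.1 hzc w hw),
    fun c hc => hmv c (h.Cnorm (h.le hc)) (h.fixR z hz (h.fixC hz hzc) c hc), hmv a h.norm (h.fixC hz hzc)⟩

/-- What a piece gives. -/
theorem piece_facts (h : CruxData p q r a W R C K) {M E : AddSubgroup V} (hM : Inv a W R M)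
    (hE : Piece2 W M E) : ∃ (ha : a ∈ stab E) (_ : R ≤ stab E), Frame p q r (resE E ⟨a, ha⟩) (img E W) ∧
      (∀ y : stab E, a * (y : Aut V) = y * a → (y : Aut V) ∈ normalizer (W : Set (Aut V)) →
        (∀ g ∈ W, a * g = g * a → (y : Aut V) * g = g * y) → Good (resE E ⟨a, ha⟩) (img E W) (resE E y)) ∧
      ∃ v ∈ E, v ≠ 0 ∧ a v = v := by
  have ha : a ∈ stab E := hE.a_mem h.core hM.a_mem
  have hR : R ≤ stab E := fun c hc => hE.stab_of c (hM.R_mem c hc) fun z hz =>
    h.fixR z hz.1 (h.fixC hz.1 hz.2) c hc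
  have hb := h.badAction.restrict ha hE.W_stab hR
  have hF : Frame p q r (resE E ⟨a, ha⟩) (img E W) := h.core.frame hE ha (by
    intro w hw hwc
    have hc : resE E ⟨w, hE.W_stab hw⟩ ∈ centralizer (img E W : Set (Aut E)) := by
      refine mem_centralizer_iff.2 ?_
      rintro _ hy
      obtain ⟨g', hg', rfl⟩ := mem_img.1 hy
      symm
      rw [← commutatorElement_eq_one_iff_mul_comm, ← map_commutatorElement]
      exact (resE_eq_one _).2 fun v hv => hwc _ hg' v hv
    have h1 := hb.centre_fixed (mem_img.2 ⟨⟨w, hE.W_stab hw⟩, hw, rfl⟩) hc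
    rw [← commutatorElement_eq_one_iff_mul_comm, ← map_commutatorElement] at h1
    exact (resE_eq_one _).1 h1)
  have hgood : ∀ y : stab E, a * (y : Aut V) = y * a → (y : Aut V) ∈ normalizer (W : Set (Aut V)) →
      (∀ g ∈ W, a * g = g * a → (y : Aut V) * g = g * y) → Good (resE E ⟨a, ha⟩) (img E W) (resE E y) := by
    intro y hya hyW hyg
    refine ⟨?_, img_norm hyW, fun z hz hzc => ?_⟩
    · rw [← map_mul, ← map_mul]
      exact congrArg _ (Subtype.ext hya)
    · obtain ⟨g, hg, hga, rfl⟩ := lift_fixed hE.W_stab h.apow h.norm h.badAction.Wr hz (hF.fixC z hz hzc)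
      rw [← map_mul, ← map_mul]
      exact congrArg _ (Subtype.ext (hyg g hg hga))
  refine ⟨ha, hR, hF, hgood, ?_⟩
  by_contra hno
  push Not at hno
  obtain ⟨Q, -, -, hQ⟩ := hF.exceptional fun v hv => by
    by_contra hv0
    exact hno (v : V) v.2 (fun e => hv0 (Subtype.ext e)) (congrArg Subtype.val hv)
  refine hF.nonab fun x hx => ?_
  have hbot : img E W ≤ ⊥ := by
    conv_lhs => rw [← hb.gen]
    rw [Subgroup.commutator_le]
    intro x hx c hc
    obtain ⟨c, hcR, rfl⟩ := mem_img.1 hc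
    have hg := hgood c (h.comm _ (h.le hcR)) (h.Cnorm (h.le hcR)) fun g hg hga => h.fixR g hg hga _ hcR
    have hor : (orderOf (resE E c)).Coprime r :=
      (h.badAction.Rr.coprime_dvd_left (Subgroup.orderOf_dvd_natCard R hcR)).coprime_dvd_left
        ((orderOf_map_dvd (resE E) c).trans (orderOf_coe c).symm.dvd)
    rw [mem_bot, commutatorElement_eq_one_iff_mul_comm]
    exact (hF.centralizes hg (hQ _ hg hor) x hx).symm
  rw [mem_bot.1 (hbot hx)]
  exact one_mem _

/-- `C` centralises the centre. -/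
theorem C_centre (h : CruxData p q r a W R C K) {g z₀ : Aut V} (hg : g ∈ C) (hz₀ : z₀ ∈ W)
    (hzc₀ : z₀ ∈ centralizer (W : Set (Aut V))) : g * z₀ = z₀ * g := by
  classical
  have hcn := h.core.centre_norm (h.Cnorm hg)
  set z := ⁅g, z₀⁆ with hzdef
  have hzm : z ∈ Core.centre W := by
    rw [hzdef, commutatorElement_def]
    exact mul_mem ((mem_normalizer_iff.1 hcn z₀).1 ⟨hz₀, hzc₀⟩) (inv_mem ⟨hz₀, hzc₀⟩)
  have hbad := h.badz g hg z₀ hz₀ (h.fixC hz₀ hzc₀)
  haveI : Fact q.Prime := ⟨h.hq⟩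
  haveI : Group.IsNilpotent W := h.pgroup.isNilpotent
  obtain ⟨𝓛, hmeet, hadm⟩ := h.cov
  have htriv : ∀ v, a v = v → v ∈ moved ⁅W, W⁆ → z v = v := by
    intro v hv hvm
    refine sub_eq_zero.1 (hmeet _ ?_ fun L hL => ?_)
    · rw [map_sub, ← aut_mul, h.fixC hzm.1 hzm.2, aut_mul, hv]
    rcases hadm L hL with hKL | ⟨-, hdi⟩
    · exact hKL (hbad v hv)
    refine delta_mem (δ := z.toLinearMap.toAddMonoidHom - AddMonoidHom.id V) h.hr h.apow h.norm
      h.badAction.Wr h.core.gen (fun x hx => torsion_mem h.elem ((Nat.coprime_primes h.hr h.hp).2 h.rp) hx)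
      (fun x hx u => ?_) (fun u => ?_) hbad hdi v hv ?_
    · show z (x u) - x u = x (z u - u)
      rw [map_sub, ← aut_mul, ← mem_centralizer_iff.1 hzm.2 x hx, aut_mul]
    · show z (a u) - a u = a (z u - u)
      rw [map_sub, ← aut_mul, ← h.fixC hzm.1 hzm.2, aut_mul]
    · refine AddSubgroup.closure_mono ?_ (moved_le_closure h.elem
        (h.badAction.Wp.coprime_dvd_left (card_dvd_of_le (fun x hx => (h.core.commutator_le hx).1))) hvm)
      rintro _ ⟨x, hx, y, e⟩
      exact ⟨x, (h.core.commutator_le hx).1, y, e⟩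
  have hz1 : z = 1 := by
    refine h.central_eq_one hzm.1 ?_
    by_contra hne
    have hI := h.inv_moved hzm.1 hzm.2
    obtain ⟨E, hE⟩ := h.core.exists_piece _ hne hI.le hI.W_mem
    obtain ⟨-, -, -, -, v, hvE, hv0, hva⟩ := h.piece_facts hI hE
    refine hv0 (eq_zero_of_moved h.elem (h.badAction.Wp.coprime_dvd_left (card_dvd_of_le (zpowers_le.2 hzm.1)))
      (hE.le hvE).2 fun x hx => ?_)
    exact MulAction.mem_stabilizer_iff.1 (zpowers_le.2
      (MulAction.mem_stabilizer_iff.2 (htriv v hva (hE.le hvE).1) : z ∈ MulAction.stabilizer (Aut V) v) hx)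
  rwa [hzdef, commutatorElement_eq_one_iff_mul_comm] at hz1

/-- Without fixed classes: `R` fixes only central classes on a piece. -/
theorem piece_fpf {p q r : ℕ} {a : Aut V} {W R : Subgroup (Aut V)} (hF : Frame p q r a W)
    (hgood : ∀ c ∈ R, Good a W c) (hRq : (Nat.card R).Coprime q) (hgen : ⁅W, R⁆ = W) :
    ∀ w ∈ W, (∀ c ∈ R, ⁅c, w⁆ ∈ centralizer (W : Set (Aut V))) → w ∈ centralizer (W : Set (Aut V)) := by
  intro w hw hc
  haveI := Fact.mk hF.hq
  have hcw : ∀ c ∈ R, Commute c w := by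
    intro c hcR
    set f := ⁅c, w⁆ with hf
    have hfW : f ∈ W := by
      rw [hf, commutatorElement_def]
      exact mul_mem ((mem_normalizer_iff.1 (hgood c hcR).norm w).1 hw) (inv_mem hw)
    have hcf : Commute c f := (hgood c hcR).centre f hfW (hc c hcR)
    have hiter : ∀ n : ℕ, c ^ n * w * (c ^ n)⁻¹ = f ^ n * w := by
      intro n
      induction n with
      | zero => simp
      | succ n ih =>
        have e1 : c ^ (n + 1) * w * (c ^ (n + 1))⁻¹ = c * (c ^ n * w * (c ^ n)⁻¹) * c⁻¹ := by rw [pow_succ']; group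
        rw [e1, ih, show c * (f ^ n * w) * c⁻¹ = (c * f ^ n * c⁻¹) * (f * w) by
          rw [hf, commutatorElement_def]; group, (hcf.pow_right n).eq, mul_inv_cancel_right, ← mul_assoc,
          ← pow_succ]
    have h1 := hiter (orderOf c)
    rw [pow_orderOf_eq_one, inv_one, one_mul, mul_one, right_eq_mul] at h1
    have hf1 : f = 1 := by
      obtain ⟨e, he⟩ := IsPGroup.iff_card.1 hF.pgroup
      exact orderOf_eq_one_iff.1 (Nat.eq_one_of_dvd_coprimes
        (Nat.Coprime.pow_right e (hRq.coprime_dvd_left (Subgroup.orderOf_dvd_natCard R hcR)))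
        (orderOf_dvd_of_pow_eq_one h1) (he ▸ Subgroup.orderOf_dvd_natCard W hfW))
    rwa [hf, commutatorElement_eq_one_iff_mul_comm] at hf1
  have hle : W ≤ centralizer ({w} : Set (Aut V)) := by
    conv_lhs => rw [← hgen]
    rw [Subgroup.commutator_le]
    intro x hx c hcR
    refine mem_centralizer_iff.2 fun g hg => ?_
    rw [Set.mem_singleton_iff.1 hg]
    set e := ⁅w, x⁆ with he
    have hec := hF.class2 w hw x hx
    have heW : e ∈ W := by
      rw [he, commutatorElement_def]; exact mul_mem (mul_mem (mul_mem hw hx) (inv_mem hw)) (inv_mem hx)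
    have hy : w * (c * x * c⁻¹) * w⁻¹ = e * (c * x * c⁻¹) := by
      calc w * (c * x * c⁻¹) * w⁻¹ = (w * c) * x * (w * c)⁻¹ := by group
        _ = (c * w) * x * (c * w)⁻¹ := by rw [(hcw c hcR).eq]
        _ = c * e * x * c⁻¹ := by rw [he, commutatorElement_def]; group
        _ = e * (c * x * c⁻¹) := by rw [(hgood c hcR).centre e heW hec]; group
    have hm : x * (c * x * c⁻¹)⁻¹ ∈ W := mul_mem hx (inv_mem ((mem_normalizer_iff.1 (hgood c hcR).norm x).1 hx))
    rw [← mul_inv_eq_iff_eq_mul,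
      show w * ⁅x, c⁆ * w⁻¹ = (w * x * w⁻¹) * (w * (c * x * c⁻¹) * w⁻¹)⁻¹ by rw [commutatorElement_def]; group, hy,
      show w * x * w⁻¹ = e * x by rw [he, commutatorElement_def]; group,
      show e * x * (e * (c * x * c⁻¹))⁻¹ = e * (x * (c * x * c⁻¹)⁻¹) * e⁻¹ by group,
      ← mem_centralizer_iff.1 hec _ hm, mul_inv_cancel_right, commutatorElement_def]
    group
  exact mem_centralizer_iff.2 fun x hx => ((mem_centralizer_iff.1 (hle hx)) w rfl).symm

/-- On a piece the commutators of `C` and `R` centralise `W`. -/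
theorem piece_commute (h : CruxData p q r a W R C K) {M E : AddSubgroup V} (hM : Inv a W R M)
    (hMC : ∀ g ∈ C, ∀ x ∈ M, g x ∈ M) (hE : Piece2 W M E) {g c w : Aut V} (hg : g ∈ C) (hc : c ∈ R)
    (hw : w ∈ W) : ∀ x ∈ E, ⁅⁅g, c⁆, w⁆ x = x := by
  obtain ⟨ha, hR, hF, hgood, v, hvE, hv0, hva⟩ := h.piece_facts hM hE
  have hgs : g ∈ stab E := hE.stab_of g (hMC g hg) fun z hz => h.C_centre hg hz.1 hz.2
  have hb := h.badAction.restrict ha hE.W_stab hR
  have hGR : ∀ x ∈ img E R, Good (resE E ⟨a, ha⟩) (img E W) x := by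
    intro x hx
    obtain ⟨d, hdR, rfl⟩ := mem_img.1 hx
    exact hgood d (h.comm _ (h.le hdR)) (h.Cnorm (h.le hdR)) fun u hu hua => h.fixR u hu hua _ hdR
  have hRq' : (Nat.card (img E R)).Coprime q := h.Rq.coprime_dvd_left (card_img_dvd E R)
  have hcm : resE E ⟨c, hR hc⟩ ∈ img E R := mem_img.2 ⟨_, hc, rfl⟩
  have hsign := hF.sign hGR hb.Rr hRq' hb.cov hb.bad ⟨⟨v, hvE⟩, Subtype.ext hva, fun e => hv0 (congrArg Subtype.val e)⟩
    (piece_fpf hF hGR hRq' hb.gen) hcm
  have hGh : Good (resE E ⟨a, ha⟩) (img E W) (resE E ⟨g, hgs⟩) := hgood ⟨g, hgs⟩ (h.comm g hg) (h.Cnorm hg)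
    fun u hu hua => h.C_centre hg hu (h.fixed_central u hu hua)
  have hGc := hGR _ hcm
  set gb := resE E ⟨g, hgs⟩
  set cb := resE E ⟨c, hR hc⟩
  have hGd : Good (resE E ⟨a, ha⟩) (img E W) ⁅gb, cb⁆ := by
    refine ⟨?_, ?_, fun z hz hzc => ?_⟩
    · have h1 : Commute (resE E ⟨a, ha⟩) gb := hGh.comm
      have h2 : Commute (resE E ⟨a, ha⟩) cb := hGc.comm
      rw [commutatorElement_def]
      exact (((h1.mul_right h2).mul_right h1.inv_right).mul_right h2.inv_right).eq
    · rw [commutatorElement_def]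
      exact mul_mem (mul_mem (mul_mem hGh.norm hGc.norm) (inv_mem hGh.norm)) (inv_mem hGc.norm)
    · have h1 : Commute gb z := hGh.centre z hz hzc
      have h2 : Commute cb z := hGc.centre z hz hzc
      rw [commutatorElement_def]
      exact (((h1.mul_left h2).mul_left h1.inv_left).mul_left h2.inv_left).eq
  have hlab : labHom (img E W) ⟨⁅gb, cb⁆, hGd.norm⟩ = 1 := by
    have e : (⟨⁅gb, cb⁆, hGd.norm⟩ : normalizer (img E W : Set (Aut E))) = ⁅(⟨gb, hGh.norm⟩ : normalizer (img E W : Set (Aut E))), ⟨cb, hGc.norm⟩⁆ :=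
      Subtype.ext rfl
    rw [e, map_commutatorElement, commutatorElement_eq_one_iff_mul_comm]
    refine LinearEquiv.ext fun x => ?_
    rw [LinearEquiv.mul_apply, LinearEquiv.mul_apply]
    rcases hsign with hs | hs
    · rw [hs]; rfl
    · rw [hs, hs, map_neg]
  have hcent := hF.centralizes hGd (fun y hy => (hF.lab_eq ⟨_, hGd.norm⟩ ⟨y, hy⟩).1 (by rw [hlab]; rfl))
    (resE E ⟨w, hE.W_stab hw⟩) (mem_img.2 ⟨_, hw, rfl⟩)
  rw [← map_commutatorElement, ← commutatorElement_eq_one_iff_mul_comm, ← map_commutatorElement] at hcent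
  exact (resE_eq_one _).1 hcent

/-- **The crux.** -/
theorem crux (h : CruxData p q r a W R C K) : W = ⊥ := by
  have hcomm : ∀ g ∈ C, ∀ c ∈ R, ∀ w ∈ W, ⁅g, c⁆ * w = w * ⁅g, c⁆ := by
    intro g hg c hc w hw
    rw [← commutatorElement_eq_one_iff_mul_comm]
    -- trivial on every piece
    let D : Aut V → Prop := fun d => ∀ M E, Inv a W R M → (∀ g ∈ C, ∀ x ∈ M, g x ∈ M) → Piece2 W M E →
      ∀ x ∈ E, d x = x
    have hDz : ∀ z ∈ W, z ∈ centralizer (W : Set (Aut V)) → D z → z = 1 := by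
      intro z hz hzc hD
      refine h.central_eq_one hz ?_
      by_contra hne
      have hI := h.inv_moved hz hzc
      obtain ⟨E, hE⟩ := h.core.exists_piece _ hne hI.le hI.W_mem
      refine hE.ne ((AddSubgroup.eq_bot_iff_forall _).2 fun x hx => ?_)
      refine eq_zero_of_moved h.elem (h.badAction.Wp.coprime_dvd_left (card_dvd_of_le (zpowers_le.2 hz)))
        (hE.le hx).2 fun y hy => ?_
      refine MulAction.mem_stabilizer_iff.1 (zpowers_le.2 (MulAction.mem_stabilizer_iff.2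
        (hD _ E hI (fun g hg x hx => ⟨moved_inv (norm_derived (h.Cnorm hg)) hx.1, moved_inv (normalizer_of_map
          fun u hu => ?_) hx.2⟩) hE x hx) : z ∈ MulAction.stabilizer (Aut V) x) hy)
      obtain ⟨n, rfl⟩ := mem_zpowers_iff.1 hu
      rw [((show Commute g z from h.C_centre hg hz hzc).zpow_right n).eq, mul_inv_cancel_right]
      exact zpow_mem (mem_zpowers z) n
    set d := ⁅⁅g, c⁆, w⁆ with hd
    have hdn : ⁅g, c⁆ ∈ normalizer (W : Set (Aut V)) := by
      rw [commutatorElement_def]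
      exact mul_mem (mul_mem (mul_mem (h.Cnorm hg) (h.Cnorm (h.le hc))) (inv_mem (h.Cnorm hg)))
        (inv_mem (h.Cnorm (h.le hc)))
    have hdW : d ∈ W := by
      rw [hd, commutatorElement_def]
      exact mul_mem ((mem_normalizer_iff.1 hdn w).1 hw) (inv_mem hw)
    have hDd : D d := fun M E hM hMC hE => h.piece_commute hM hMC hE hg hc hw
    refine hDz d hdW (mem_centralizer_iff.2 fun x hx => (commutatorElement_eq_one_iff_mul_comm.1
      (hDz ⁅x, d⁆ ?_ (h.class2 x hx d hdW) ?_))) hDd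
    · rw [commutatorElement_def]; exact mul_mem (mul_mem (mul_mem hx hdW) (inv_mem hx)) (inv_mem hdW)
    · intro M E hM hMC hE u hu
      have h1 := hDd M E hM hMC hE
      have h2 : d⁻¹ u = u := by
        conv_lhs => rw [← h1 u hu]
        exact aut_apply_inv d u
      rw [commutatorElement_def, aut_mul, aut_mul, aut_mul, h2,
        h1 _ ((hE.W_stab (inv_mem hx) u).2 hu), aut_inv_apply]
  have hR := h.residual hcomm
  rw [← h.gen, eq_bot_iff, Subgroup.commutator_le]
  intro w hw c hc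
  rw [mem_bot, commutatorElement_eq_one_iff_mul_comm, hR c hc w hw]

end CruxData

end Cfsg.Agent.TwoLoss
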