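import Cfsg.Agent.Lib.TwoLoss.FamilyBase
import Cfsg.Agent.Lib.TwoLoss.FrameMain

/-!
# A constituent on which a bad element acts
-/

set_option autoImplicit false
set_option linter.unusedSectionVars false
set_option linter.style.haveILetI false

namespace Cfsg.Agent.TwoLoss

open Subgroup
open scoped commutatorElement

universe u

variable {V : Type u} [AddCommGroup V] [Finite V]

namespace Step

/-- The classes of the kernel of a constituent. -/
noncomputable abbrev Lth (W : Subgroup (Aut V)) (θ : AddSubgroup V) : AddSubgroup (Vq W) := classes W (ker W θ)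

/-- The commuting elements of `Y` keeping the classes of the kernel. -/
noncomputable def S0 (a : Aut V) (W Y : Subgroup (Aut V)) (θ : AddSubgroup V) : Subgroup (Aut V) where
  carrier := {y | y ∈ Y ∧ a * y = y * a ∧
    ∃ hy : y ∈ normalizer (W : Set (Aut V)), ∀ x, qHom W ⟨y, hy⟩ x ∈ Lth W θ ↔ x ∈ Lth W θ}
  one_mem' := ⟨one_mem Y, by rw [mul_one, one_mul], one_mem _, fun x => by
    rw [show (⟨1, one_mem _⟩ : normalizer (W : Set (Aut V))) = 1 from rfl, map_one]; rfl⟩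
  mul_mem' := fun {b c} ⟨hb, hba, hbW, hbL⟩ ⟨hc, hca, hcW, hcL⟩ =>
    ⟨mul_mem hb hc, ((show Commute a b from hba).mul_right (show Commute a c from hca)).eq, mul_mem hbW hcW,
      fun x => by
        rw [show (⟨b * c, mul_mem hbW hcW⟩ : normalizer (W : Set (Aut V))) = ⟨b, hbW⟩ * ⟨c, hcW⟩ from rfl, map_mul,
          LinearEquiv.mul_apply, hbL, hcL]⟩
  inv_mem' := fun {b} ⟨hb, hba, hbW, hbL⟩ =>
    ⟨inv_mem hb, (show Commute a b from hba).inv_right.eq, inv_mem hbW, fun x => by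
      rw [show (⟨b⁻¹, inv_mem hbW⟩ : normalizer (W : Set (Aut V))) = ⟨b, hbW⟩⁻¹ from rfl, map_inv, ← hbL,
        ← LinearEquiv.mul_apply, mul_inv_cancel]
      rfl⟩

/-- The translates of a constituent. -/
noncomputable def orbit (a : Aut V) (W Y : Subgroup (Aut V)) (θ : AddSubgroup V) : AddSubgroup V :=
  AddSubgroup.closure {x | ∃ i : ℕ, ∃ y ∈ S0 a W Y θ, ∃ u ∈ θ, (a ^ i * y) u = x}

/-- A constituent moved by `X2`, on which a bad element acts. -/
structure Exc (a : Aut V) (W Y : Subgroup (Aut V)) (θ : AddSubgroup V) : Prop where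
  irr : Irr W θ
  fix1 : θ ≤ fixed (X1 a W)
  moved2 : θ ≤ moved (X2 a W)
  bad : ∃ w : W, (w : Aut V) ∈ Nbad a W ∧ toQ W w ∉ Lth W θ

variable {p q r n : ℕ} {a : Aut V} {G W Y N : Subgroup (Aut V)} {θ : AddSubgroup V}

/-- A constituent is moved through, kills the moved part or is exceptional. -/
theorem trichotomy (h : Step p q r n a G W Y N) (hθ : Irr W θ) :
    KV a W ≤ Lth W θ ∨ (∀ x, qHom W ⟨a, h.sec.a_W⟩ x - x ∈ Lth W θ) ∨ Exc a W Y θ := by
  haveI := Fact.mk h.sec.hq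
  by_cases hK : KV a W ≤ Lth W θ
  · exact Or.inl hK
  obtain ⟨_, ⟨w, hw, rfl⟩, hwL⟩ := SetLike.not_le_iff_exists.1 hK
  refine Or.inr ?_
  have hwk : ¬ ∀ u ∈ θ, (w : Aut V) u = u := fun hall => hwL ⟨w, mem_ker.2 ⟨w.2, hall⟩, rfl⟩
  have h1 : θ ≤ fixed (X1 a W) :=
    (hθ.dichotomy (h.X1_spec.1.trans inf_le_left) h.X1_norm).resolve_right fun h1 => hwk fun u hu => hw.2.2.1 u (h1.2 hu)
  rcases hθ.dichotomy h.X2_le h.X2_norm with h2 | h2
  · refine Or.inl fun x => ?_
    obtain ⟨v, rfl⟩ := toQ_surjective W x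
    have hm : ⁅a, (v : Aut V)⁆ ∈ X2 a W := by
      rw [← commutatorElement_inv]; exact inv_mem (commutator_mem_commutator v.2 (mem_zpowers a))
    refine ⟨⟨_, h.X2_le hm⟩, mem_ker.2 ⟨h.X2_le hm, fun u hu => h2 hu _ hm⟩, ?_⟩
    rw [qHom_apply, eq_sub_iff_add_eq, ← toQ_mul]
    congr 1
    exact Subtype.ext (show ⁅a, (v : Aut V)⁆ * (v : Aut V) = a * v * a⁻¹ by rw [commutatorElement_def]; group)
  · exact Or.inr ⟨hθ, h1, h2.2, w, hw, hwL⟩

namespace Exc

variable (h : Step p q r n a G W Y N) (hE : Exc a W Y θ)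
include h hE

theorem S0_norm {y : Aut V} (hy : y ∈ S0 a W Y θ) : y ∈ normalizer (W : Set (Aut V)) := hy.2.2.1

theorem gen_norm (i : ℕ) {y : Aut V} (hy : y ∈ S0 a W Y θ) : a ^ i * y ∈ normalizer (W : Set (Aut V)) :=
  mul_mem (pow_mem h.sec.a_W i) (S0_norm h hE hy)

theorem gen_mem {g : Aut V} (hg : ∀ i : ℕ, ∀ y ∈ S0 a W Y θ, ∀ u ∈ θ, g ((a ^ i * y) u) ∈ orbit a W Y θ) :
    ∀ x ∈ orbit a W Y θ, g x ∈ orbit a W Y θ := by
  have hle : orbit a W Y θ ≤ (orbit a W Y θ).comap g.toLinearMap.toAddMonoidHom := by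
    rw [orbit, AddSubgroup.closure_le]
    rintro _ ⟨i, y, hy, u, hu, rfl⟩
    exact hg i y hy u hu
  exact fun x hx => hle hx

theorem a_mem : a ∈ stab (orbit a W Y θ) := mem_stab_of_map (gen_mem h hE fun i y hy u hu => by
  rw [← aut_mul, ← mul_assoc, ← pow_succ']
  exact AddSubgroup.subset_closure ⟨i + 1, y, hy, u, hu, rfl⟩)

theorem S0_mem {y : Aut V} (hy : y ∈ S0 a W Y θ) : y ∈ stab (orbit a W Y θ) :=
  mem_stab_of_map (gen_mem h hE fun i y' hy' u hu => by
    rw [← aut_mul, ← mul_assoc, ← ((show Commute a y from hy.2.1).pow_left i).eq, mul_assoc]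
    exact AddSubgroup.subset_closure ⟨i, y * y', mul_mem hy hy', u, hu, rfl⟩)

theorem W_mem : W ≤ stab (orbit a W Y θ) := fun w hw => mem_stab_of_map (gen_mem h hE fun i y hy u hu => by
  have hg := gen_norm h hE i hy
  refine AddSubgroup.subset_closure ⟨i, y, hy, ((a ^ i * y)⁻¹ * w * (a ^ i * y)) u,
    hE.irr.inv _ ((mem_normalizer_iff''.1 hg w).1 hw) u hu, ?_⟩
  rw [← aut_mul, ← aut_mul]
  congr 1
  group)

theorem orbit_le {M : AddSubgroup V} (hM : ∀ i : ℕ, ∀ y ∈ S0 a W Y θ, ∀ u ∈ θ, (a ^ i * y) u ∈ M) :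
    orbit a W Y θ ≤ M := by
  rw [orbit, AddSubgroup.closure_le]
  rintro _ ⟨i, y, hy, u, hu, rfl⟩
  exact hM i y hy u hu

theorem le_orbit : θ ≤ orbit a W Y θ := fun u hu => AddSubgroup.subset_closure ⟨0, 1, one_mem _, u, hu, by simp⟩

theorem orbit_fixed : orbit a W Y θ ≤ fixed (X1 a W) := orbit_le h hE fun i y hy u hu =>
  fixed_inv (mul_mem (pow_mem h.X1_spec.2.1 i) (normalizer_commutator_zpowers (centre_norm (S0_norm h hE hy)) hy.2.1))
    (hE.fix1 hu)

theorem orbit_moved : orbit a W Y θ ≤ moved (X2 a W) := orbit_le h hE fun i y hy u hu =>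
  moved_inv (mul_mem (pow_mem (normalizer_commutator_zpowers h.sec.a_W rfl) i)
    (normalizer_commutator_zpowers (S0_norm h hE hy) hy.2.1)) (hE.moved2 hu)

/-- No point of the translates is fixed by `a`. -/
theorem no_fixed {v : V} (hv : v ∈ orbit a W Y θ) (hva : a v = v) : v = 0 := by
  classical
  haveI := Fact.mk h.sec.hq
  obtain ⟨w, hwN, hwL⟩ := hE.bad
  set D := Subgroup.closure {d | ∃ x ∈ W, x * (w : Aut V) * x⁻¹ = d} with hD
  have hDW : D ≤ W := by
    rw [hD, Subgroup.closure_le]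
    rintro _ ⟨x, hx, rfl⟩
    exact mul_mem (mul_mem hx w.2) (inv_mem hx)
  have hWD : W ≤ normalizer (D : Set (Aut V)) := fun g hg => norm_of_map fun d hd => by
    have hle : D ≤ D.comap (MulAut.conj g).toMonoidHom := by
      rw [hD, Subgroup.closure_le]
      rintro _ ⟨x, hx, rfl⟩
      exact Subgroup.subset_closure ⟨g * x, mul_mem hg hx, by
        show g * x * (w : Aut V) * (g * x)⁻¹ = g * (x * (w : Aut V) * x⁻¹) * g⁻¹
        group⟩
    exact hle hd
  have hwD : (w : Aut V) ∈ D := Subgroup.subset_closure ⟨1, one_mem W, by simp⟩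
  have hmv : orbit a W Y θ ≤ moved D := orbit_le h hE fun i y hy u hu => by
    have hg := gen_norm h hE i hy
    rcases (hE.irr.map hg).dichotomy hDW hWD with h1 | h1
    · exfalso
      obtain ⟨hyY, hya, hyW, hyL⟩ := hy
      have hc : (a ^ i * y)⁻¹ * (w : Aut V) * (a ^ i * y) = y⁻¹ * w * y := by
        have e : (a ^ i)⁻¹ * (w : Aut V) * a ^ i = w := by
          rw [mul_assoc, ← ((show Commute a (w : Aut V) from hwN.2.1).pow_left i).eq, inv_mul_cancel_left]
        calc (a ^ i * y)⁻¹ * (w : Aut V) * (a ^ i * y) = y⁻¹ * ((a ^ i)⁻¹ * (w : Aut V) * a ^ i) * y := by group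
          _ = y⁻¹ * w * y := by rw [e]
      have hker : y⁻¹ * (w : Aut V) * y ∈ ker W θ := by
        refine mem_ker.2 ⟨(mem_normalizer_iff''.1 hyW w).1 w.2, fun u' hu' => ?_⟩
        rw [← hc, aut_mul, aut_mul]
        conv_rhs => rw [← aut_apply_inv (a ^ i * y) u']
        congr 1
        exact h1 (AddSubgroup.mem_map.2 ⟨u', hu', rfl⟩) _ hwD
      refine hwL ?_
      have h2 : qHom W (⟨y, hyW⟩ : normalizer (W : Set (Aut V)))⁻¹ (toQ W w) ∈ Lth W θ :=
        ⟨_, show (y⁻¹ * (w : Aut V) * y⁻¹⁻¹) ∈ ker W θ by rw [inv_inv]; exact hker, (qHom_apply W _ w).symm⟩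
      have h3 := (hyL _).2 h2
      rwa [← LinearEquiv.mul_apply, ← map_mul, mul_inv_cancel, map_one] at h3
    · exact h1.2 (AddSubgroup.mem_map.2 ⟨u, hu, rfl⟩)
  refine eq_zero_of_moved h.level.elem (h.Wp.coprime_dvd_left (card_dvd_of_le hDW)) (hmv hv) ?_
  have hle : D ≤ MulAction.stabilizer (Aut V) v := by
    rw [hD, Subgroup.closure_le]
    rintro _ ⟨x, hx, rfl⟩
    obtain ⟨c, hc, hca, x2, hx2, rfl⟩ := h.decompose hx
    refine MulAction.mem_stabilizer_iff.2 ?_
    show (c * x2 * (w : Aut V) * (c * x2)⁻¹) v = v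
    set v' := c⁻¹ v with hv'
    have hv'o : v' ∈ orbit a W Y θ := ((W_mem h hE) (inv_mem hc) v).2 hv
    have hv'a : a v' = v' := by
      rw [hv', ← aut_mul, (show Commute a c from hca).inv_right.eq, aut_mul, hva]
    have hwv : (w : Aut V) v' = v' := hwN.2.2.2 v' hv'a (orbit_fixed h hE hv'o) (orbit_moved h hE hv'o)
    have hcm : ⁅(w : Aut V), x2⁆ ∈ X1 a W := h.comm_fixed w.2 hwN.2.1 hx2
    have hwx : (x2 * (w : Aut V) * x2⁻¹) v' = v' := by
      have e : x2 * (w : Aut V) * x2⁻¹ = ⁅(w : Aut V), x2⁆⁻¹ * w := by rw [commutatorElement_def]; group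
      rw [e, aut_mul, hwv]
      exact orbit_fixed h hE hv'o _ (inv_mem hcm)
    calc (c * x2 * (w : Aut V) * (c * x2)⁻¹) v = c ((x2 * (w : Aut V) * x2⁻¹) v') := by
          rw [show c * x2 * (w : Aut V) * (c * x2)⁻¹ = c * (x2 * (w : Aut V) * x2⁻¹) * c⁻¹ by group, aut_mul, aut_mul]
      _ = v := by rw [hwx, hv', aut_inv_apply]
  exact fun g hg => MulAction.mem_stabilizer_iff.1 (hle hg)

/-- An element central on the translates commutes there with `a`. -/
theorem central_fixed {z : Aut V} (hz : z ∈ W) (hzc : ∀ v ∈ W, ∀ x ∈ orbit a W Y θ, ⁅z, v⁆ x = x) :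
    ∀ x ∈ orbit a W Y θ, ⁅a, z⁆ x = x := by
  set E := orbit a W Y θ
  have ha := a_mem h hE
  have hW := W_mem h hE
  have hmem : resE E ⟨z, hW hz⟩ ∈ img E W ⊓ centralizer (img E W : Set (Aut E)) := by
    refine ⟨mem_img.2 ⟨⟨z, hW hz⟩, hz, rfl⟩, mem_centralizer_iff.2 ?_⟩
    rintro _ hy
    obtain ⟨g, hg, rfl⟩ := mem_img.1 hy
    symm
    rw [← commutatorElement_eq_one_iff_mul_comm, ← map_commutatorElement]
    exact (resE_eq_one _).2 fun x hx => hzc _ hg x hx
  have h1 := comm_of_no_fixed (p := p) (r := r) (V := E) (fun x => Subtype.ext (by simpa using h.level.elem (x : V)))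
    h.level.hr (a := resE E ⟨a, ha⟩)
    (by rw [← map_pow, show (⟨a, ha⟩ : stab E) ^ r = 1 from Subtype.ext h.level.apow, map_one])
    (fun v hv => Subtype.ext (no_fixed h hE v.2 (congrArg Subtype.val hv)))
    (centre_norm (img_norm h.sec.a_W))
    ((h.Wr.coprime_dvd_left (card_img_dvd E W)).coprime_dvd_left (card_dvd_of_le inf_le_left))
    ((h.Wp.coprime_dvd_left (card_img_dvd E W)).coprime_dvd_left (card_dvd_of_le inf_le_left))
    (fun x hx y hy => mem_centralizer_iff.1 hy.2 x hx.1) hmem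
  rw [← commutatorElement_eq_one_iff_mul_comm, ← map_commutatorElement] at h1
  exact (resE_eq_one _).1 h1

/-- A Frattini element trivial on the constituent is trivial on the translates. -/
theorem phi_trivial {f : Aut V} (hf : f ∈ phi W) (hfθ : ∀ u ∈ θ, f u = u) :
    ∀ x ∈ orbit a W Y θ, f x = x := by
  have hfix := central_fixed h hE (phi_le W hf) fun v hv x _ => by
    rw [commutatorElement_eq_one_iff_mul_comm.2 (mem_centralizer_iff.1 (h.sec.phi_central hf) v hv).symm]; rfl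
  have hgen : ∀ x ∈ orbit a W Y θ, f (a x) = a (f x) := fun x hx => by
    have hax : a x ∈ orbit a W Y θ := ((a_mem h hE) x).2 hx
    have := hfix (f (a x)) (((W_mem h hE) (phi_le W hf) _).2 hax)
    rw [commutatorElement_def, aut_mul, aut_mul, aut_mul, aut_apply_inv, aut_apply_inv] at this
    exact this.symm
  let M : AddSubgroup V :=
    { carrier := {x | x ∈ orbit a W Y θ ∧ f x = x}
      zero_mem' := ⟨zero_mem _, map_zero f⟩
      add_mem' := fun {x y} hx hy => ⟨add_mem hx.1 hy.1, by rw [map_add, hx.2, hy.2]⟩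
      neg_mem' := fun {x} hx => ⟨neg_mem hx.1, by rw [map_neg, hx.2]⟩ }
  intro x hx
  refine (orbit_le h hE (M := M) (fun i y hy u hu => ?_) hx).2
  induction i with
  | zero =>
    rw [pow_zero, one_mul]
    refine ⟨((S0_mem h hE hy) u).2 (le_orbit h hE hu), ?_⟩
    rw [← aut_mul, ← h.sec.phiY f hf y hy.1, aut_mul, hfθ u hu]
  | succ i ih =>
    rw [pow_succ', mul_assoc, aut_mul]
    exact ⟨((a_mem h hE) _).2 ih.1, by rw [hgen _ ih.1, ih.2]⟩

/-- An element commuting with `W` on the constituent does so on the translates. -/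
theorem rad_orbit {z : Aut V} (hz : z ∈ W) (hzc : ∀ v ∈ W, ⁅z, v⁆ ∈ ker W θ) {v : Aut V} (hv : v ∈ W) :
    ∀ x ∈ orbit a W Y θ, ⁅z, v⁆ x = x :=
  haveI := Fact.mk h.sec.hq
  phi_trivial h hE (commutator_le_phi h.sec.pgroup (commutator_mem_commutator hz hv)) (mem_ker.1 (hzc v hv)).2

/-- `a` moves such an element into the kernel. -/
theorem rad_fixed {z : Aut V} (hz : z ∈ W) (hzc : ∀ v ∈ W, ⁅z, v⁆ ∈ ker W θ) : ⁅a, z⁆ ∈ ker W θ := by
  refine mem_ker.2 ⟨?_, fun u hu => central_fixed h hE hz (fun v hv => rad_orbit h hE hz hzc hv) u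
    (le_orbit h hE hu)⟩
  rw [commutatorElement_def]; exact mul_mem ((mem_normalizer_iff.1 h.sec.a_W z).1 hz) (inv_mem hz)

/-- `a` normalises the kernel. -/
theorem a_ker : a ∈ normalizer (ker W θ : Set (Aut V)) := norm_of_map fun z hz => by
  have hzc : ∀ v ∈ W, ⁅z, v⁆ ∈ ker W θ := fun v hv => by
    rw [show ⁅z, v⁆ = z * (v * z⁻¹ * v⁻¹) by rw [commutatorElement_def]; group]
    exact mul_mem hz ((mem_normalizer_iff.1 (hE.irr.ker_norm hv) _).1 (inv_mem hz))
  rw [show a * z * a⁻¹ = ⁅a, z⁆ * z by rw [commutatorElement_def]; group]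
  exact mul_mem (rad_fixed h hE hz.1 hzc) hz

/-- **The exceptional frame and its rigidity.** -/
theorem rigid : q = 2 ∧ ∃ k, r = 2 ^ k + 1 ∧
    Nat.card (Lab (img (orbit a W Y θ) (X2 a W))) = (2 ^ k) ^ 2 ∧
    ∀ y ∈ S0 a W Y θ, ∀ x ∈ X2 a W, ∀ v ∈ W, ⁅⁅y, x⁆, v⁆ ∈ ker W θ := by
  classical
  haveI := Fact.mk h.sec.hq
  set E := orbit a W Y θ with hEdef
  have ha := a_mem h hE
  have hW := W_mem h hE
  have hX2W := h.X2_le
  have hXs : X2 a W ≤ stab E := hX2W.trans hW
  set ā := resE E ⟨a, ha⟩ with hā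
  set X := img E (X2 a W) with hX
  have hpE : ∀ x : E, p • x = 0 := fun x => Subtype.ext (by simpa using h.level.elem (x : V))
  have hfix : ∀ v : E, ā v = v → v = 0 := fun v hv => Subtype.ext (no_fixed h hE v.2 (congrArg Subtype.val hv))
  have hXr : (Nat.card X).Coprime r := (h.Wr.coprime_dvd_left (card_dvd_of_le hX2W)).coprime_dvd_left (card_img_dvd E _)
  have hXp : (Nat.card X).Coprime p := (h.Wp.coprime_dvd_left (card_dvd_of_le hX2W)).coprime_dvd_left (card_img_dvd E _)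
  have har : ā ^ r = 1 := by rw [hā, ← map_pow, show (⟨a, ha⟩ : stab E) ^ r = 1 from Subtype.ext h.level.apow, map_one]
  have hnorm : ā ∈ normalizer (X : Set (Aut E)) := img_norm (normalizer_commutator_zpowers h.sec.a_W rfl)
  have hXgen : ⁅X, zpowers ā⁆ = X := img_commutator hXs (a := ⟨a, ha⟩) h.X2_gen
  have hcl2 : ∀ v ∈ X, ∀ w ∈ X, ⁅v, w⁆ ∈ centralizer (X : Set (Aut E)) := by
    intro v hv w hw
    obtain ⟨v, hv', rfl⟩ := mem_img.1 hv
    obtain ⟨w, hw', rfl⟩ := mem_img.1 hw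
    refine mem_centralizer_iff.2 ?_
    rintro _ hx
    obtain ⟨x, hx', rfl⟩ := mem_img.1 hx
    rw [← map_commutatorElement, ← map_mul, ← map_mul]
    exact congrArg _ (Subtype.ext (mem_centralizer_iff.1 (h.sec.class2 _ (hX2W hv') _ (hX2W hw')) _ (hX2W hx')))
  have hfixC : ∀ z ∈ X, z ∈ centralizer (X : Set (Aut E)) → ā * z = z * ā := fun z hz hzc =>
    comm_of_no_fixed hpE h.level.hr har hfix (centre_norm hnorm) (hXr.coprime_dvd_left (card_dvd_of_le inf_le_left))
      (hXp.coprime_dvd_left (card_dvd_of_le inf_le_left)) (fun x hx y hy => mem_centralizer_iff.1 hy.2 x hx.1)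
      ⟨hz, hzc⟩
  -- fixed elements come from the Frattini subgroup
  have hlift : ∀ z ∈ X, ā * z = z * ā → ∃ g : stab E, (g : Aut V) ∈ phi W ∧ a * (g : Aut V) = g * a ∧ resE E g = z := by
    intro z hz hza
    obtain ⟨g, hg, hga, hgz⟩ := lift_fixed hXs (a := ⟨a, ha⟩) h.level.apow
      (normalizer_commutator_zpowers h.sec.a_W rfl) (h.Wr.coprime_dvd_left (card_dvd_of_le hX2W)) hz hza
    refine ⟨g, commutator_le_phi h.sec.pgroup (commutator_mono hX2W hX2W (fixed_le_derived h.level.hr h.level.apow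
      (normalizer_commutator_zpowers h.sec.a_W rfl) (h.Wr.coprime_dvd_left (card_dvd_of_le hX2W)) h.X2_gen
      (mem_inf.2 ⟨hg, mem_centralizer_iff.2 fun x hx => by rw [Set.mem_singleton_iff.1 hx]; exact hga⟩))), hga, hgz⟩
  have hfixcentral : ∀ z ∈ X, ā * z = z * ā → z ∈ centralizer (X : Set (Aut E)) := by
    intro z hz hza
    obtain ⟨g, hg, -, rfl⟩ := hlift z hz hza
    refine mem_centralizer_iff.2 ?_
    rintro _ hy
    obtain ⟨y, hy', rfl⟩ := mem_img.1 hy
    rw [← map_mul, ← map_mul]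
    exact congrArg _ (Subtype.ext (mem_centralizer_iff.1 (h.sec.phi_central hg) _ (hX2W hy')))
  obtain ⟨u₀, hu₀, hu₀0⟩ : ∃ u ∈ θ, u ≠ 0 := by
    by_contra hne
    push Not at hne
    exact hE.irr.ne ((AddSubgroup.eq_bot_iff_forall _).2 hne)
  have hsemis : ∀ z ∈ X, z ∈ centralizer (X : Set (Aut E)) → z ≠ 1 → ∀ x, z x = x → x = 0 := by
    intro z hz hzc hz1 x hx
    obtain ⟨g, hg, hga, rfl⟩ := hlift z hz (hfixC z hz hzc)
    have hgn : ∀ i : ℕ, ∀ y ∈ S0 a W Y θ, (a ^ i * y) ∈ normalizer ((zpowers (g : Aut V) : Subgroup (Aut V)) : Set (Aut V)) := by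
      intro i y hy
      have hc : Commute (a ^ i * y) (g : Aut V) :=
        ((show Commute a (g : Aut V) from hga).pow_left i).mul_left (h.sec.phiY _ hg y hy.1)
      refine norm_of_map fun t ht => ?_
      obtain ⟨j, rfl⟩ := mem_zpowers_iff.1 ht
      rw [(hc.zpow_right j).eq, mul_inv_cancel_right]
      exact zpow_mem (mem_zpowers _) j
    have hgW : zpowers (g : Aut V) ≤ W := zpowers_le.2 (phi_le W hg)
    rcases hE.irr.dichotomy hgW (fun w hw => norm_of_map fun t ht => by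
      obtain ⟨j, rfl⟩ := mem_zpowers_iff.1 ht
      rw [((show Commute w (g : Aut V) from mem_centralizer_iff.1 (h.sec.phi_central hg) w hw).zpow_right j).eq,
        mul_inv_cancel_right]
      exact zpow_mem (mem_zpowers _) j) with h1 | h1
    · exact absurd ((resE_eq_one _).2 (phi_trivial h hE hg fun u hu => h1 hu _ (mem_zpowers _))) hz1
    · refine Subtype.ext (eq_zero_of_moved h.level.elem (h.Wp.coprime_dvd_left (card_dvd_of_le hgW))
        (orbit_le h hE (fun i y hy u hu => moved_inv (hgn i y hy) (h1.2 hu)) x.2) ?_)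
      have hle : zpowers (g : Aut V) ≤ MulAction.stabilizer (Aut V) (x : V) :=
        zpowers_le.2 (MulAction.mem_stabilizer_iff.2 (congrArg Subtype.val hx))
      exact fun t ht => MulAction.mem_stabilizer_iff.1 (hle ht)
  have hnt : Nontrivial E := ⟨⟨⟨u₀, le_orbit h hE hu₀⟩, 0, fun e => hu₀0 (congrArg Subtype.val e)⟩⟩
  have hnonab : ¬ X ≤ centralizer (X : Set (Aut E)) := by
    intro hab
    have hfpf : ∀ x ∈ X, ā * x = x * ā → x = 1 := by
      intro x hx hxa
      have h1 := fixed_le_derived h.level.hr har hnorm hXr hXgen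
        (mem_inf.2 ⟨hx, mem_centralizer_iff.2 fun g hg => by rw [Set.mem_singleton_iff.1 hg]; exact hxa⟩)
      have h2 : ⁅X, X⁆ = ⊥ := Subgroup.commutator_eq_bot_iff_le_centralizer.2 hab
      rwa [h2, mem_bot] at h1
    have hbot := generate hpE har h.level.hr (fun x hx y hy => mem_centralizer_iff.1 (hab hy) x hx) hnorm hXp hfpf
      (M := ⊥) (fun g _ w hw => by rw [AddSubgroup.mem_bot] at *; rw [hw, map_zero])
      (fun v hv _ => AddSubgroup.mem_bot.2 (hfix v hv))
    exact hu₀0 (congrArg Subtype.val (AddSubgroup.mem_bot.1 (hbot (mem_moved_img (v := ⟨u₀, le_orbit h hE hu₀⟩)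
      h.level.elem hXs (h.Wp.coprime_dvd_left (card_dvd_of_le hX2W)) (hE.moved2 hu₀)))))
  have hF : Frame p q r ā X :=
    { hp := h.level.hp, hq := h.sec.hq, hr := h.level.hr, elem := hpE, qp := h.qp, rp := h.level.rp, rq := h.rq
      nt := hnt, apow := har, norm := hnorm, class2 := hcl2, nonab := hnonab, fixC := hfixC, semis := hsemis
      pgroup := ((h.sec.pgroup.to_le hX2W).comap_of_injective _ (stab E).subtype_injective).map (resE E)
      cyclic := by
        obtain ⟨z, hz, hgen⟩ := cyclic_of_semireg (p := p) hpE (X := X ⊓ centralizer (X : Set (Aut E)))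
          (hXp.coprime_dvd_left (card_dvd_of_le inf_le_left))
          (fun x hx y hy => mem_centralizer_iff.1 hy.2 x hx.1) (fun x hx hx1 => hsemis x hx.1 hx.2 hx1)
        exact ⟨z, hz.1, hz.2, fun x hx hxc => hgen x ⟨hx, hxc⟩⟩
      fpf := fun w hw hc => by
        set f := ⁅ā, w⁆ with hf
        have hfX : f ∈ X := by
          rw [hf, commutatorElement_def]; exact mul_mem ((mem_normalizer_iff.1 hnorm w).1 hw) (inv_mem hw)
        have hfa : Commute ā f := hfixC f hfX hc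
        have hiter : ∀ j : ℕ, ā ^ j * w * (ā ^ j)⁻¹ = f ^ j * w := by
          intro j
          induction j with
          | zero => simp
          | succ j ih =>
            have e1 : ā ^ (j + 1) * w * (ā ^ (j + 1))⁻¹ = ā * (ā ^ j * w * (ā ^ j)⁻¹) * ā⁻¹ := by rw [pow_succ']; group
            rw [e1, ih, show ā * (f ^ j * w) * ā⁻¹ = (ā * f ^ j * ā⁻¹) * (f * w) by
              rw [hf, commutatorElement_def]; group, (hfa.pow_right j).eq, mul_inv_cancel_right, ← mul_assoc,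
              ← pow_succ]
        have h1 := hiter r
        rw [har, inv_one, one_mul, mul_one, right_eq_mul] at h1
        have hf1 : f = 1 := orderOf_eq_one_iff.1 (Nat.eq_one_of_dvd_coprimes hXr
          (Subgroup.orderOf_dvd_natCard X hfX) (orderOf_dvd_of_pow_eq_one h1))
        rw [hf, commutatorElement_eq_one_iff_mul_comm] at hf1
        exact hfixcentral w hw hf1 }
  obtain ⟨Q, hQ, hQr, hrig⟩ := hF.exceptional hfix
  -- the prime is two
  haveI := hF.lab_nontrivial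
  have hlab : ∃ e, Nat.card (Lab X) = q ^ e := by
    obtain ⟨e, he⟩ := IsPGroup.iff_card.1 hF.pgroup
    have hd : Nat.card (Lab X) ∣ q ^ e := by
      rw [← he, show Nat.card (Lab X) = Nat.card (Abelianization (↥X ⧸ Subgroup.center ↥X)) from
        Nat.card_congr Additive.toMul]
      exact (Subgroup.card_quotient_dvd_card _).trans (Subgroup.card_quotient_dvd_card _)
    obtain ⟨i, -, hi⟩ := (Nat.dvd_prime_pow h.sec.hq).1 hd
    exact ⟨i, hi⟩
  obtain ⟨e, he⟩ := hlab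
  obtain ⟨k, -, hk⟩ := (Nat.dvd_prime_pow h.sec.hq).1 (he ▸ hQ ▸ dvd_pow_self Q two_ne_zero : Q ∣ q ^ e)
  have hk0 : k ≠ 0 := by
    rintro rfl
    have h1 : 1 < Nat.card (Lab X) := Finite.one_lt_card
    rw [hQ, hk] at h1
    simp at h1
  have hq2 : q = 2 := by
    by_contra hne
    have hodd : Odd (q ^ k) := (h.sec.hq.odd_of_ne_two hne).pow
    have h2 : 2 ∣ r := by
      obtain ⟨t, ht⟩ := hodd
      exact ⟨t + 1, by omega⟩
    have hr2 := ((Nat.prime_dvd_prime_iff_eq Nat.prime_two h.level.hr).1 h2)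
    have : q ≤ q ^ k := Nat.le_self_pow hk0 q
    have := h.sec.hq.two_le
    omega
  subst hq2
  refine ⟨rfl, k, by omega, by rw [hQ, hk], fun y hy x hx v hv => ?_⟩
  have hys := S0_mem h hE hy
  set yb := resE E ⟨y, hys⟩
  have hyX : y ∈ normalizer (X2 a W : Set (Aut V)) := normalizer_commutator_zpowers (S0_norm h hE hy) hy.2.1
  have hgood : Good ā X yb := by
    refine ⟨?_, img_norm hyX, fun z hz hzc => ?_⟩
    · rw [hā, ← map_mul, ← map_mul]; exact congrArg _ (Subtype.ext hy.2.1)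
    · obtain ⟨g, hg, -, rfl⟩ := hlift z hz (hfixC z hz hzc)
      rw [← map_mul, ← map_mul]; exact congrArg _ (Subtype.ext (h.sec.phiY _ hg y hy.1))
  have hord : (orderOf yb).Coprime r :=
    (h.Yr.coprime_dvd_left (Subgroup.orderOf_dvd_natCard Y hy.1)).coprime_dvd_left
      ((orderOf_map_dvd (resE E) _).trans (by rw [orderOf_mk]))
  have hcen := hrig yb hgood hord (resE E ⟨x, hXs hx⟩) (mem_img.2 ⟨_, hx, rfl⟩)
  have hyx : ⁅y, x⁆ ∈ X2 a W := by
    rw [commutatorElement_def]; exact mul_mem ((mem_normalizer_iff.1 hyX x).1 hx) (inv_mem hx)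
  obtain ⟨c, hc, hca, x2, hx2, rfl⟩ := h.decompose hv
  have hd := hX2W hyx
  have h1 : ⁅⁅y, x⁆, c * x2⁆ = ⁅⁅y, x⁆, c⁆ * ⁅⁅y, x⁆, x2⁆ := by
    rw [show ⁅⁅y, x⁆, c * x2⁆ = ⁅⁅y, x⁆, c⁆ * (c * ⁅⁅y, x⁆, x2⁆ * c⁻¹) by simp only [commutatorElement_def]; group,
      mem_centralizer_iff.1 (h.sec.class2 _ hd _ (hX2W hx2)) c hc, mul_inv_cancel_right]
  have hm : ⁅⁅y, x⁆, c * x2⁆ ∈ W := by
    rw [commutatorElement_def]; exact mul_mem (mul_mem (mul_mem hd hv) (inv_mem hd)) (inv_mem hv)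
  refine mem_ker.2 ⟨hm, fun u hu => ?_⟩
  rw [h1, aut_mul]
  have h2 : ⁅⁅y, x⁆, x2⁆ u = u := by
    rw [← map_commutatorElement] at hcen
    have h3 := (commutatorElement_eq_one_iff_mul_comm.2 (mem_centralizer_iff.1 hcen (resE E ⟨x2, hXs hx2⟩)
      (mem_img.2 ⟨_, hx2, rfl⟩)).symm)
    rw [← map_commutatorElement] at h3
    exact (resE_eq_one _).1 h3 u (le_orbit h hE hu)
  rw [h2]
  have h4 : ⁅⁅y, x⁆, c⁆ = ⁅c, ⁅y, x⁆⁆⁻¹ := (commutatorElement_inv _ _).symm
  rw [h4]
  exact hE.fix1 hu _ (inv_mem (h.comm_fixed hc hca hyx))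

end Exc

end Step

end Cfsg.Agent.TwoLoss
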