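import Cfsg.Agent.Lib.TwoLoss.BadAction
import Cfsg.Agent.Lib.ShultFlavell.Frob

/-!
# An odd group of isometries moved by an element of order `2ᵏ + 1`

On an elementary abelian two-group with a nondegenerate relation of orthogonality (every orthogonal space
of index at most two) such a group is trivial when the moved part of the element has at most `2^(2k)` points
and what commutes with the element is trivial there.
-/

set_option autoImplicit false
set_option linter.unusedSectionVars false
set_option linter.style.haveILetI false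

namespace Cfsg.Agent.TwoLoss

open Subgroup
open scoped commutatorElement

universe u

variable {P : Type u} [AddCommGroup P] [Finite P]

/-- The isometries of a relation. -/
def isoGroup (orth : P → P → Prop) : Subgroup (Aut P) where
  carrier := {g | ∀ u v, orth (g u) (g v) ↔ orth u v}
  one_mem' := fun _ _ => Iff.rfl
  mul_mem' := fun {g g'} hg hg' u v => by rw [aut_mul, aut_mul, hg, hg']
  inv_mem' := fun {g} hg u v => by rw [← hg, aut_inv_apply, aut_inv_apply]

theorem odd_rigid {P : Type u} [AddCommGroup P] [Finite P] (h2 : ∀ x : P, 2 • x = 0) {r k : ℕ} (hr : r.Prime)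
    (hrk : r = 2 ^ k + 1) {a : Aut P} (har : a ^ r = 1) {S : Subgroup (Aut P)}
    (haS : a ∈ normalizer (S : Set (Aut P))) [Group.IsNilpotent S] (hodd : (Nat.card S).Coprime 2)
    (hSr : (Nat.card S).Coprime r) (hgen : ⁅S, zpowers a⁆ = S)
    (orth : P → P → Prop) (hself : ∀ u, orth u u) (hsymm : ∀ u v, orth u v → orth v u) (hzero : ∀ u, orth u 0)
    (hadd : ∀ u v w, orth u v → orth u w → orth u (v + w))
    (hidx : ∀ u v w, ¬ orth u v → ¬ orth u w → orth u (v + w)) (hnd : ∀ u, (∀ v, orth u v) → u = 0)
    (ha : ∀ u v, orth (a u) (a v) ↔ orth u v) (hS : ∀ s ∈ S, ∀ u v, orth (s u) (s v) ↔ orth u v)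
    (hrig : ∀ s ∈ S, a * s = s * a → ∀ u ∈ moved (zpowers a), s u = u)
    (hcard : Nat.card (moved (zpowers a)) ≤ (2 ^ k) ^ 2) : S = ⊥ := by
  classical
  have hchar : ∀ x : P, x + x = 0 := fun x => by rw [← two_nsmul]; exact h2 x
  have hneg : ∀ x : P, -x = x := fun x => neg_eq_of_add_eq_zero_left (hchar x)
  by_contra hSbot
  have ha1 : a ≠ 1 := fun e => hSbot (by
    rw [← hgen, e, zpowers_one_eq_bot, commutator_bot_right])
  -- the exponent is positive and `r` is odd
  rcases Nat.eq_zero_or_pos k with rfl | hk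
  · refine ha1 (LinearEquiv.ext fun u => ?_)
    haveI := Fintype.ofFinite (zpowers a)
    haveI : Subsingleton (moved (zpowers a)) := Finite.card_le_one_iff_subsingleton.1 (by simpa using hcard)
    have := congrArg Subtype.val (Subsingleton.elim
      (⟨a u - u, sub_mem_moved u (mem_zpowers a)⟩ : moved (zpowers a)) 0)
    exact sub_eq_zero.1 this
  have hr2 : ¬ 2 ∣ r := by
    obtain ⟨j, rfl⟩ := Nat.exists_eq_add_of_le hk
    rw [hrk, pow_add, pow_one]
    omega
  have hX : (Nat.card (zpowers a)).Coprime 2 := by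
    rw [Nat.card_zpowers]
    exact ((Nat.prime_two.coprime_iff_not_dvd.2 hr2).symm).coprime_dvd_left (orderOf_dvd_of_pow_eq_one har)
  have hafix : ∀ {m : P}, a m = m → ∀ g ∈ zpowers a, g m = m := by
    intro m hm g hg
    obtain ⟨n, rfl⟩ := (isOfFinOrder_of_finite a).mem_powers_iff_mem_zpowers.2 hg
    exact fixed_pow hm n
  -- a central element commuting with `a` is trivial
  have hfpf : ∀ z ∈ S ⊓ centralizer (S : Set (Aut P)), a * z = z * a → z = 1 := by
    rintro z ⟨hzS, hzc⟩ hza
    have hz : ∀ (s : Aut P), s ∈ S → ∀ u, s (z u) = z (s u) := fun s hs u => by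
      rw [← aut_mul, ← aut_mul, mem_centralizer_iff.1 hzc s hs]
    have hzm : ∀ u, ∃ c, a c = c ∧ z u - u = z c - c := by
      intro u
      obtain ⟨c, m, rfl, hc, hm, -⟩ := split h2 hX u
      refine ⟨c, hc a (mem_zpowers a), ?_⟩
      rw [map_add, hrig z hzS hza m hm]
      abel
    have hMfix : ∀ u, a (z u - u) = z u - u := by
      intro u
      obtain ⟨c, hc, e⟩ := hzm u
      rw [e, map_sub, hc, ← aut_mul, hza, aut_mul, hc]
    let St : Subgroup (Aut P) :=
      { carrier := {g | ∀ u, g (z u - u) = z u - u}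
        one_mem' := fun _ => rfl
        mul_mem' := fun {g g'} hg hg' u => by rw [aut_mul, hg' u, hg u]
        inv_mem' := fun {g} hg u => by
          conv_lhs => rw [← hg u]
          exact aut_apply_inv g _ }
    have hSSt : S ≤ St := by
      conv_lhs => rw [← hgen]
      rw [Subgroup.commutator_le]
      intro s hs g hg u
      rw [commutatorElement_def, aut_mul, aut_mul, aut_mul, hafix (hMfix u) _ (inv_mem hg)]
      have e : s⁻¹ (z u - u) = z (s⁻¹ u) - s⁻¹ u := by rw [map_sub, hz _ (inv_mem hs)]
      rw [e, hafix (hMfix _) g hg, map_sub, hz s hs, aut_inv_apply]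
    have hz2 : z ^ 2 = 1 := LinearEquiv.ext fun u => by
      rw [pow_two, aut_mul]
      have h := hSSt hzS u
      rw [map_sub] at h
      show z (z u) = u
      calc z (z u) = (z (z u) - z u) + z u := by abel
        _ = (z u - u) + z u := by rw [h]
        _ = (z u + z u) + -u := by abel
        _ = u := by rw [hchar, zero_add, hneg]
    exact orderOf_eq_one_iff.1 (Nat.eq_one_of_dvd_coprimes hodd (Subgroup.orderOf_dvd_natCard S hzS)
      (orderOf_dvd_of_pow_eq_one hz2))
  set X := S ⊓ centralizer (S : Set (Aut P)) with hXdef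
  have hXne : X ≠ ⊥ := by
    haveI : Nontrivial S := (Subgroup.nontrivial_iff_ne_bot S).2 hSbot
    intro h
    refine Group.IsNilpotent.center_ne_bot (G := S) (eq_bot_iff.2 fun s hs => mem_bot.2 (Subtype.ext ?_))
    have : (s : Aut P) ∈ X := ⟨s.2, mem_centralizer_iff.2 fun g hg =>
      congrArg Subtype.val (mem_center_iff.1 hs ⟨g, hg⟩)⟩
    rw [h, mem_bot] at this
    exact this
  have hXcomm : ∀ x ∈ X, ∀ y ∈ X, x * y = y * x := fun x hx y hy => mem_centralizer_iff.1 hy.2 x hx.1
  have hXodd : (Nat.card X).Coprime 2 := hodd.coprime_dvd_left (card_dvd_of_le inf_le_left)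
  have haX : a ∈ normalizer (X : Set (Aut P)) := normalizer_of_map fun x hx => by
    refine ⟨(mem_normalizer_iff.1 haS x).1 hx.1, mem_centralizer_iff.2 fun g hg => ?_⟩
    have h := mem_centralizer_iff.1 hx.2 _ ((mem_normalizer_iff''.1 haS g).1 hg)
    calc g * (a * x * a⁻¹) = a * ((a⁻¹ * g * a) * x) * a⁻¹ := by group
      _ = a * x * a⁻¹ * g := by rw [h]; group
  -- the moved part of the centre as a module
  letI : Module (ZMod 2) P := AddCommGroup.zmodModule h2
  let W : Submodule (ZMod 2) P := AddSubgroup.toZModSubmodule 2 (moved X)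
  let res : (g : Aut P) → g ∈ normalizer (X : Set (Aut P)) → Module.End (ZMod 2) W := fun g hg =>
    (AddMonoidHom.mk' (fun u : W => (⟨g u, moved_inv hg u.2⟩ : W))
      (fun u v => Subtype.ext (map_add g (u : P) v))).toZModLinearMap 2
  have hres : ∀ g hg (u : W), (res g hg u : P) = g u := fun _ _ _ => rfl
  have hXn : ∀ x ∈ X, x ∈ normalizer (X : Set (Aut P)) := fun x hx => le_normalizer hx
  let gX : X →* Module.End (ZMod 2) W :=
    { toFun := fun x => res x (hXn x x.2)
      map_one' := LinearMap.ext fun u => Subtype.ext rfl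
      map_mul' := fun x y => LinearMap.ext fun u => Subtype.ext rfl }
  let A : Module.End (ZMod 2) W := res a haX
  haveI : IsMulCommutative X := ⟨⟨fun x y => Subtype.ext (hXcomm x x.2 y y.2)⟩⟩
  letI : CommGroup X := { (inferInstance : Group X) with mul_comm := fun x y => Subtype.ext (hXcomm x x.2 y y.2) }
  let α : X ≃* X :=
    { toFun := fun x => ⟨a * x * a⁻¹, (mem_normalizer_iff.1 haX x).1 x.2⟩
      invFun := fun x => ⟨a⁻¹ * x * a, (mem_normalizer_iff''.1 haX x).1 x.2⟩
      left_inv := fun x => Subtype.ext (by group)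
      right_inv := fun x => Subtype.ext (by group)
      map_mul' := fun x y => Subtype.ext (by
        show a * ((x : Aut P) * y) * a⁻¹ = a * x * a⁻¹ * (a * y * a⁻¹)
        group) }
  have hα : ∀ x, A * gX x = gX (α x) * A := fun x => LinearMap.ext fun u => Subtype.ext (by
    show a ((x : Aut P) u) = (a * (x : Aut P) * a⁻¹) (a u)
    rw [aut_mul, aut_mul, aut_apply_inv])
  have hA : ∀ n (u : W), ((A ^ n) u : P) = (a ^ n) u := by
    intro n
    induction n with
    | zero => intro u; rfl
    | succ n ih =>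
      intro u
      rw [pow_succ, pow_succ, Module.End.mul_apply, ih, aut_mul]
      rfl
  have hαr : ∀ x, (⇑α)^[r] x = x := by
    have h : ∀ n x, (((⇑α)^[n] x : X) : Aut P) = a ^ n * x * (a ^ n)⁻¹ := by
      intro n
      induction n with
      | zero => intro x; simp
      | succ n ih =>
        intro x
        rw [Function.iterate_succ_apply', show ((α ((⇑α)^[n] x) : X) : Aut P) = a * ((⇑α)^[n] x : X) * a⁻¹ from rfl,
          ih, pow_succ']
        group
    intro x
    exact Subtype.ext (by rw [h, har, one_mul, inv_one, mul_one])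
  have hcast : ∀ n : ℕ, ¬ 2 ∣ n → (n : ZMod 2) ≠ 0 := fun n hn e =>
    hn ((ZMod.natCast_eq_zero_iff n 2).1 e)
  obtain ⟨hb1, hb2⟩ := Lib.ShultFlavell.frob_module (F := ZMod 2) gX A α hα hr (hcast r hr2)
    (hcast _ (Nat.prime_two.coprime_iff_not_dvd.1 hXodd.symm))
    (LinearMap.ext fun u => Subtype.ext (by rw [hA, har]; rfl))
    (fun x hx => Subtype.ext (hfpf x x.2 (by
      have e : a * (x : Aut P) * a⁻¹ = x := congrArg Subtype.val hx
      exact mul_inv_eq_iff_eq_mul.1 e)))
    hαr
    (fun u hu => Subtype.ext (eq_zero_of_moved h2 hXodd u.2 fun g hg => congrArg Subtype.val (hu ⟨g, hg⟩)))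
  set Cw := LinearMap.ker (A - 1) with hCw
  have hmemC : ∀ u : W, u ∈ Cw ↔ a u = u := fun u => by
    rw [hCw, LinearMap.mem_ker, LinearMap.sub_apply, Module.End.one_apply, sub_eq_zero, Subtype.ext_iff]
    rfl
  -- the moved part of `a` bounds the complement of the fixed points
  have hrange : Module.finrank (ZMod 2) (LinearMap.range (A - 1)) ≤ 2 * k := by
    haveI := Fintype.ofFinite (zpowers a)
    have hmem : ∀ u : LinearMap.range (A - 1), ((u : W) : P) ∈ moved (zpowers a) := by
      rintro ⟨_, v, rfl⟩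
      show a (v : P) - (v : P) ∈ moved (zpowers a)
      exact sub_mem_moved _ (mem_zpowers a)
    have h1 := Nat.card_le_card_of_injective (fun u => (⟨_, hmem u⟩ : moved (zpowers a)))
      fun u v e => Subtype.ext (Subtype.ext (congrArg (fun z : moved (zpowers a) => (z : P)) e))
    rw [Module.natCard_eq_pow_finrank (K := ZMod 2), Nat.card_zmod] at h1
    have h2' := h1.trans hcard
    rwa [← pow_mul, Nat.pow_le_pow_iff_right (by norm_num), mul_comm] at h2'
  have hdim := (A - 1).finrank_range_add_finrank_ker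
  rcases Nat.lt_or_ge (Module.finrank (ZMod 2) Cw) 2 with hf | hf
  swap
  · have h3 : r * Module.finrank (ZMod 2) Cw ≤ 2 * k + Module.finrank (ZMod 2) Cw := by
      exact (hb1.trans_eq hdim.symm).trans (Nat.add_le_add_right hrange _)
    have := Nat.lt_two_pow_self (n := k)
    rw [hrk] at h3
    nlinarith
  rcases Nat.lt_or_ge (Module.finrank (ZMod 2) Cw) 1 with hf0 | hf1
  · -- no fixed point
    haveI := hb2 (Submodule.finrank_eq_zero.1 (by omega))
    refine hXne (eq_bot_iff.2 fun x hx => mem_bot.2 (LinearEquiv.ext fun y => ?_))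
    haveI := Fintype.ofFinite X
    have := congrArg Subtype.val (Subsingleton.elim (⟨x y - y, sub_mem_moved y hx⟩ : W) 0)
    exact sub_eq_zero.1 this
  -- a single fixed point is orthogonal to everything
  have hcardC : Nat.card Cw = 2 := by
    rw [Module.natCard_eq_pow_finrank (K := ZMod 2), Nat.card_zmod, show Module.finrank (ZMod 2) Cw = 1 by omega, pow_one]
  obtain ⟨c, hc0⟩ : ∃ c : Cw, c ≠ 0 := by
    by_contra hne
    push Not at hne
    haveI : Subsingleton Cw := ⟨fun x y => (hne x).trans (hne y).symm⟩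
    rw [Nat.card_unique] at hcardC
    norm_num at hcardC
  set c0 : P := ((c : W) : P) with hc0d
  have hc0ne : c0 ≠ 0 := fun e => hc0 (Subtype.ext (Subtype.ext e))
  have hC : ∀ u ∈ moved X, a u = u → u = 0 ∨ u = c0 := by
    intro u hu hau
    by_contra hne
    push Not at hne
    have h3 : ({0, c, ⟨⟨u, hu⟩, (hmemC _).2 hau⟩} : Finset Cw).card = 3 := by
      refine Finset.card_eq_three.2 ⟨_, _, _, hc0.symm, fun e => hne.1 ?_, fun e => hne.2 ?_, rfl⟩
      · exact (congrArg (fun z : Cw => ((z : W) : P)) e).symm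
      · exact (congrArg (fun z : Cw => ((z : W) : P)) e).symm
    haveI := Fintype.ofFinite Cw
    have := Finset.card_le_univ ({0, c, ⟨⟨u, hu⟩, (hmemC _).2 hau⟩} : Finset Cw)
    rw [h3, ← Nat.card_eq_fintype_card, hcardC] at this
    omega
  -- the orthogonal of a point fixed by a group of isometries contains its moved part
  have horth : ∀ (Y : Subgroup (Aut P)) (e : P), Y ≤ isoGroup orth → (Nat.card Y).Coprime 2 →
      (∀ g ∈ Y, g e = e) → ∀ m ∈ moved Y, orth e m := by
    intro Y e hY hYodd he m hm
    let O : AddSubgroup P :=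
      { carrier := {w | orth e w}
        zero_mem' := hzero e
        add_mem' := fun {x y} hx hy => hadd e x y hx hy
        neg_mem' := fun {x} hx => by
          show orth e (-x)
          rw [hneg]
          exact hx }
    refine ((moved_le_closure h2 hYodd).trans ((AddSubgroup.closure_le O).2 ?_)) hm
    rintro _ ⟨x, hx, y, rfl⟩
    have hxy : orth e (x y) ↔ orth e y := by
      conv_lhs => rw [← he x hx]
      exact hY hx e y
    show orth e (x y - y)
    rw [sub_eq_add_neg, hneg]
    by_cases hy : orth e y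
    · exact hadd e _ _ (hxy.2 hy) hy
    · exact hidx e _ _ (fun h => hy (hxy.1 h)) hy
  refine hc0ne (hnd c0 fun v => ?_)
  obtain ⟨c1, m1, rfl, hc1, hm1, -⟩ := split h2 hX v
  obtain ⟨c2, m2, rfl, hc2, hm2, hfix⟩ := split h2 hXodd c1
  obtain ⟨-, ham⟩ := hfix a haX (hc1 a (mem_zpowers a))
  refine hadd _ _ _ (hadd _ _ _ (hsymm _ _ ?_) ?_) ?_
  · exact horth X c2 (fun s hs => hS s hs.1) hXodd hc2 c0 (c : W).2
  · rcases hC m2 hm2 ham with e | e <;> rw [e]
    · exact hzero _
    · exact hself _
  · exact horth (zpowers a) c0 (zpowers_le.2 ha) hX (hafix ((hmemC _).1 c.2)) m1 hm1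

end Cfsg.Agent.TwoLoss
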