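import Cfsg.Agent.Lib.TwoLoss.Exceptional
import Cfsg.Agent.Lib.TwoLoss.Odd

/-!
# The classes of the bad elements are covered
-/

set_option autoImplicit false
set_option linter.unusedSectionVars false
set_option linter.style.haveILetI false

namespace Cfsg.Agent.TwoLoss

open Subgroup
open scoped commutatorElement

universe u

section Generic

variable {A : Type u} [AddCommGroup A] [Finite A]

/-- A fixed element of the image of a subgroup lifts to a fixed element. -/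
theorem hom_lift_fixed {M M' : Type*} [Group M] [Finite M] [Group M'] (f : M →* M') {X : Subgroup M} {a : M} {r : ℕ}
    (har : a ^ r = 1) (haX : a ∈ normalizer (X : Set M)) (hcop : (Nat.card X).Coprime r) {x : M'} (hx : x ∈ X.map f)
    (hc : f a * x = x * f a) : ∃ g ∈ X, a * g = g * a ∧ f g = x := by
  have h := Coprime.map_inf_centralizer f (A := zpowers a) (K := X) (zpowers_le.2 haX)
    (by rw [Nat.card_zpowers]; exact hcop.symm.coprime_dvd_left (orderOf_dvd_of_pow_eq_one har))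
    (Or.inl (Coprime.isSolvable_of_isMulCommutative _))
  have hmem : x ∈ X.map f ⊓ centralizer (((zpowers a).map f : Subgroup M') : Set M') := by
    refine ⟨hx, mem_centralizer_iff.2 ?_⟩
    rintro _ ⟨b, hb, rfl⟩
    obtain ⟨n, rfl⟩ := mem_zpowers_iff.1 hb
    rw [map_zpow]
    exact ((show Commute (f a) x from hc).zpow_left n).eq
  rw [← h] at hmem
  obtain ⟨g, hg, rfl⟩ := hmem
  exact ⟨g, hg.1, mem_centralizer_iff.1 hg.2 a (mem_zpowers a), rfl⟩

/-- The action on the quotient by an invariant subgroup. -/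
noncomputable def quotE (R : AddSubgroup A) : stab R →* Aut (A ⧸ R) where
  toFun g := AddEquiv.toIntLinearEquiv (QuotientAddGroup.congr R R (g : Aut A).toAddEquiv (by
    ext x
    constructor
    · rintro ⟨u, hu, rfl⟩; exact (g.2 u).2 hu
    · intro hx
      exact ⟨(g : Aut A)⁻¹ x, ((g⁻¹).2 x).2 hx, aut_inv_apply _ _⟩))
  map_one' := LinearEquiv.ext fun x => by
    induction x using QuotientAddGroup.induction_on with
    | H x => rfl
  map_mul' g g' := LinearEquiv.ext fun x => by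
    induction x using QuotientAddGroup.induction_on with
    | H x => rfl

theorem quotE_mk (R : AddSubgroup A) (g : stab R) (x : A) :
    quotE R g (QuotientAddGroup.mk x) = QuotientAddGroup.mk ((g : Aut A) x) := rfl

/-- The image of `α - 1`. -/
noncomputable def movedA (α : Aut A) : AddSubgroup A := (α.toLinearMap.toAddMonoidHom - AddMonoidHom.id A).range

theorem mem_movedA {α : Aut A} {x : A} : x ∈ movedA α ↔ ∃ u, α u - u = x := Iff.rfl

/-- An automorphism trivial modulo a subgroup of fixed classes is trivial modulo the smaller one. -/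
theorem trivial_mod {q : ℕ} (hq : ∀ x : A, q • x = 0) {L R : AddSubgroup A} {x : Aut A}
    (hcop : (orderOf x).Coprime q) (hR : ∀ v, x v - v ∈ R) (hL : ∀ z ∈ R, x z - z ∈ L) (v : A) : x v - v ∈ L := by
  have key : ∀ i : ℕ, (x ^ i) v - v - i • (x v - v) ∈ L := by
    intro i
    induction i with
    | zero => simp
    | succ i ih =>
      have hz : (x ^ i) v - v ∈ R := by
        clear ih
        induction i with
        | zero => simp
        | succ j ihj =>
          have := add_mem (hR ((x ^ j) v)) ihj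
          rw [pow_succ', aut_mul]
          simpa using this
      have h1 := hL _ hz
      have h2 := add_mem h1 ih
      have e : (x ^ (i + 1)) v - v - (i + 1) • (x v - v) =
          x ((x ^ i) v - v) - ((x ^ i) v - v) + ((x ^ i) v - v - i • (x v - v)) := by
        rw [pow_succ', aut_mul, succ_nsmul, map_sub]; abel
      rw [e]; exact h2
  have h := key (orderOf x)
  rw [pow_orderOf_eq_one, LinearEquiv.coe_one, id_eq, sub_self, zero_sub] at h
  exact torsion_mem hq hcop (by simpa using neg_mem h)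

end Generic

variable {V : Type u} [AddCommGroup V] [Finite V]

namespace Step

variable {p q r n : ℕ} {a : Aut V} {G W Y N : Subgroup (Aut V)} {θ : AddSubgroup V}

/-- The elements whose commutators with `W` lie in the kernel. -/
def radG (W : Subgroup (Aut V)) (θ : AddSubgroup V) (hcl : ∀ v ∈ W, ∀ w ∈ W, ⁅v, w⁆ ∈ centralizer (W : Set (Aut V))) :
    Subgroup (Aut V) where
  carrier := {z | z ∈ W ∧ ∀ v ∈ W, ⁅z, v⁆ ∈ ker W θ}
  one_mem' := ⟨one_mem W, fun v _ => by rw [commutatorElement_one_left]; exact one_mem _⟩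
  mul_mem' := fun {x y} hx hy => ⟨mul_mem hx.1 hy.1, fun v hv => by
    rw [show ⁅x * y, v⁆ = (x * ⁅y, v⁆ * x⁻¹) * ⁅x, v⁆ by simp only [commutatorElement_def]; group,
      mem_centralizer_iff.1 (hcl y hy.1 v hv) x hx.1, mul_inv_cancel_right]
    exact mul_mem (hy.2 v hv) (hx.2 v hv)⟩
  inv_mem' := fun {x} hx => ⟨inv_mem hx.1, fun v hv => by
    have hc : ⁅x, v⁆ * x = x * ⁅x, v⁆ := (mem_centralizer_iff.1 (hcl x hx.1 v hv) x hx.1).symm
    have e : ⁅x⁻¹, v⁆ = ⁅x, v⁆⁻¹ := by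
      have e1 : ⁅x⁻¹, v⁆ = x⁻¹ * ⁅x, v⁆⁻¹ * x := by simp only [commutatorElement_def]; group
      rw [e1, mul_assoc, ((show Commute ⁅x, v⁆ x from hc).inv_left).eq, inv_mul_cancel_left]
    rw [e]; exact inv_mem (hx.2 v hv)⟩

theorem mem_radG {hcl : ∀ v ∈ W, ∀ w ∈ W, ⁅v, w⁆ ∈ centralizer (W : Set (Aut V))} {z : Aut V} :
    z ∈ radG W θ hcl ↔ z ∈ W ∧ ∀ v ∈ W, ⁅z, v⁆ ∈ ker W θ := Iff.rfl

/-- Classes of a kernel go to classes of the translated kernel. -/
theorem Lth_map {θ' : AddSubgroup V} (hθ' : ∀ w ∈ W, ∀ u ∈ θ', w u ∈ θ') {g : normalizer (W : Set (Aut V))}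
    (hg : ∀ u ∈ θ', (g : Aut V)⁻¹ u ∈ θ) {x : Vq W} (hx : x ∈ Lth W θ) : qHom W g x ∈ Lth W θ' :=
  classes_map (X := ker W θ) (X' := ker W θ') (fun z hz => mem_ker.2 ⟨(mem_normalizer_iff.1 g.2 z).1 hz.1, fun u hu => by
    rw [aut_mul, aut_mul, hz.2 _ (hg u hu), aut_inv_apply]⟩) hx

theorem Lth_stab_a (h : Step p q r n a G W Y N) (hθ : Irr W θ) (hK : ¬ KV a W ≤ Lth W θ) :
    qHom W ⟨a, h.sec.a_W⟩ ∈ stab (Lth W θ) := by
  rcases (h.trichotomy hθ).resolve_left hK with h1 | hE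
  · exact mem_stab_of_map fun x hx => by simpa using add_mem (h1 x) hx
  · exact mem_stab_of_map fun x hx => classes_map (fun z hz => (mem_normalizer_iff.1 (Exc.a_ker h hE) z).1 hz) hx

set_option maxHeartbeats 1000000 in
/-- The stabiliser of the classes of an exceptional kernel keeps the moved part. -/
theorem exc_moved_stable (h : Step p q r n a G W Y N) (hE : Exc a W Y θ) {g : Aut (Vq W)} (hg : g ∈ qImg W Y)
    (hgL : g ∈ stab (Lth W θ)) :
    ∀ m ∈ movedA (qHom W ⟨a, h.sec.a_W⟩), g m ∈ Lth W θ ⊔ movedA (qHom W ⟨a, h.sec.a_W⟩) := by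
  classical
  haveI := Fact.mk h.sec.hq
  obtain ⟨hq2, k, hrk, hcard, hrig⟩ := Exc.rigid h hE
  set α := qHom W ⟨a, h.sec.a_W⟩ with hα
  have hWp := h.sec.pgroup
  have hαr : α ^ r = 1 := by
    rw [hα, ← map_pow, show (⟨a, h.sec.a_W⟩ : normalizer (W : Set (Aut V))) ^ r = 1 from Subtype.ext h.level.apow, map_one]
  have hlev := h.sec.level h.level.hr h.level.apow h.level.coprime
  haveI hnilY : Group.IsNilpotent (qImg W Y) := by
    rw [← h.sec.res_level]; exact (res_succ_eq_bot_iff _ n).1 hlev.bot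
  have hYq : (Nat.card (qImg W Y)).Coprime q := h.sec.Y_q.coprime_dvd_left (qImg_card_dvd W h.sec.Y_norm)
  have hYr : (Nat.card (qImg W Y)).Coprime r := h.Yr.coprime_dvd_left (qImg_card_dvd W h.sec.Y_norm)
  have hαL : α ∈ stab (Lth W θ) :=
    mem_stab_of_map fun x hx => classes_map (fun z hz => (mem_normalizer_iff.1 (Exc.a_ker h hE) z).1 hz) hx
  set S := qImg W Y ⊓ stab (Lth W θ) with hS
  have hαY : α ∈ normalizer (qImg W Y : Set (Aut (Vq W))) := norm_of_map fun x hx => by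
    obtain ⟨y, hy, rfl⟩ := mem_qImg.1 hx
    exact mem_qImg.2 ⟨⟨a, h.sec.a_W⟩ * y * ⟨a, h.sec.a_W⟩⁻¹, (mem_normalizer_iff.1 h.aY _).1 hy, by simp [hα]⟩
  have hαS : α ∈ normalizer (S : Set (Aut (Vq W))) := norm_of_map fun x hx =>
    ⟨(mem_normalizer_iff.1 hαY x).1 hx.1, Subgroup.mul_mem _ (Subgroup.mul_mem _ hαL hx.2) (Subgroup.inv_mem _ hαL)⟩
  have hSr : (Nat.card S).Coprime r := hYr.coprime_dvd_left (card_dvd_of_le inf_le_left)
  have hAS : zpowers α ≤ normalizer (S : Set (Aut (Vq W))) := zpowers_le.2 hαS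
  have hcA : (Nat.card (zpowers α)).Coprime (Nat.card S) := by
    rw [Nat.card_zpowers]; exact hSr.symm.coprime_dvd_left (orderOf_dvd_of_pow_eq_one hαr)
  set S1 := ⁅S, zpowers α⁆ with hS1
  have hS1S : S1 ≤ S := Coprime.commutator_le_of_le_normalizer hAS
  -- the radical
  set Rg := radG W θ h.sec.class2
  set R := classes W Rg with hR
  have hkR : ker W θ ≤ Rg := fun z hz => mem_radG.2 ⟨hz.1, fun v hv => by
    rw [show ⁅z, v⁆ = z * (v * z⁻¹ * v⁻¹) by rw [commutatorElement_def]; group]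
    exact mul_mem hz ((mem_normalizer_iff.1 (hE.irr.ker_norm hv) _).1 (inv_mem hz))⟩
  have hphiR : phi W ≤ Rg := fun f hf => mem_radG.2 ⟨phi_le W hf, fun v hv => by
    rw [commutatorElement_eq_one_iff_mul_comm.2 (mem_centralizer_iff.1 (h.sec.phi_central hf) v hv).symm]
    exact one_mem _⟩
  have hRmem : ∀ w : W, toQ W w ∈ R ↔ (w : Aut V) ∈ Rg := fun w => by
    refine ⟨fun ⟨w', hw', e⟩ => ?_, fun hw => ⟨w, hw, rfl⟩⟩
    have hd := (toQ_eq hWp w' w).1 e
    rw [show (w : Aut V) = (w' : Aut V) * ((w' : Aut V)⁻¹ * w) by group]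
    exact mul_mem hw' (hphiR hd)
  have hLR : Lth W θ ≤ R := fun x ⟨w, hw, e⟩ => ⟨w, hkR hw, e⟩
  -- `Y` and `a` keep the radical
  have hyR : ∀ y ∈ Y, ∀ z ∈ Rg, y * z * y⁻¹ ∈ Rg := by
    intro y hy z hz
    have hyW := h.sec.Y_norm hy
    refine mem_radG.2 ⟨(mem_normalizer_iff.1 hyW z).1 hz.1, fun v hv => ?_⟩
    have hv' : y⁻¹ * v * y ∈ W := (mem_normalizer_iff''.1 hyW v).1 hv
    have hf : ⁅z, y⁻¹ * v * y⁆ ∈ phi W := commutator_le_phi hWp (commutator_mem_commutator hz.1 hv')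
    have e : ⁅y * z * y⁻¹, v⁆ = y * ⁅z, y⁻¹ * v * y⁆ * y⁻¹ := by simp only [commutatorElement_def]; group
    rw [e, h.sec.phiY _ hf y hy, mul_inv_cancel_right]
    exact hz.2 _ hv'
  have haR : ∀ z ∈ Rg, a * z * a⁻¹ ∈ Rg := fun z hz => by
    have := Exc.rad_fixed h hE hz.1 hz.2
    rw [show a * z * a⁻¹ = ⁅a, z⁆ * z by rw [commutatorElement_def]; group]
    exact mul_mem (hkR this) hz
  have hYstab : qImg W Y ≤ stab R := fun x hx => by
    obtain ⟨y, hy, rfl⟩ := mem_qImg.1 hx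
    exact mem_stab_of_map fun v hv => classes_map (hyR _ hy) hv
  have hαR : α ∈ stab R := mem_stab_of_map fun v hv => classes_map haR hv
  have hαfix : ∀ z ∈ R, α z - z ∈ Lth W θ := by
    rintro _ ⟨w, hw, rfl⟩
    have hm := Exc.rad_fixed h hE hw.1 hw.2
    refine ⟨⟨_, (mem_ker.1 hm).1⟩, hm, ?_⟩
    rw [hα, qHom_apply, eq_sub_iff_add_eq, ← toQ_mul]
    congr 1
    exact Subtype.ext (show ⁅a, (w : Aut V)⁆ * (w : Aut V) = a * w * a⁻¹ by rw [commutatorElement_def]; group)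
  have hSR : S ≤ stab R := inf_le_left.trans hYstab
  -- `S1` is trivial from the radical to the kernel
  have hS1R : ∀ x ∈ S1, ∀ z ∈ R, x z - z ∈ Lth W θ := by
    let T : Subgroup (Aut (Vq W)) :=
      { carrier := {x | x ∈ stab (Lth W θ) ⊓ stab R ∧ ∀ z ∈ R, x z - z ∈ Lth W θ}
        one_mem' := ⟨one_mem _, fun z _ => by simp⟩
        mul_mem' := fun {x x'} hx hx' => ⟨mul_mem hx.1 hx'.1, fun z hz => by
          have := add_mem (hx.2 _ ((hx'.1.2 z).2 hz)) (hx'.2 z hz)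
          simpa [aut_mul] using this⟩
        inv_mem' := fun {x} hx => ⟨inv_mem hx.1, fun z hz => by
          have := neg_mem (hx.2 _ (((inv_mem hx.1.2 : x⁻¹ ∈ stab R) z).2 hz))
          rwa [neg_sub, aut_inv_apply] at this⟩ }
    have hle : S1 ≤ T := by
      rw [hS1, Subgroup.commutator_le]
      intro s hs b hb
      have hAT : zpowers α ≤ T := zpowers_le.2 ⟨⟨hαL, hαR⟩, hαfix⟩
      obtain ⟨⟨hbL, hbR⟩, hb'⟩ := hAT hb
      have hb'' := (inv_mem (hAT hb) : b⁻¹ ∈ T)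
      refine ⟨?_, fun z hz => ?_⟩
      · have : s ∈ stab (Lth W θ) ⊓ stab R := ⟨hs.2, hSR hs⟩
        rw [commutatorElement_def]
        exact mul_mem (mul_mem (mul_mem this ⟨hbL, hbR⟩) (inv_mem this)) (inv_mem ⟨hbL, hbR⟩)
      · rw [commutatorElement_def, aut_mul, aut_mul, aut_mul]
        have hz1 : b⁻¹ z - z ∈ Lth W θ := hb''.2 z hz
        have hz2 : s⁻¹ z ∈ R := ((inv_mem (hSR hs) : s⁻¹ ∈ stab R) z).2 hz
        have h3 : b (s⁻¹ (b⁻¹ z)) - s⁻¹ z ∈ Lth W θ := by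
          have h4 : b (s⁻¹ (b⁻¹ z - z)) ∈ Lth W θ :=
            (hbL _).2 (((inv_mem hs.2 : s⁻¹ ∈ stab (Lth W θ)) _).2 hz1)
          have h5 := add_mem h4 (hb' _ hz2)
          rw [map_sub, map_sub, sub_add_sub_cancel] at h5
          exact h5
        have h6 := (hs.2 _).2 h3
        rwa [map_sub, aut_inv_apply] at h6
    exact fun x hx => (hle hx).2
  -- the quotient by the radical
  subst hq2
  let π := quotE R
  set αR : stab R := ⟨α, hαR⟩
  set S1R := S1.subgroupOf (stab R)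
  have hS1le : S1 ≤ stab R := hS1S.trans hSR
  have hcardS1 : Nat.card (S1R.map π) ∣ Nat.card (qImg W Y) :=
    (card_map_dvd _ _).trans ((Nat.card_congr (subgroupOfEquivOfLe hS1le).toEquiv).dvd.trans
      (card_dvd_of_le (hS1S.trans inf_le_left)))
  haveI : Group.IsNilpotent (S1R.map π) := by
    obtain ⟨m, hm⟩ := (isNilpotent_iff_lowerCentralSeries (qImg W Y)).1 hnilY
    refine (isNilpotent_iff_lowerCentralSeries _).2 ⟨m, ?_⟩
    rw [← map_lowerCentralSeries, eq_bot_iff]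
    rintro _ ⟨x, hx, rfl⟩
    have h1 : (x : Aut (Vq W)) ∈ (qImg W Y).lowerCentralSeries m := by
      refine lowerCentralSeries_mono m ((map_subgroupOf_eq_of_le hS1le).le.trans (hS1S.trans inf_le_left)) ?_
      show (x : Aut (Vq W)) ∈ (S1R.map (stab R).subtype).lowerCentralSeries m
      rw [← map_lowerCentralSeries]
      exact ⟨x, hx, rfl⟩
    rw [hm, mem_bot] at h1
    rw [mem_bot, show x = 1 from Subtype.ext h1, map_one]
  have hαS1 : α ∈ normalizer (S1 : Set (Aut (Vq W))) :=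
    Subgroup.normalizer_commutator_ge_right S (zpowers α) (mem_zpowers α)
  have hgen : ⁅S1R.map π, zpowers (π αR)⁆ = S1R.map π := by
    rw [← MonoidHom.map_zpowers, ← map_commutator]
    congr 1
    refine map_injective (stab R).subtype_injective ?_
    rw [map_commutator, MonoidHom.map_zpowers, show S1R.map (stab R).subtype = S1 from map_subgroupOf_eq_of_le hS1le]
    exact Coprime.commutator_commutator_eq hAS hcA (Or.inl (Coprime.isSolvable_of_isMulCommutative _))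
  let mk : W → Vq W ⧸ R := fun w => QuotientAddGroup.mk (toQ W w)
  have hmk_surj : ∀ u : Vq W ⧸ R, ∃ w, mk w = u := fun u => by
    induction u using QuotientAddGroup.induction_on with
    | H x => obtain ⟨w, rfl⟩ := toQ_surjective W x; exact ⟨w, rfl⟩
  have hmk_mul : ∀ w w' : W, mk (w * w') = mk w + mk w' := fun w w' => by
    simp only [mk, toQ_mul, QuotientAddGroup.mk_add]
  have hmk_eq : ∀ w w' : W, mk w = mk w' ↔ (w : Aut V)⁻¹ * w' ∈ Rg := fun w w' => by
    rw [show (w : Aut V)⁻¹ * w' = ((w⁻¹ * w' : W) : Aut V) from rfl, ← hRmem, toQ_mul, toQ_inv]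
    exact QuotientAddGroup.eq
  let orth : Vq W ⧸ R → Vq W ⧸ R → Prop := fun u v =>
    ∀ w w' : W, mk w = u → mk w' = v → ⁅(w : Aut V), (w' : Aut V)⁆ ∈ ker W θ
  have hmulL : ∀ x y z : W, ⁅((x * y : W) : Aut V), (z : Aut V)⁆ = ⁅(y : Aut V), (z : Aut V)⁆ * ⁅(x : Aut V), (z : Aut V)⁆ :=
    fun x y z => by
      show ⁅(x : Aut V) * y, (z : Aut V)⁆ = _
      rw [show ⁅(x : Aut V) * y, (z : Aut V)⁆ = (x : Aut V) * ⁅(y : Aut V), (z : Aut V)⁆ * (x : Aut V)⁻¹ *
        ⁅(x : Aut V), (z : Aut V)⁆ by simp only [commutatorElement_def]; group,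
        mem_centralizer_iff.1 (h.sec.class2 y y.2 z z.2) x x.2, mul_inv_cancel_right]
  have hmulR : ∀ x y z : W, ⁅(z : Aut V), ((x * y : W) : Aut V)⁆ = ⁅(z : Aut V), (x : Aut V)⁆ * ⁅(z : Aut V), (y : Aut V)⁆ :=
    fun x y z => by
      show ⁅(z : Aut V), (x : Aut V) * y⁆ = _
      rw [show ⁅(z : Aut V), (x : Aut V) * y⁆ = ⁅(z : Aut V), (x : Aut V)⁆ * ((x : Aut V) * ⁅(z : Aut V), (y : Aut V)⁆ *
        (x : Aut V)⁻¹) by simp only [commutatorElement_def]; group,
        mem_centralizer_iff.1 (h.sec.class2 z z.2 y y.2) x x.2, mul_inv_cancel_right]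
  -- change of representatives
  have hkl : ∀ w w' v : W, mk w = mk w' → ⁅(w : Aut V), (v : Aut V)⁆ ∈ ker W θ → ⁅(w' : Aut V), (v : Aut V)⁆ ∈ ker W θ := by
    intro w w' v e hw
    rw [show w' = w * (w⁻¹ * w') by group, hmulL]
    exact mul_mem (((hmk_eq w w').1 e).2 v v.2) hw
  have hsymm' : ∀ w v : W, ⁅(w : Aut V), (v : Aut V)⁆ ∈ ker W θ → ⁅(v : Aut V), (w : Aut V)⁆ ∈ ker W θ := fun w v hw => by
    rw [← commutatorElement_inv]; exact inv_mem hw
  have horth : ∀ w v : W, orth (mk w) (mk v) ↔ ⁅(w : Aut V), (v : Aut V)⁆ ∈ ker W θ := fun w v =>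
    ⟨fun ho => ho w v rfl rfl, fun hw w' v' ew ev =>
      hsymm' _ _ (hkl v v' w' ev.symm (hsymm' _ _ (hkl w w' v ew.symm hw)))⟩
  have hiso : ∀ (y : normalizer (W : Set (Aut V))) (hy : qHom W y ∈ stab R),
      (∀ w ∈ W, ∀ v ∈ W, (⁅w, v⁆ ∈ ker W θ ↔ ⁅(y : Aut V) * w * (y : Aut V)⁻¹, (y : Aut V) * v * (y : Aut V)⁻¹⁆ ∈ ker W θ)) →
      ∀ u v, orth (quotE R ⟨_, hy⟩ u) (quotE R ⟨_, hy⟩ v) ↔ orth u v := by
    intro y hy hiff u v
    obtain ⟨w, rfl⟩ := hmk_surj u
    obtain ⟨w', rfl⟩ := hmk_surj v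
    simp only [mk, quotE_mk, qHom_apply]
    exact (horth _ _).trans ((hiff w w.2 w' w'.2).symm.trans (horth w w').symm)
  have hRin : ∀ x : Vq W ⧸ R, 2 • x = 0 := fun x => by
    induction x using QuotientAddGroup.induction_on with
    | H x => rw [← QuotientAddGroup.mk_nsmul, elem_vq hWp, QuotientAddGroup.mk_zero]
  have hidx : ∀ u v w, ¬ orth u v → ¬ orth u w → orth u (v + w) := by
    intro u v w huv huw
    obtain ⟨x, rfl⟩ := hmk_surj u
    obtain ⟨y, rfl⟩ := hmk_surj v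
    obtain ⟨z, rfl⟩ := hmk_surj w
    rw [horth] at huv huw
    rw [← hmk_mul, horth, hmulR]
    -- commutators outside the kernel negate the constituent
    have hneg : ∀ f : Aut V, (∃ v : W, f = ⁅(x : Aut V), (v : Aut V)⁆) → f ∉ ker W θ → ∀ u ∈ θ, f u = -u := by
      rintro f ⟨v, rfl⟩ hf u hu
      set f := ⁅(x : Aut V), (v : Aut V)⁆
      have hfphi : f ∈ phi W := commutator_le_phi hWp (commutator_mem_commutator x.2 v.2)
      have hf2 : f * f = 1 := by
        rw [show f * f = ⁅(x : Aut V), ((v * v : W) : Aut V)⁆ from (hmulR v v x).symm,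
          commutatorElement_eq_one_iff_mul_comm]
        refine mem_centralizer_iff.1 (h.sec.phi_central ?_) x x.2
        have := pow_mem_phi hWp v.2
        rwa [sq] at this
      have hWz : W ≤ normalizer (zpowers f : Set (Aut V)) := fun w hw => norm_of_map fun t ht => by
        obtain ⟨j, rfl⟩ := mem_zpowers_iff.1 ht
        rw [((show Commute w f from mem_centralizer_iff.1 (h.sec.phi_central hfphi) w hw).zpow_right j).eq,
          mul_inv_cancel_right]
        exact zpow_mem (mem_zpowers f) j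
      rcases hE.irr.dichotomy (zpowers_le.2 (phi_le W hfphi)) hWz with h1 | h1
      · exact absurd (mem_ker.2 ⟨phi_le W hfphi, fun u' hu' => h1 hu' f (mem_zpowers f)⟩) hf
      · have hfu : f u ∈ θ := hE.irr.inv f (phi_le W hfphi) u hu
        have hfix : f u + u ∈ θ ⊓ fixed (zpowers f) := by
          refine ⟨add_mem hfu hu, fun t ht => ?_⟩
          have hle : zpowers f ≤ MulAction.stabilizer (Aut V) (f u + u) := zpowers_le.2 (MulAction.mem_stabilizer_iff.2 (by
            show f (f u + u) = f u + u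
            rw [map_add, ← aut_mul, hf2, LinearEquiv.coe_one, id_eq, add_comm]))
          exact MulAction.mem_stabilizer_iff.1 (hle ht)
        rw [h1.1, AddSubgroup.mem_bot] at hfix
        exact eq_neg_of_add_eq_zero_left hfix
    refine mem_ker.2 ⟨?_, fun u hu => ?_⟩
    · have hh : ∀ v : W, ⁅(x : Aut V), (v : Aut V)⁆ ∈ W := fun v => by
        rw [commutatorElement_def]; exact mul_mem (mul_mem (mul_mem x.2 v.2) (inv_mem x.2)) (inv_mem v.2)
      exact mul_mem (hh y) (hh z)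
    · rw [aut_mul, hneg _ ⟨z, rfl⟩ huw u hu, map_neg, hneg _ ⟨y, rfl⟩ huv u hu, neg_neg]
  have hmovedX2 : ∀ u ∈ moved (zpowers (π αR)), ∃ x : W, (x : Aut V) ∈ X2 a W ∧ mk x = u := by
    have hodd : (Nat.card (zpowers (π αR))).Coprime 2 := by
      rw [Nat.card_zpowers]
      refine Nat.Coprime.coprime_dvd_left ((orderOf_map_dvd _ _).trans ((orderOf_mk _ _).dvd.trans
        (orderOf_dvd_of_pow_eq_one hαr))) ?_
      exact (Nat.coprime_primes h.level.hr Nat.prime_two).2 h.rq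
    let M : AddSubgroup (Vq W ⧸ R) :=
      { carrier := {u | ∃ x : W, (x : Aut V) ∈ X2 a W ∧ mk x = u}
        zero_mem' := ⟨1, one_mem _, by simp only [mk, toQ_one, QuotientAddGroup.mk_zero]⟩
        add_mem' := fun {u v} ⟨x, hx, e⟩ ⟨x', hx', e'⟩ => ⟨x * x', mul_mem hx hx', by rw [hmk_mul, e, e']⟩
        neg_mem' := fun {u} ⟨x, hx, e⟩ => ⟨x⁻¹, inv_mem hx, by
          simp only [mk, toQ_inv, QuotientAddGroup.mk_neg] at *; rw [e]⟩ }
    have hle : moved (zpowers (π αR)) ≤ M := (moved_le_closure hRin hodd).trans (by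
      rw [AddSubgroup.closure_le]
      rintro _ ⟨b, hb, v, rfl⟩
      obtain ⟨j, rfl⟩ := mem_zpowers_iff.1 hb
      obtain ⟨w, rfl⟩ := hmk_surj v
      rw [← map_zpow]
      have hgW : a ^ j ∈ normalizer (W : Set (Aut V)) := zpow_mem h.sec.a_W j
      have e0 : ((αR ^ j : stab R) : Aut (Vq W)) = qHom W ⟨a ^ j, hgW⟩ := by
        rw [SubgroupClass.coe_zpow, show α ^ j = qHom W (⟨a, h.sec.a_W⟩ ^ j) from (map_zpow _ _ _).symm]
        exact congrArg _ (Subtype.ext (by simp))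
      have hm : ⁅a ^ j, (w : Aut V)⁆ ∈ X2 a W := by
        rw [← commutatorElement_inv]; exact inv_mem (commutator_mem_commutator w.2 (zpow_mem (mem_zpowers a) j))
      refine ⟨⟨_, h.X2_le hm⟩, hm, ?_⟩
      simp only [mk, π, quotE_mk, e0, qHom_apply]
      rw [eq_sub_iff_add_eq, ← QuotientAddGroup.mk_add, ← toQ_mul]
      congr 2
      exact Subtype.ext (show ⁅a ^ j, (w : Aut V)⁆ * (w : Aut V) = a ^ j * w * (a ^ j)⁻¹ by
        rw [commutatorElement_def]; group))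
    exact fun u hu => hle hu
  have hxR : ∀ x : Aut V, x ∈ X2 a W → ∀ x' : Aut V, x' ∈ X2 a W → (∀ u ∈ θ, ⁅x, x'⁆ u = u) → ⁅x, x'⁆ ∈ ker W θ :=
    fun x hx x' hx' hu => mem_ker.2 ⟨by
      rw [commutatorElement_def]
      exact mul_mem (mul_mem (mul_mem (h.X2_le hx) (h.X2_le hx')) (inv_mem (h.X2_le hx))) (inv_mem (h.X2_le hx')), hu⟩
  have hcard' : Nat.card (moved (zpowers (π αR))) ≤ (2 ^ k) ^ 2 := by
    rw [← hcard]
    choose rep hrep1 hrep2 using fun u : moved (zpowers (π αR)) => hmovedX2 u.1 u.2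
    set E := orbit a W Y θ
    set X := img E (X2 a W)
    have hXs : X2 a W ≤ stab E := h.X2_le.trans (Exc.W_mem h hE)
    let f : moved (zpowers (π αR)) → Lab X := fun u =>
      toLab X ⟨resE E ⟨rep u, hXs (hrep1 u)⟩, mem_img.2 ⟨_, hrep1 u, rfl⟩⟩
    refine Nat.card_le_card_of_injective f fun u v e => Subtype.ext ?_
    rw [← hrep2 u, ← hrep2 v, hmk_eq]
    have hcl : ∀ s t : X, ⁅s, t⁆ ∈ Subgroup.center ↥X := by
      rintro ⟨_, hs⟩ ⟨_, ht⟩
      obtain ⟨s, hs', rfl⟩ := mem_img.1 hs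
      obtain ⟨t, ht', rfl⟩ := mem_img.1 ht
      refine (mem_center_iff' _).2 (mem_centralizer_iff.2 ?_)
      rintro _ hx
      obtain ⟨x, hx', rfl⟩ := mem_img.1 hx
      show resE E x * ⁅resE E s, resE E t⁆ = ⁅resE E s, resE E t⁆ * resE E x
      rw [← map_commutatorElement, ← map_mul, ← map_mul]
      exact congrArg _ (Subtype.ext (mem_centralizer_iff.1 (h.sec.class2 _ (h.X2_le hs') _ (h.X2_le ht')) _
        (h.X2_le hx')))
    have hd := (mem_center_iff' _).1 ((toLab_eq_iff X hcl _ _).1 e)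
    set d := (rep u : Aut V)⁻¹ * (rep v : Aut V) with hd'
    have hdX : d ∈ X2 a W := mul_mem (inv_mem (hrep1 u)) (hrep1 v)
    refine mem_radG.2 ⟨h.X2_le hdX, fun w hw => ?_⟩
    obtain ⟨c, hc, hca, x2, hx2, rfl⟩ := h.decompose hw
    rw [show ⁅d, c * x2⁆ = ⁅d, c⁆ * ⁅d, x2⁆ from hmulR ⟨c, hc⟩ ⟨x2, h.X2_le hx2⟩ ⟨d, h.X2_le hdX⟩]
    refine mul_mem ?_ (hxR d hdX x2 hx2 fun y hy => ?_)
    · rw [← commutatorElement_inv]
      refine inv_mem (mem_ker.2 ⟨?_, fun y hy => hE.fix1 hy _ (h.comm_fixed hc hca hdX)⟩)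
      exact h.X1_spec.1.trans inf_le_left (h.comm_fixed hc hca hdX)
    · have h1 : resE E ⟨d, hXs hdX⟩ * resE E ⟨x2, hXs hx2⟩ = resE E ⟨x2, hXs hx2⟩ * resE E ⟨d, hXs hdX⟩ := by
        have e1 : resE E ⟨d, hXs hdX⟩ = (resE E ⟨rep u, hXs (hrep1 u)⟩)⁻¹ * resE E ⟨rep v, hXs (hrep1 v)⟩ := by
          rw [← map_inv, ← map_mul]; rfl
        rw [e1]
        exact (mem_centralizer_iff.1 hd _ (mem_img.2 ⟨_, hx2, rfl⟩)).symm
      rw [← commutatorElement_eq_one_iff_mul_comm, ← map_commutatorElement] at h1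
      exact (resE_eq_one _).1 h1 y (Exc.le_orbit h hE hy)
  have hrigP : ∀ s ∈ S1R.map π, π αR * s = s * π αR → ∀ u ∈ moved (zpowers (π αR)), s u = u := by
    intro s hs hsa u hu
    obtain ⟨g, hg, hga, rfl⟩ := hom_lift_fixed π (r := r) (Subtype.ext hαr)
      (by rw [mem_normalizer_iff]; exact fun x => mem_normalizer_iff.1 hαS1 x)
      ((hSr.coprime_dvd_left (card_dvd_of_le hS1S)).coprime_dvd_left
        (Nat.card_congr (subgroupOfEquivOfLe hS1le).toEquiv).dvd) hs hsa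
    obtain ⟨gg, hggR⟩ := g
    have hgS : gg ∈ S := hS1S hg
    obtain ⟨y, hy, hya, hyg⟩ := qImg_lift_fixed h.sec.Y_norm (a := ⟨a, h.sec.a_W⟩) h.level.apow h.aY h.Yr hgS.1
      (congrArg Subtype.val hga)
    subst hyg
    have hy0 : (y : Aut V) ∈ S0 a W Y θ := ⟨hy, hya, y.2, fun x => hgS.2 x⟩
    obtain ⟨x, hx, rfl⟩ := hmovedX2 u hu
    show quotE R _ (QuotientAddGroup.mk (toQ W x)) = QuotientAddGroup.mk (toQ W x)
    rw [quotE_mk]
    show QuotientAddGroup.mk (qHom W y (toQ W x)) = mk x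
    rw [qHom_apply]
    refine ((hmk_eq x _).2 ?_).symm
    show (x : Aut V)⁻¹ * ((y : Aut V) * x * (y : Aut V)⁻¹) ∈ Rg
    have hm : ⁅(y : Aut V), (x : Aut V)⁆ ∈ Rg := mem_radG.2 ⟨by
      rw [commutatorElement_def]; exact mul_mem ((mem_normalizer_iff.1 y.2 x).1 x.2) (inv_mem x.2),
      fun v hv => hrig y hy0 x hx v hv⟩
    have hRn : (x : Aut V)⁻¹ * ⁅(y : Aut V), (x : Aut V)⁆ * x ∈ Rg := by
      have hgc : ⁅(x : Aut V)⁻¹, ⁅(y : Aut V), (x : Aut V)⁆⁆ ∈ Rg := by
        refine hphiR (commutator_le_phi hWp (commutator_mem_commutator (inv_mem x.2) hm.1))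
      rw [show (x : Aut V)⁻¹ * ⁅(y : Aut V), (x : Aut V)⁆ * x =
        ⁅(x : Aut V)⁻¹, ⁅(y : Aut V), (x : Aut V)⁆⁆ * ⁅(y : Aut V), (x : Aut V)⁆ by
          rw [commutatorElement_def (x : Aut V)⁻¹]; group]
      exact mul_mem hgc hm
    rwa [show (x : Aut V)⁻¹ * ((y : Aut V) * x * (y : Aut V)⁻¹) =
      (x : Aut V)⁻¹ * ⁅(y : Aut V), (x : Aut V)⁆ * x by rw [commutatorElement_def]; group]
  have hbot := odd_rigid hRin h.level.hr hrk (a := π αR)
    (by rw [← map_pow, show αR ^ r = 1 from Subtype.ext hαr, map_one]) (S := S1R.map π)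
    (by
      refine norm_of_map ?_
      rintro _ ⟨x, hx, rfl⟩
      exact ⟨αR * x * αR⁻¹, (mem_normalizer_iff.1 hαS1 _).1 hx, by simp⟩)
    (hYq.coprime_dvd_left hcardS1) (hYr.coprime_dvd_left hcardS1) hgen orth
    (fun u w w' e e' => by
      refine hkl w' w w' (e'.trans e.symm) ?_
      rw [commutatorElement_self]; exact one_mem _)
    (fun u v ho w w' e e' => hsymm' _ _ (ho w' w e' e))
    (fun u => by
      obtain ⟨w, rfl⟩ := hmk_surj u
      rw [show (0 : Vq W ⧸ R) = mk 1 by simp only [mk, toQ_one, QuotientAddGroup.mk_zero], horth, Subgroup.coe_one,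
        commutatorElement_one_right]
      exact one_mem _)
    (fun u v w huv huw => by
      obtain ⟨x, rfl⟩ := hmk_surj u
      obtain ⟨y, rfl⟩ := hmk_surj v
      obtain ⟨z, rfl⟩ := hmk_surj w
      rw [horth] at huv huw
      rw [← hmk_mul, horth, hmulR]; exact mul_mem huv huw)
    hidx
    (fun u hu => by
      obtain ⟨x, rfl⟩ := hmk_surj u
      rw [show (0 : Vq W ⧸ R) = mk 1 by simp only [mk, toQ_one, QuotientAddGroup.mk_zero], hmk_eq]
      refine mem_radG.2 ⟨mul_mem (inv_mem x.2) (one_mem W), fun v hv => ?_⟩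
      rw [Subgroup.coe_one, mul_one]
      exact (inv_mem (show (x : Aut V) ∈ Rg from
        mem_radG.2 ⟨x.2, fun v' hv' => (horth x ⟨v', hv'⟩).1 (hu _)⟩) : (x : Aut V)⁻¹ ∈ Rg).2 v hv)
    (hiso ⟨a, h.sec.a_W⟩ hαR fun w hw v hv => by
      show _ ↔ ⁅a * w * a⁻¹, a * v * a⁻¹⁆ ∈ ker W θ
      rw [show ⁅a * w * a⁻¹, a * v * a⁻¹⁆ = a * ⁅w, v⁆ * a⁻¹ by simp only [commutatorElement_def]; group]
      exact mem_normalizer_iff.1 (Exc.a_ker h hE) _)
    (by
      rintro _ ⟨⟨gg, hgg⟩, hx, rfl⟩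
      obtain ⟨y, hy, rfl⟩ := mem_qImg.1 (hS1S hx).1
      refine hiso y hgg fun w hw v hv => ?_
      have hf : ⁅w, v⁆ ∈ phi W := commutator_le_phi hWp (commutator_mem_commutator hw hv)
      rw [show ⁅(y : Aut V) * w * (y : Aut V)⁻¹, (y : Aut V) * v * (y : Aut V)⁻¹⁆ =
        (y : Aut V) * ⁅w, v⁆ * (y : Aut V)⁻¹ by simp only [commutatorElement_def]; group,
        h.sec.phiY _ hf _ hy, mul_inv_cancel_right])
    hrigP hcard'
  -- conclude
  have hS1L : ∀ x ∈ S1, ∀ v, x v - v ∈ Lth W θ := by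
    intro x hx
    refine trivial_mod (q := 2) (elem_vq hWp) (hYq.coprime_dvd_left
      ((Subgroup.orderOf_dvd_natCard _ (hS1S hx).1))) (fun v => ?_) (hS1R x hx)
    have h1 : π ⟨x, hS1le hx⟩ = 1 := mem_bot.1 (hbot ▸ mem_map_of_mem π (mem_subgroupOf.2 hx))
    have h2 := LinearEquiv.congr_fun h1 (QuotientAddGroup.mk v)
    rw [quotE_mk, LinearEquiv.coe_one, id_eq] at h2
    have h3 := QuotientAddGroup.eq.1 h2.symm
    rwa [neg_add_eq_sub] at h3
  intro m hm
  obtain ⟨c, hc, x, hx, rfl⟩ := Coprime.exists_eq_centralizer_mul_commutator hAS hcA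
    (Or.inl (Coprime.isSolvable_of_isMulCommutative _)) (⟨hg, hgL⟩ : g ∈ S)
  obtain ⟨u, rfl⟩ := mem_movedA.1 hm
  rw [aut_mul]
  have h1 := hS1L x hx (α u - u)
  have h2 : c (α u - u) ∈ movedA α := ⟨c u, by
    show α (c u) - c u = c (α u - u)
    rw [map_sub, ← aut_mul, mem_centralizer_iff.1 hc.2 α (mem_zpowers α), aut_mul]⟩
  have h3 := (hc.1.2 _).2 h1
  rw [map_sub] at h3
  have := add_mem (AddSubgroup.mem_sup_left (T := movedA α) h3) (AddSubgroup.mem_sup_right h2)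
  simpa using this

/-- **The classes of the bad elements are covered.** -/
theorem covered (h : Step p q r n a G W Y N) :
    Covered (qHom W ⟨a, h.sec.a_W⟩) (res n (qImg W N)) (KV a W) := by
  classical
  haveI := Fact.mk h.sec.hq
  rw [h.sec.res_level]
  set α := qHom W ⟨a, h.sec.a_W⟩ with hα
  set M := movedA α with hM
  have hαr : α ^ r = 1 := by
    rw [hα, ← map_pow, show (⟨a, h.sec.a_W⟩ : normalizer (W : Set (Aut V))) ^ r = 1 from Subtype.ext h.level.apow, map_one]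
  have hlev := h.sec.level h.level.hr h.level.apow h.level.coprime
  have hYr : (Nat.card (qImg W Y)).Coprime r := h.Yr.coprime_dvd_left (qImg_card_dvd W h.sec.Y_norm)
  have hYn : ∀ {θ : AddSubgroup V}, Irr W θ → ∀ y ∈ Y, Irr W (θ.map (y : Aut V).toLinearMap.toAddMonoidHom) :=
    fun hθ y hy => hθ.map (h.sec.Y_norm hy)
  refine ⟨{L | ∃ θ, Irr W θ ∧ ((KV a W ≤ Lth W θ ∧ L = Lth W θ) ∨ (¬ KV a W ≤ Lth W θ ∧ L = Lth W θ ⊔ M))},
    fun v hv hall => ?_, ?_⟩
  · have hL : ∀ θ, Irr W θ → v ∈ Lth W θ := by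
      intro θ hθ
      by_cases hK : KV a W ≤ Lth W θ
      · exact hall _ ⟨θ, hθ, Or.inl ⟨hK, rfl⟩⟩
      have hmem := hall _ ⟨θ, hθ, Or.inr ⟨hK, rfl⟩⟩
      obtain ⟨l, hl, m, hm, e⟩ := AddSubgroup.mem_sup.1 hmem
      obtain ⟨u, rfl⟩ := mem_movedA.1 hm
      refine torsion_mem hlev.elem (n := r) ((Nat.coprime_primes h.level.hr h.sec.hq).2 h.rq) ?_
      have hstab := h.Lth_stab_a hθ hK
      have key : ∀ i : ℕ, i • v - ((α ^ i) u - u) ∈ Lth W θ := by
        intro i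
        induction i with
        | zero => simp
        | succ i ih =>
          have e1 : l = v - (α u - u) := eq_sub_of_add_eq e
          have hli : (α ^ i) l ∈ Lth W θ := ((pow_mem hstab i) l).2 hl
          rw [e1, map_sub, map_sub, fixed_pow hv, ← aut_mul, ← pow_succ] at hli
          have h9 := add_mem ih hli
          have e2 : (i + 1) • v - ((α ^ (i + 1)) u - u) =
              i • v - ((α ^ i) u - u) + (v - ((α ^ (i + 1)) u - (α ^ i) u)) := by
            rw [succ_nsmul]; abel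
          rw [e2]; exact h9
      have hk := key r
      rwa [hαr, LinearEquiv.coe_one, id_eq, sub_self, sub_zero] at hk
    let I : AddSubgroup (Vq W) :=
      { carrier := {x | ∀ θ, Irr W θ → x ∈ Lth W θ}
        zero_mem' := fun θ _ => zero_mem _
        add_mem' := fun hx hy θ hθ => add_mem (hx θ hθ) (hy θ hθ)
        neg_mem' := fun hx θ hθ => neg_mem (hx θ hθ) }
    have hinv : ∀ g : normalizer (W : Set (Aut V)), ∀ x ∈ I, qHom W g x ∈ I := fun g x hx θ hθ => by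
      refine Lth_map (θ := θ.map (((g : Aut V)⁻¹ : Aut V)).toLinearMap.toAddMonoidHom) hθ.inv
        (fun u hu => AddSubgroup.mem_map.2 ⟨u, hu, rfl⟩) (hx _ (hθ.map (inv_mem g.2)))
    rcases hlev.irred I (hinv ⟨a, h.sec.a_W⟩) (fun g hg x hx => by
      obtain ⟨y, -, rfl⟩ := mem_qImg.1 hg
      exact hinv y x hx) with hI | hI
    · exact AddSubgroup.mem_bot.1 (hI ▸ (show v ∈ I from hL))
    exfalso
    have hall' : ∀ θ, Irr W θ → W ≤ ker W θ := by
      intro θ hθ
      refine (phi_nongen (fun x hx => (mem_ker.1 hx).1) (le_antisymm (sup_le (fun x hx => (mem_ker.1 hx).1) (phi_le W)) ?_)).ge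
      intro w hw
      have hw' : toQ W ⟨w, hw⟩ ∈ I := hI ▸ AddSubgroup.mem_top _
      obtain ⟨w', hw'k, e⟩ := hw' θ hθ
      rw [show w = (w' : Aut V) * ((w' : Aut V)⁻¹ * w) by group]
      exact mul_mem (mem_sup_left hw'k) (mem_sup_right ((toQ_eq h.sec.pgroup w' ⟨w, hw⟩).1 e))
    refine h.sec.W_ne ((eq_bot_iff_forall W).2 fun w hw => eq_one_of_parts h.level.elem h.Wp (fun u hu => hu w hw) ?_)
    intro u hu
    by_contra hne
    obtain ⟨θ, hθM, hθ⟩ := exists_irr (W := W) (M := moved W) (fun e => hne (by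
      rw [e, AddSubgroup.mem_bot] at hu; rw [hu, map_zero])) (fun g hg x hx => moved_inv (le_normalizer hg) hx)
    refine hθ.ne ((AddSubgroup.eq_bot_iff_forall _).2 fun x hx => ?_)
    exact eq_zero_of_moved h.level.elem h.Wp (hθM hx) fun g hg => (mem_ker.1 (hall' θ hθ hg)).2 x hx
  · rintro L ⟨θ, hθ, ⟨hK, rfl⟩ | ⟨hK, rfl⟩⟩
    · exact Or.inl hK
    refine Or.inr ⟨fun u => AddSubgroup.mem_sup_right ⟨u, rfl⟩, fun g hg => ?_⟩
    obtain ⟨y, hy, rfl⟩ := mem_qImg.1 hg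
    set θ' := θ.map (((y : Aut V)⁻¹ : Aut V)).toLinearMap.toAddMonoidHom with hθ'
    have hθ'irr : Irr W θ' := hθ.map (inv_mem y.2)
    have h12 : ∀ x ∈ Lth W θ', qHom W y x ∈ Lth W θ := fun x hx =>
      Lth_map hθ.inv (fun u hu => AddSubgroup.mem_map.2 ⟨u, hu, rfl⟩) hx
    have h21 : ∀ x, qHom W y x ∈ Lth W θ → x ∈ Lth W θ' := fun x hx => by
      have hback := Lth_map (g := y⁻¹) hθ'irr.inv (fun u hu => by
        obtain ⟨u₀, hu₀, rfl⟩ := AddSubgroup.mem_map.1 hu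
        show ((y : Aut V)⁻¹)⁻¹ ((y : Aut V)⁻¹ u₀) ∈ θ
        rw [inv_inv, aut_inv_apply]; exact hu₀) hx
      rwa [← LinearEquiv.mul_apply, ← map_mul, inv_mul_cancel, map_one] at hback
    by_cases hK' : KV a W ≤ Lth W θ'
    · exact Or.inr fun x hx => AddSubgroup.mem_sup_left (h12 x (hK' hx))
    left
    set gg := qHom W y with hgg
    set S := qImg W Y ⊓ stab (Lth W θ) with hS
    have hA1 := h.Lth_stab_a hθ hK
    have hA2 := h.Lth_stab_a hθ'irr hK'
    have hαY : α ∈ normalizer (qImg W Y : Set (Aut (Vq W))) := norm_of_map fun x hx => by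
      obtain ⟨z, hz, rfl⟩ := mem_qImg.1 hx
      exact mem_qImg.2 ⟨⟨a, h.sec.a_W⟩ * z * ⟨a, h.sec.a_W⟩⁻¹, (mem_normalizer_iff.1 h.aY _).1 hz, by simp [hα]⟩
    have hαS : α ∈ normalizer (S : Set (Aut (Vq W))) := norm_of_map fun x hx =>
      ⟨(mem_normalizer_iff.1 hαY x).1 hx.1, Subgroup.mul_mem _ (Subgroup.mul_mem _ hA1 hx.2) (Subgroup.inv_mem _ hA1)⟩
    have hgY : gg ∈ qImg W Y := mem_qImg.2 ⟨y, hy, rfl⟩
    obtain ⟨s, hs, hsC⟩ := Coprime.exists_fixed_in_coset (A := zpowers α) (N := S) (k := gg⁻¹) (zpowers_le.2 hαS)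
      (by
        rw [Nat.card_zpowers]
        exact (hYr.symm.coprime_dvd_left (orderOf_dvd_of_pow_eq_one hαr)).coprime_dvd_right
          (card_dvd_of_le inf_le_left))
      (Or.inl (Coprime.isSolvable_of_isMulCommutative _)) (fun b hb => by
        rw [inv_inv]
        refine ⟨mul_mem hgY ((mem_normalizer_iff.1 (zpowers_le.2 hαY hb) _).1 (inv_mem hgY)), mem_stab_of_map fun x hx => ?_⟩
        rw [aut_mul, aut_mul, aut_mul]
        refine h12 _ (((zpowers_le.2 hA2 hb) _).2 (h21 _ ?_))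
        rw [aut_inv_apply]
        exact ((inv_mem (zpowers_le.2 hA1 hb) : b⁻¹ ∈ stab (Lth W θ)) x).2 hx)
    have hcomm : α * (gg⁻¹ * s) = (gg⁻¹ * s) * α := mem_centralizer_iff.1 hsC α (mem_zpowers α)
    intro u
    set u' := (gg⁻¹ * s)⁻¹ u
    have e : gg (α u) - gg u = s (α u' - u') := by
      have e1 : gg = s * (gg⁻¹ * s)⁻¹ := by group
      conv_lhs => rw [e1]
      rw [← map_sub, aut_mul, map_sub ((gg⁻¹ * s)⁻¹ : Aut (Vq W)), ← aut_mul _ α,
        ← (show Commute α (gg⁻¹ * s) from hcomm).inv_right.eq, aut_mul]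
    rw [e]
    rcases (h.trichotomy hθ).resolve_left hK with h1 | hE
    · exact AddSubgroup.mem_sup_left ((hs.2 _).2 (h1 u'))
    · exact h.exc_moved_stable hE hs.1 hs.2 _ ⟨u', rfl⟩

end Step

end Cfsg.Agent.TwoLoss
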