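import Cfsg.Agent.Lib.TwoLoss.SecLevel
import Cfsg.Agent.Lib.TwoLoss.BadAction

/-!
# The data of one step, and the elements acting badly on the section
-/

set_option autoImplicit false
set_option linter.unusedSectionVars false
set_option linter.style.haveILetI false

namespace Cfsg.Agent.TwoLoss

open Subgroup
open scoped commutatorElement

universe u

variable {V : Type u} [AddCommGroup V] [Finite V]

/-- Moved points of the image are moved points. -/
theorem mem_moved_img {p : ℕ} (hp : ∀ x : V, p • x = 0) {E : AddSubgroup V} {X : Subgroup (Aut V)}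
    (hX : X ≤ stab E) (hXp : (Nat.card X).Coprime p) {v : E} (hv : (v : V) ∈ moved X) : v ∈ moved (img E X) := by
  have hc : (Nat.card (img E X)).Coprime p := hXp.coprime_dvd_left (card_img_dvd E X)
  have hpE : ∀ x : E, p • x = 0 := fun x => Subtype.ext (by simpa using hp (x : V))
  obtain ⟨c, m, hvcm, hcfix, hm, -⟩ := split hpE hc v
  subst hvcm
  have hm' : (m : V) ∈ moved X := by
    have h1 := moved_le_closure hpE hc hm
    have hle : AddSubgroup.closure {w | ∃ x ∈ img E X, ∃ y, x y - y = w} ≤ (moved X).comap E.subtype := by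
      rw [AddSubgroup.closure_le]
      rintro _ ⟨x, hx, y, rfl⟩
      obtain ⟨g, hg, rfl⟩ := mem_img.1 hx
      exact closure_le_moved (AddSubgroup.subset_closure ⟨_, hg, (y : V), rfl⟩)
    exact hle h1
  have hc0 : (c : V) = 0 := by
    refine eq_zero_of_moved hp hXp ?_ fun g hg => congrArg Subtype.val (hcfix _ (mem_img.2 ⟨⟨g, hX hg⟩, hg, rfl⟩))
    have := AddSubgroup.sub_mem _ hv hm'
    simpa using this
  have : c = 0 := Subtype.ext hc0
  rw [this, zero_add]
  exact hm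

/-- Without fixed points an invariant abelian group is centralised. -/
theorem comm_of_no_fixed {p r : ℕ} (hp : ∀ x : V, p • x = 0) (hr : r.Prime) {a : Aut V} (har : a ^ r = 1)
    (hfix : ∀ v, a v = v → v = 0) {B : Subgroup (Aut V)} (haB : a ∈ normalizer (B : Set (Aut V)))
    (hBr : (Nat.card B).Coprime r) (hBp : (Nat.card B).Coprime p) (hBc : ∀ x ∈ B, ∀ y ∈ B, x * y = y * x)
    {b : Aut V} (hb : b ∈ B) : a * b = b * a := by
  obtain ⟨hle, ha, hfpf⟩ := abelian_comm_fpf hr har haB hBr hBc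
  have hXp := hBp.coprime_dvd_left (card_dvd_of_le hle)
  have hbot := generate hp har hr (fun x hx y hy => hBc x (hle hx) y (hle hy)) ha hXp hfpf (M := ⊥)
    (fun g _ w hw => by rw [AddSubgroup.mem_bot] at *; rw [hw, map_zero])
    (fun v hv _ => AddSubgroup.mem_bot.2 (hfix v hv))
  have h1 : ⁅b, a⁆ = 1 := eq_one_of_parts hp hXp
    (fun u hu => hu _ (commutator_mem_commutator hb (mem_zpowers a))) fun u hu => by
    rw [AddSubgroup.mem_bot.1 (hbot hu), map_zero]
  exact (commutatorElement_eq_one_iff_mul_comm.1 h1).symm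

/-- A minimal invariant subgroup. -/
structure Irr (W : Subgroup (Aut V)) (θ : AddSubgroup V) : Prop where
  ne : θ ≠ ⊥
  inv : ∀ w ∈ W, ∀ u ∈ θ, w u ∈ θ
  min : ∀ θ' : AddSubgroup V, θ' ≤ θ → (∀ w ∈ W, ∀ u ∈ θ', w u ∈ θ') → θ' = ⊥ ∨ θ' = θ

theorem exists_irr {W : Subgroup (Aut V)} {M : AddSubgroup V} (hM : M ≠ ⊥) (hinv : ∀ w ∈ W, ∀ u ∈ M, w u ∈ M) :
    ∃ θ, θ ≤ M ∧ Irr W θ := by
  obtain ⟨θ, ⟨hle, hne, hθ⟩, hmin⟩ :=
    (Set.toFinite {θ : AddSubgroup V | θ ≤ M ∧ θ ≠ ⊥ ∧ ∀ w ∈ W, ∀ u ∈ θ, w u ∈ θ}).exists_minimal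
      ⟨M, le_rfl, hM, hinv⟩
  refine ⟨θ, hle, hne, hθ, fun θ' hθ' hinv' => ?_⟩
  by_contra hno
  push Not at hno
  exact hno.2 (le_antisymm hθ' (hmin (y := θ') ⟨hθ'.trans hle, hno.1, hinv'⟩ hθ'))

theorem Irr.map {W : Subgroup (Aut V)} {θ : AddSubgroup V} (h : Irr W θ) {g : Aut V}
    (hg : g ∈ normalizer (W : Set (Aut V))) : Irr W (θ.map g.toLinearMap.toAddMonoidHom) := by
  have hconj : ∀ w ∈ W, g⁻¹ * w * g ∈ W := fun w hw => (mem_normalizer_iff''.1 hg w).1 hw
  refine ⟨fun e => h.ne ((AddSubgroup.eq_bot_iff_forall _).2 fun u hu => g.injective ?_), ?_, fun θ' hle hinv => ?_⟩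
  · rw [map_zero]
    exact AddSubgroup.mem_bot.1 (e ▸ AddSubgroup.mem_map.2 ⟨u, hu, rfl⟩)
  · rintro w hw _ ⟨u, hu, rfl⟩
    refine ⟨(g⁻¹ * w * g) u, h.inv _ (hconj w hw) u hu, ?_⟩
    show g ((g⁻¹ * w * g) u) = w (g u)
    rw [aut_mul, aut_mul, aut_inv_apply]
  · have hsub : θ'.comap g.toLinearMap.toAddMonoidHom ≤ θ := fun u hu => by
      obtain ⟨u₀, hu₀, e⟩ := hle (show g u ∈ θ' from hu)
      rw [show u = u₀ from (g.injective e).symm]
      exact hu₀
    have hinv' : ∀ w ∈ W, ∀ u ∈ θ'.comap g.toLinearMap.toAddMonoidHom, w u ∈ θ'.comap g.toLinearMap.toAddMonoidHom :=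
      fun w hw u hu => by
        show g (w u) ∈ θ'
        have := hinv (g * w * g⁻¹) ((mem_normalizer_iff.1 hg w).1 hw) (g u) hu
        rwa [aut_mul, aut_mul, aut_apply_inv] at this
    rcases h.min _ hsub hinv' with e | e
    · left
      refine (AddSubgroup.eq_bot_iff_forall _).2 fun u hu => ?_
      obtain ⟨u₀, hu₀, rfl⟩ := hle hu
      have : u₀ ∈ θ'.comap g.toLinearMap.toAddMonoidHom := hu
      rw [e, AddSubgroup.mem_bot] at this
      rw [this, map_zero]
    · right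
      refine le_antisymm hle ?_
      rintro _ ⟨u, hu, rfl⟩
      exact e.symm.le hu

/-- A normal subgroup fixes a minimal invariant subgroup or moves it entirely. -/
theorem Irr.dichotomy {W X : Subgroup (Aut V)} {θ : AddSubgroup V} (h : Irr W θ) (hX : X ≤ W)
    (hWX : W ≤ normalizer (X : Set (Aut V))) : θ ≤ fixed X ∨ (θ ⊓ fixed X = ⊥ ∧ θ ≤ moved X) := by
  rcases h.min (θ ⊓ fixed X) inf_le_left (fun w hw u hu => ⟨h.inv w hw u hu.1, fixed_inv (hWX hw) hu.2⟩) with e | e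
  · right
    refine ⟨e, fun u hu => ?_⟩
    haveI := Fintype.ofFinite X
    rw [mem_moved]
    have hmem : ∑ g : X, (g : Aut V) u ∈ θ ⊓ fixed X :=
      ⟨sum_mem fun g _ => h.inv g (hX g.2) u hu, fun g hg => avg_fixed u hg⟩
    rwa [e, AddSubgroup.mem_bot] at hmem
  · left
    exact e.symm.le.trans inf_le_right

/-- The kernel of the action on a subgroup. -/
def ker (W : Subgroup (Aut V)) (θ : AddSubgroup V) : Subgroup (Aut V) where
  carrier := {w | w ∈ W ∧ ∀ u ∈ θ, w u = u}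
  one_mem' := ⟨one_mem W, fun _ _ => rfl⟩
  mul_mem' := fun {x y} hx hy => ⟨mul_mem hx.1 hy.1, fun u hu => by rw [aut_mul, hy.2 u hu, hx.2 u hu]⟩
  inv_mem' := fun {x} hx => ⟨inv_mem hx.1, fun u hu => by
    conv_lhs => rw [← hx.2 u hu]
    exact aut_apply_inv x u⟩

theorem mem_ker {W : Subgroup (Aut V)} {θ : AddSubgroup V} {w : Aut V} :
    w ∈ ker W θ ↔ w ∈ W ∧ ∀ u ∈ θ, w u = u := Iff.rfl

theorem Irr.ker_norm {W : Subgroup (Aut V)} {θ : AddSubgroup V} (h : Irr W θ) :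
    W ≤ normalizer (ker W θ : Set (Aut V)) := fun w hw => norm_of_map fun x hx =>
  ⟨mul_mem (mul_mem hw hx.1) (inv_mem hw), fun u hu => by
    rw [aut_mul, aut_mul, hx.2 _ (h.inv _ (inv_mem hw) u hu), aut_inv_apply]⟩

/-- The classes of a subgroup of `W`. -/
noncomputable def classes (W X : Subgroup (Aut V)) : AddSubgroup (Vq W) where
  carrier := {x | ∃ w : W, (w : Aut V) ∈ X ∧ toQ W w = x}
  zero_mem' := ⟨1, one_mem X, toQ_one W⟩
  add_mem' := fun {x y} ⟨w, hw, e⟩ ⟨w', hw', e'⟩ => ⟨w * w', mul_mem hw hw', by rw [toQ_mul, e, e']⟩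
  neg_mem' := fun {x} ⟨w, hw, e⟩ => ⟨w⁻¹, inv_mem hw, by rw [toQ_inv, e]⟩

theorem mem_classes {W X : Subgroup (Aut V)} {x : Vq W} :
    x ∈ classes W X ↔ ∃ w : W, (w : Aut V) ∈ X ∧ toQ W w = x := Iff.rfl

theorem classes_map {W X X' : Subgroup (Aut V)} {g : normalizer (W : Set (Aut V))}
    (h : ∀ x ∈ X, (g : Aut V) * x * (g : Aut V)⁻¹ ∈ X') {x : Vq W} (hx : x ∈ classes W X) :
    qHom W g x ∈ classes W X' := by
  obtain ⟨w, hw, rfl⟩ := hx
  exact ⟨_, h _ hw, (qHom_apply W g w).symm⟩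

/-- One step: a level and a section inside it. -/
structure Step (p q r n : ℕ) (a : Aut V) (G W Y N : Subgroup (Aut V)) : Prop where
  level : Level p r (n + 1) a G
  sec : Sec q n a G W Y N

namespace Step

variable {p q r n : ℕ} {a : Aut V} {G W Y N : Subgroup (Aut V)}

theorem qp (h : Step p q r n a G W Y N) : q ≠ p := by
  haveI := Fact.mk h.sec.hq
  rintro rfl
  obtain ⟨e, he⟩ := IsPGroup.iff_card.1 h.sec.pgroup
  have he0 : e ≠ 0 := fun e0 => h.sec.W_ne (card_eq_one.1 (by rw [he, e0, pow_zero]))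
  exact h.sec.hq.ne_one (Nat.eq_one_of_dvd_coprimes h.level.top_coprime
    ((he ▸ dvd_pow_self q he0).trans (card_dvd_of_le h.sec.W_le)) dvd_rfl)

theorem rq (h : Step p q r n a G W Y N) : r ≠ q := h.sec.rq h.level.hr h.level.coprime

theorem Wp (h : Step p q r n a G W Y N) : (Nat.card W).Coprime p :=
  h.level.top_coprime.coprime_dvd_left (card_dvd_of_le h.sec.W_le)

theorem Wr (h : Step p q r n a G W Y N) : (Nat.card W).Coprime r :=
  h.level.coprime.coprime_dvd_left (card_dvd_of_le h.sec.W_G)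

theorem Yr (h : Step p q r n a G W Y N) : (Nat.card Y).Coprime r :=
  h.level.coprime.coprime_dvd_left (card_dvd_of_le ((h.sec.Y_le.trans (res_le_self N n)).trans h.sec.N_le))

theorem aY (h : Step p q r n a G W Y N) : a ∈ normalizer (Y : Set (Aut V)) := norm_of_map fun y hy => by
  refine h.sec.Y_mem _ ((mem_normalizer_iff.1 (res_norm h.sec.a_N n) y).1 (h.sec.Y_le hy)) ?_
  rw [show a * y * a⁻¹ = MulAut.conj a y from rfl, MulEquiv.orderOf_eq]
  exact h.sec.Y_q.coprime_dvd_left (Subgroup.orderOf_dvd_natCard Y hy)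

/-- The moved centre. -/
noncomputable abbrev X1 (a : Aut V) (W : Subgroup (Aut V)) : Subgroup (Aut V) :=
  ⁅W ⊓ centralizer (W : Set (Aut V)), zpowers a⁆

/-- The moved part of the section. -/
noncomputable abbrev X2 (a : Aut V) (W : Subgroup (Aut V)) : Subgroup (Aut V) := ⁅W, zpowers a⁆

theorem centre_norm {W : Subgroup (Aut V)} {y : Aut V} (hy : y ∈ normalizer (W : Set (Aut V))) :
    y ∈ normalizer ((W ⊓ centralizer (W : Set (Aut V)) : Subgroup (Aut V)) : Set (Aut V)) := by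
  refine norm_of_map fun z hz => ⟨(mem_normalizer_iff.1 hy z).1 hz.1, mem_centralizer_iff.2 fun w hw => ?_⟩
  have := mem_centralizer_iff.1 hz.2 _ ((mem_normalizer_iff''.1 hy w).1 hw)
  calc w * (y * z * y⁻¹) = y * ((y⁻¹ * w * y) * z) * y⁻¹ := by group
    _ = y * (z * (y⁻¹ * w * y)) * y⁻¹ := by rw [this]
    _ = y * z * y⁻¹ * w := by group

theorem X1_spec (h : Step p q r n a G W Y N) :
    X1 a W ≤ W ⊓ centralizer (W : Set (Aut V)) ∧ a ∈ normalizer (X1 a W : Set (Aut V)) ∧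
      ∀ x ∈ X1 a W, a * x = x * a → x = 1 :=
  abelian_comm_fpf h.level.hr h.level.apow (centre_norm h.sec.a_W)
    (h.Wr.coprime_dvd_left (card_dvd_of_le inf_le_left)) fun x hx y hy => mem_centralizer_iff.1 hy.2 x hx.1

theorem X2_le (h : Step p q r n a G W Y N) : X2 a W ≤ W :=
  Coprime.commutator_le_of_le_normalizer (zpowers_le.2 h.sec.a_W)

theorem X2_norm (h : Step p q r n a G W Y N) : W ≤ normalizer (X2 a W : Set (Aut V)) :=
  Subgroup.normalizer_commutator_ge_left W (zpowers a)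

theorem X2_gen (h : Step p q r n a G W Y N) : ⁅X2 a W, zpowers a⁆ = X2 a W :=
  Coprime.commutator_commutator_eq (zpowers_le.2 h.sec.a_W)
    (by rw [Nat.card_zpowers]; exact h.Wr.symm.coprime_dvd_left (orderOf_dvd_of_pow_eq_one h.level.apow))
    (Or.inl (Coprime.isSolvable_of_isMulCommutative _))

theorem X1_norm (h : Step p q r n a G W Y N) : W ≤ normalizer (X1 a W : Set (Aut V)) := fun w hw =>
  norm_of_map fun x hx => by
    rwa [mem_centralizer_iff.1 (h.X1_spec.1 hx).2 w hw, mul_inv_cancel_right]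

/-- Decomposition of an element of `W`. -/
theorem decompose (h : Step p q r n a G W Y N) {w : Aut V} (hw : w ∈ W) :
    ∃ c ∈ W, a * c = c * a ∧ ∃ x ∈ X2 a W, w = c * x := by
  obtain ⟨c, hc, x, hx, e⟩ := Coprime.exists_eq_centralizer_mul_commutator (zpowers_le.2 h.sec.a_W)
    (by rw [Nat.card_zpowers]; exact h.Wr.symm.coprime_dvd_left (orderOf_dvd_of_pow_eq_one h.level.apow))
    (Or.inl (Coprime.isSolvable_of_isMulCommutative _)) hw
  exact ⟨c, hc.1, mem_centralizer_iff.1 hc.2 a (mem_zpowers a), x, hx, e⟩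

/-- A fixed element commutes with the moved part modulo the moved centre. -/
theorem comm_fixed (h : Step p q r n a G W Y N) {w : Aut V} (hw : w ∈ W) (hwa : a * w = w * a) {x : Aut V}
    (hx : x ∈ X2 a W) : ⁅w, x⁆ ∈ X1 a W := by
  have hadd : ∀ x ∈ W, ∀ y ∈ W, ⁅w, x * y⁆ = ⁅w, x⁆ * ⁅w, y⁆ := fun x hx y hy => by
    rw [show ⁅w, x * y⁆ = ⁅w, x⁆ * (x * ⁅w, y⁆ * x⁻¹) by simp only [commutatorElement_def]; group,
      mem_centralizer_iff.1 (h.sec.class2 w hw y hy) x hx, mul_inv_cancel_right]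
  let S : Subgroup (Aut V) :=
    { carrier := {x | x ∈ W ∧ ⁅w, x⁆ ∈ X1 a W}
      one_mem' := ⟨one_mem W, by rw [commutatorElement_one_right]; exact one_mem _⟩
      mul_mem' := fun {x y} hx hy => ⟨mul_mem hx.1 hy.1, by rw [hadd x hx.1 y hy.1]; exact mul_mem hx.2 hy.2⟩
      inv_mem' := fun {x} hx => ⟨inv_mem hx.1, by
        have e := hadd x hx.1 x⁻¹ (inv_mem hx.1)
        rw [mul_inv_cancel, commutatorElement_one_right] at e
        rw [eq_inv_of_mul_eq_one_right e.symm]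
        exact inv_mem hx.2⟩ }
  have hle : X2 a W ≤ S := by
    rw [Subgroup.commutator_le]
    intro v hv g hg
    obtain ⟨j, rfl⟩ := mem_zpowers_iff.1 hg
    have hgW : a ^ j ∈ normalizer (W : Set (Aut V)) := zpow_mem h.sec.a_W j
    have hv' : a ^ j * v⁻¹ * (a ^ j)⁻¹ ∈ W := (mem_normalizer_iff.1 hgW _).1 (inv_mem hv)
    have e : ⁅v, a ^ j⁆ = v * (a ^ j * v⁻¹ * (a ^ j)⁻¹) := by rw [commutatorElement_def]; group
    refine ⟨by rw [e]; exact mul_mem hv hv', ?_⟩
    have hcw : Commute (a ^ j) w := (show Commute a w from hwa).zpow_left j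
    have e2 : ⁅w, a ^ j * v⁻¹ * (a ^ j)⁻¹⁆ = a ^ j * ⁅w, v⁆⁻¹ * (a ^ j)⁻¹ := by
      have e3 : ⁅w, v⁻¹⁆ = ⁅w, v⁆⁻¹ := by
        have e4 := hadd v hv v⁻¹ (inv_mem hv)
        rw [mul_inv_cancel, commutatorElement_one_right] at e4
        exact eq_inv_of_mul_eq_one_right e4.symm
      rw [← e3]
      calc ⁅w, a ^ j * v⁻¹ * (a ^ j)⁻¹⁆ = ⁅a ^ j * w * (a ^ j)⁻¹, a ^ j * v⁻¹ * (a ^ j)⁻¹⁆ := by
            rw [hcw.eq, mul_inv_cancel_right]
        _ = a ^ j * ⁅w, v⁻¹⁆ * (a ^ j)⁻¹ := by simp only [commutatorElement_def]; group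
    rw [e, hadd v hv _ hv', e2,
      show ⁅w, v⁆ * (a ^ j * ⁅w, v⁆⁻¹ * (a ^ j)⁻¹) = ⁅⁅w, v⁆, a ^ j⁆ by rw [commutatorElement_def ⁅w, v⁆]; group]
    refine commutator_mem_commutator (Subgroup.mem_inf.2 ⟨?_, h.sec.class2 w hw v hv⟩) (zpow_mem (mem_zpowers a) j)
    rw [commutatorElement_def]; exact mul_mem (mul_mem (mul_mem hw hv) (inv_mem hw)) (inv_mem hv)
  exact (hle hx).2

/-- The elements acting badly on the section. -/
noncomputable def Nbad (a : Aut V) (W : Subgroup (Aut V)) : Subgroup (Aut V) where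
  carrier := {w | w ∈ W ∧ a * w = w * a ∧ (∀ u ∈ moved (X1 a W), w u = u) ∧
    ∀ v, a v = v → v ∈ fixed (X1 a W) → v ∈ moved (X2 a W) → w v = v}
  one_mem' := ⟨one_mem W, by rw [mul_one, one_mul], fun _ _ => rfl, fun _ _ _ _ => rfl⟩
  mul_mem' := fun {x y} ⟨hx, hxa, hx1, hx2⟩ ⟨hy, hya, hy1, hy2⟩ =>
    ⟨mul_mem hx hy, ((show Commute a x from hxa).mul_right (show Commute a y from hya)).eq,
      fun u hu => by rw [aut_mul, hy1 u hu, hx1 u hu],
      fun v h1 h2 h3 => by rw [aut_mul, hy2 v h1 h2 h3, hx2 v h1 h2 h3]⟩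
  inv_mem' := fun {x} ⟨hx, hxa, hx1, hx2⟩ =>
    ⟨inv_mem hx, (show Commute a x from hxa).inv_right.eq,
      fun u hu => by
        conv_lhs => rw [← hx1 u hu]
        exact aut_apply_inv x u,
      fun v h1 h2 h3 => by
        conv_lhs => rw [← hx2 v h1 h2 h3]
        exact aut_apply_inv x v⟩

/-- A bad fixed element lies in `Nbad`. -/
theorem bad_mem (h : Step p q r n a G W Y N) {K : AddSubgroup V} (hK : Covered a (res (n + 1) G) K) {w : Aut V}
    (hw : w ∈ W) (hwa : a * w = w * a) (hbad : ∀ v, a v = v → w v - v ∈ K) : w ∈ Nbad a W := by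
  classical
  obtain ⟨hX1, haX1, hfpf⟩ := h.X1_spec
  have hX1W : X1 a W ≤ W := hX1.trans inf_le_left
  refine ⟨hw, hwa, (abelian_bad h.level.elem h.level.apow h.level.hr
    (fun x hx y hy => mem_centralizer_iff.1 (hX1 hy).2 x (hX1W hx)) haX1
    (h.Wr.coprime_dvd_left (card_dvd_of_le hX1W)) (h.Wp.coprime_dvd_left (card_dvd_of_le hX1W)) hfpf
    (hK.mono (hX1W.trans h.sec.W_le)) hwa (h.X1_norm hw)
    (h.Wr.coprime_dvd_left (Subgroup.orderOf_dvd_natCard W hw)) hbad).1, ?_⟩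
  intro v hv hv1 hv2
  set E := fixed (X1 a W)
  have ha : a ∈ stab E := mem_stab_of_map fun x hx => fixed_inv haX1 hx
  have hW : W ≤ stab E := fun g hg => mem_stab_of_map fun x hx => fixed_inv (h.X1_norm hg) hx
  have hX2W := h.X2_le
  have hXs : X2 a W ≤ stab E := hX2W.trans hW
  haveI := Fact.mk h.sec.hq
  haveI : Group.IsNilpotent (img E (X2 a W)) :=
    (((h.sec.pgroup.to_le hX2W).comap_of_injective _ (stab E).subtype_injective).map (resE E)).isNilpotent
  obtain ⟨𝓛, hmeet, hadm⟩ := (hK.mono (hX2W.trans h.sec.W_le)).restrict ha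
  have hkey : (resE E ⟨w, hW hw⟩) ⟨v, hv1⟩ - ⟨v, hv1⟩ = 0 := by
    refine hmeet _ (Subtype.ext ?_) fun L hL => ?_
    · show a (w v - v) = w v - v
      rw [map_sub, ← aut_mul, hwa, aut_mul, hv]
    rcases hadm L hL with hKL | ⟨-, hdi⟩
    · exact hKL (hbad v hv)
    have hc : (Nat.card (img E (X2 a W))).Coprime p :=
      (h.Wp.coprime_dvd_left (card_dvd_of_le hX2W)).coprime_dvd_left (card_img_dvd E _)
    have hpE : ∀ x : E, p • x = 0 := fun x => Subtype.ext (by simpa using h.level.elem (x : V))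
    refine delta_mem (δ := (resE E ⟨w, hW hw⟩).toLinearMap.toAddMonoidHom - AddMonoidHom.id E) (a := resE E ⟨a, ha⟩)
      (K := K.comap E.subtype) h.level.hr ?_
      (img_norm (normalizer_commutator_zpowers h.sec.a_W rfl))
      ((h.Wr.coprime_dvd_left (card_dvd_of_le hX2W)).coprime_dvd_left (card_img_dvd E _))
      (img_commutator hXs (a := ⟨a, ha⟩) h.X2_gen)
      (fun x hx => torsion_mem hpE ((Nat.coprime_primes h.level.hr h.level.hp).2 h.level.rp) hx)
      ?_ ?_ (fun u hu => hbad (u : V) (congrArg Subtype.val hu)) hdi ⟨v, hv1⟩ (Subtype.ext hv)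
      (moved_le_closure hpE hc (mem_moved_img h.level.elem hXs (h.Wp.coprime_dvd_left (card_dvd_of_le hX2W)) hv2))
    · rw [← map_pow, show (⟨a, ha⟩ : stab E) ^ r = 1 from Subtype.ext h.level.apow, map_one]
    · intro x hx u
      obtain ⟨g, hg, rfl⟩ := mem_img.1 hx
      refine Subtype.ext ?_
      show w ((g : Aut V) (u : V)) - (g : Aut V) u = (g : Aut V) (w u - u)
      have h1 : ⁅w, (g : Aut V)⁆ ((g : Aut V) (w (u : V))) = (g : Aut V) (w (u : V)) :=
        ((g.2 _).2 ((hW hw _).2 u.2) : (g : Aut V) (w (u : V)) ∈ E) _ (h.comm_fixed hw hwa hg)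
      rw [commutatorElement_def, aut_mul, aut_mul, aut_mul, aut_apply_inv, aut_apply_inv] at h1
      rw [map_sub, h1]
    · intro u
      refine Subtype.ext ?_
      show w (a (u : V)) - a u = a (w u - u)
      rw [map_sub, ← aut_mul, ← hwa, aut_mul]
  exact sub_eq_zero.1 (congrArg Subtype.val hkey)

/-- The classes of the bad elements. -/
noncomputable abbrev KV (a : Aut V) (W : Subgroup (Aut V)) : AddSubgroup (Vq W) := classes W (Nbad a W)

end Step

end Cfsg.Agent.TwoLoss
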