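import Cfsg.Agent.Lib.TwoLoss.Spectrum

/-!
# A second free element commuting with the first

`u` has prime order `r`, `w` order `d`, both free on the labels. If `w` is scalar on an eigenspace of `u` then
`d = 2`, `dim M = 2 r - 1` and the eigenspace is a line.
-/

set_option autoImplicit false
set_option linter.unusedSectionVars false
set_option linter.style.haveILetI false

namespace Cfsg.Agent.TwoLoss

open Finset Module

universe uk um ua

variable {k : Type uk} [Field k] {M : Type um} [AddCommGroup M] [Module k M] [FiniteDimensional k M]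
variable {A : Type ua} [AddCommGroup A]

/-- `w` is scalar on the subspace `S`. -/
def ScalarOn (w : (Module.End k M)ˣ) (S : Submodule k M) : Prop :=
  ∃ c : k, ∀ x ∈ S, (w : Module.End k M) x = c • x

/-- The two commuting free elements. -/
structure FreePair (ρ : A → Module.End k M) (r d : ℕ) (ω : k) (u w : (Module.End k M)ˣ)
    (α η : A ≃ₗ[ℤ] A) : Prop where
  weyl : IsWeyl ρ
  prime : r.Prime
  root : IsPrimitiveRoot ω r
  upow : u ^ r = 1
  wpow : w ^ d = 1
  uind : Induces ρ u α
  wind : Induces ρ w η
  ufree : Semireg α r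
  wfree : Semireg η d
  comm : Commute u w
  comm' : α * η = η * α
  coprime : r.Coprime d

namespace FreePair

variable {ρ : A → Module.End k M} {r d : ℕ} {ω : k} {u w : (Module.End k M)ˣ} {α η : A ≃ₗ[ℤ] A}

theorem maps_espace (h : FreePair ρ r d ω u w α η) (i : ℕ) {x : M} (hx : x ∈ espace u ω i) :
    (w : Module.End k M) x ∈ espace u ω i := by
  rw [mem_espace] at hx ⊢
  rw [← Module.End.mul_apply, ← Units.val_mul, h.comm.eq, Units.val_mul, Module.End.mul_apply, hx, map_smul]

theorem scalar_of_le_one (h : FreePair ρ r d ω u w α η) (i : ℕ) (hi : mult u ω i ≤ 1) :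
    ScalarOn w (espace u ω i) := by
  obtain ⟨y, hy⟩ := finrank_le_one_iff.1 hi
  by_cases hy0 : y = 0
  · refine ⟨0, fun x hx => ?_⟩
    obtain ⟨c, hc⟩ := hy ⟨x, hx⟩
    rw [hy0, smul_zero] at hc
    rw [show x = 0 by simpa using congrArg Subtype.val hc.symm]
    simp
  obtain ⟨c, hc⟩ := hy ⟨_, h.maps_espace i y.2⟩
  refine ⟨c, fun x hx => ?_⟩
  obtain ⟨t, ht⟩ := hy ⟨x, hx⟩
  have hx' : x = t • (y : M) := by simpa using congrArg Subtype.val ht.symm
  have hc' : (w : Module.End k M) y = c • (y : M) := by simpa using congrArg Subtype.val hc.symm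
  rw [hx', map_smul, hc', smul_comm]

theorem uw_pow (h : FreePair ρ r d ω u w α η) : (u * w) ^ (r * d) = 1 := by
  rw [h.comm.mul_pow, pow_mul, h.upow, one_pow, one_mul, mul_comm r d, pow_mul, h.wpow, one_pow]

theorem uw_free (h : FreePair ρ r d ω u w α η) : Semireg (α * η) (r * d) :=
  h.ufree.mul h.wfree h.comm' h.coprime

theorem pos_d (h : FreePair ρ r d ω u w α η) : 0 < d :=
  Nat.pos_of_ne_zero fun e => by
    have := h.coprime
    rw [e, Nat.coprime_zero_right] at this
    exact h.prime.ne_one this

/-- An endomorphism commuting with `u` and `w` commutes with `u * w`. -/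
theorem mem_commOf_mul (h : FreePair ρ r d ω u w α η) {X : Module.End k M}
    (hu : X ∈ commOf u) (hw : Commute (w : Module.End k M) X) : X ∈ commOf (u * w) := by
  rw [mem_commOf, Units.val_mul, mul_assoc, hw.eq, ← mul_assoc, mem_commOf.1 hu, mul_assoc]

theorem eproj_comm_u (h : FreePair ρ r d ω u w α η) (i : ℕ) : eproj u ω r i ∈ commOf u := by
  rw [mem_commOf, eproj, mul_smul_comm, smul_mul_assoc, mul_sum, sum_mul]
  exact congrArg _ (sum_congr rfl fun j _ => by
    rw [mul_smul_comm, smul_mul_assoc, ← pow_succ', ← pow_succ])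

theorem eproj_comm_w (h : FreePair ρ r d ω u w α η) (i : ℕ) :
    Commute (w : Module.End k M) (eproj u ω r i) :=
  Commute.smul_right (Commute.sum_right _ _ _ fun _ _ =>
    Commute.smul_right ((Units.val_inj.2 h.comm.eq : (↑(u * w) : Module.End k M) = ↑(w * u)) |> fun e => by
      rw [Units.val_mul, Units.val_mul] at e
      exact (show Commute (w : Module.End k M) u from e.symm).pow_right _) _) _

/-- If `w` is scalar on every eigenspace then `d = 1`. -/
theorem scalar_all (h : FreePair ρ r d ω u w α η) [Fintype A] [Nontrivial A]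
    (hs : ∀ i : Fin r, ScalarOn w (espace u ω i)) : d = 1 := by
  classical
  have hr0 := h.prime.pos
  have hle : commOf u ≤ commOf (u * w) := fun X hX => by
    refine h.mem_commOf_mul hX (LinearMap.ext fun x => ?_)
    have hx : x = ∑ i : Fin r, eproj u ω r i x := by
      rw [Fin.sum_univ_eq_sum_range (fun i => eproj u ω r i x), ← LinearMap.sum_apply,
        eproj_sum h.root hr0]
      rfl
    rw [hx, map_sum, map_sum]
    refine sum_congr rfl fun i _ => ?_
    have hmem := eproj_range h.root hr0 h.upow i x
    have hXmem : X (eproj u ω r i x) ∈ espace u ω i := by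
      rw [mem_espace, ← Module.End.mul_apply, mem_commOf.1 hX, Module.End.mul_apply, mem_espace.1 hmem, map_smul]
    obtain ⟨c, hc⟩ := hs i
    rw [Module.End.mul_apply, Module.End.mul_apply, hc _ hXmem, hc _ hmem, map_smul]
  have h1 := (h.weyl.commOf_spec hr0 h.upow h.uind h.ufree).1
  have h2 := (h.weyl.commOf_spec (Nat.mul_pos hr0 h.pos_d) h.uw_pow (h.uind.mul h.wind) h.uw_free).1
  have hF := Submodule.finrank_mono hle
  set F := finrank k (commOf u)
  set F' := finrank k (commOf (u * w))
  have hA : 2 ≤ Fintype.card A := Fintype.one_lt_card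
  have hF2 : 2 ≤ F := by
    by_contra hlt
    have : r * F ≤ r * 1 := Nat.mul_le_mul_left r (by omega)
    omega
  by_contra hd
  have hd2 : 2 ≤ d := by have := h.pos_d; omega
  have h3 : r * d * F ≤ r * d * F' := Nat.mul_le_mul_left _ hF
  nlinarith

/-- Scalars and `w` on each eigenspace give lower bounds for the joint commutant. -/
theorem le_commutant (h : FreePair ρ r d ω u w α η) (h2 : ∀ i : Fin r, mult u ω i ≤ 2)
    (h1 : ∀ i : Fin r, ScalarOn w (espace u ω i) → mult u ω i ≤ 1) :
    finrank k M ≤ finrank k (commOf (u * w)) := by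
  classical
  have hr0 := h.prime.pos
  let P := {i : Fin r // 0 < mult u ω i}
  let T := {i : Fin r // ¬ ScalarOn w (espace u ω i)}
  let g : P ⊕ T → Module.End k M :=
    Sum.elim (fun i => eproj u ω r i.1) (fun i => (w : Module.End k M) * eproj u ω r i.1)
  have hmem : ∀ j, g j ∈ commOf (u * w) := by
    rintro (i | i)
    · exact h.mem_commOf_mul (h.eproj_comm_u _) (h.eproj_comm_w _)
    · refine h.mem_commOf_mul ?_ ((Commute.refl _).mul_right (h.eproj_comm_w _))
      rw [mem_commOf]
      show (u : Module.End k M) * ((w : Module.End k M) * eproj u ω r i.1) =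
        ((w : Module.End k M) * eproj u ω r i.1) * u
      rw [← mul_assoc, ← Units.val_mul, h.comm.eq, Units.val_mul, mul_assoc, mem_commOf.1 (h.eproj_comm_u _),
        ← mul_assoc]
  have hli : LinearIndependent k g := by
    rw [Fintype.linearIndependent_iff]
    intro f hf
    rw [Fintype.sum_sum_type] at hf
    have hkey : ∀ (i : Fin r), ∀ x ∈ espace u ω i,
        (if hP : 0 < mult u ω i then f (Sum.inl ⟨i, hP⟩) else 0) • x +
          (if hT : ¬ ScalarOn w (espace u ω i) then f (Sum.inr ⟨i, hT⟩) else 0) • (w : Module.End k M) x = 0 := by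
      intro i x hx
      have := LinearMap.congr_fun hf x
      simp only [LinearMap.add_apply, LinearMap.sum_apply, LinearMap.smul_apply, g, Sum.elim_inl,
        Sum.elim_inr, Module.End.mul_apply, LinearMap.zero_apply,
        eproj_apply_eigen h.root hr0 u _ i (mem_espace.1 hx), apply_ite (w : Module.End k M), map_zero,
        smul_ite, smul_zero] at this
      refine Eq.trans ?_ this
      congr 1
      · by_cases hP : 0 < mult u ω i
        · rw [dif_pos hP, Finset.sum_eq_single (⟨i, hP⟩ : P) (fun j _ hj => if_neg fun e => hj (Subtype.ext e))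
            (by simp), if_pos rfl]
        · rw [dif_neg hP, zero_smul, Finset.sum_eq_zero fun j _ => if_neg fun e => by subst e; exact hP j.2]
      · by_cases hT : ¬ ScalarOn w (espace u ω i)
        · rw [dif_pos hT, Finset.sum_eq_single (⟨i, hT⟩ : T) (fun j _ hj => if_neg fun e => hj (Subtype.ext e))
            (by simp), if_pos rfl]
        · rw [dif_neg hT, zero_smul, Finset.sum_eq_zero fun j _ => if_neg fun e => by subst e; exact hT j.2]
    have hT0 : ∀ i : T, f (Sum.inr i) = 0 := fun i => by
      by_contra hne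
      apply i.2
      refine ⟨-(f (Sum.inr i))⁻¹ * (if hP : 0 < mult u ω i.1 then f (Sum.inl ⟨i.1, hP⟩) else 0), fun x hx => ?_⟩
      have := hkey i.1 x hx
      rw [dif_pos i.2, add_eq_zero_iff_eq_neg] at this
      rw [mul_smul, this, smul_neg, neg_smul, neg_neg, inv_smul_smul₀ hne]
    rintro (i | i)
    · obtain ⟨x, hx, hx0⟩ : ∃ x ∈ espace u ω i.1, x ≠ (0 : M) := by
        by_contra hno
        push Not at hno
        have h0 : espace u ω i.1 = ⊥ := (Submodule.eq_bot_iff _).2 hno
        have := i.2
        rw [mult, h0, finrank_bot] at this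
        exact lt_irrefl 0 this
      have := hkey i.1 x hx
      rw [dif_pos i.2] at this
      by_cases hT : ¬ ScalarOn w (espace u ω i.1)
      · rw [dif_pos hT, hT0 ⟨_, hT⟩, zero_smul, add_zero] at this
        exact (smul_eq_zero.1 this).resolve_right hx0
      · rw [dif_neg hT, zero_smul, add_zero] at this
        exact (smul_eq_zero.1 this).resolve_right hx0
    · exact hT0 i
  have hle := (LinearIndependent.of_comp (commOf (u * w)).subtype
    (v := fun j => (⟨g j, hmem j⟩ : commOf (u * w))) hli).fintype_card_le_finrank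
  refine le_trans ?_ hle
  rw [← (mult_spec h.root hr0 h.upow).1, Fintype.card_sum, Fintype.card_subtype, Fintype.card_subtype,
    card_filter, card_filter, ← sum_add_distrib]
  refine sum_le_sum fun i _ => ?_
  by_cases hT : ScalarOn w (espace u ω i)
  · have := h1 i hT
    split_ifs <;> omega
  · have := h2 i
    split_ifs <;> omega

/-- The bound on the orders. -/
theorem order_le (h : FreePair ρ r d ω u w α η) [Fintype A] [Nontrivial A]
    (h2 : ∀ i : Fin r, mult u ω i ≤ 2) (h1 : ∀ i : Fin r, ScalarOn w (espace u ω i) → mult u ω i ≤ 1) :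
    r * d ≤ finrank k M + 1 := by
  have hF := h.le_commutant h2 h1
  have h3 := (h.weyl.commOf_spec (Nat.mul_pos h.prime.pos h.pos_d) h.uw_pow (h.uind.mul h.wind) h.uw_free).1
  rw [← h.weyl.card_eq] at h3
  have hA : 2 ≤ finrank k M ^ 2 := by rw [h.weyl.card_eq]; exact Fintype.one_lt_card
  by_contra hlt
  have h4 : r * d * finrank k M ≤ r * d * finrank k (commOf (u * w)) := Nat.mul_le_mul_left _ hF
  have hQ : 2 ≤ finrank k M := by nlinarith
  nlinarith

/-- **Scalar blocks are exceptional.** -/
theorem scalar_block (h : FreePair ρ r d ω u w α η) [IsAlgClosed k] [Fintype A] [Nontrivial A]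
    (hd : d.Prime) {i : Fin r} (hi : 0 < mult u ω i) (hs : ScalarOn w (espace u ω i)) :
    d = 2 ∧ finrank k M + 1 = 2 * r ∧ mult u ω i = 1 := by
  classical
  have hr0 := h.prime.pos
  have hN : 2 ≤ r * d := le_trans h.prime.two_le (Nat.le_mul_of_pos_right r hd.pos)
  haveI : NeZero r := ⟨h.prime.ne_zero⟩
  have hrk : (r : k) ≠ 0 := (h.root.neZero').out
  obtain ⟨c, hc⟩ := hs
  by_cases hdk : (d : k) = 0
  · -- the characteristic is `d`
    have key : ∀ j : Fin r, ScalarOn w (espace u ω j) → mult u ω j ≤ 1 := by
      rintro j ⟨c, hc⟩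
      set e := eproj u ω r j
      set ν := ω ^ (j : ℕ) * c
      have heig : ∀ x, ((u * w : (Module.End k M)ˣ) : Module.End k M) (e x) = ν • e x := fun x => by
        have hm := eproj_range h.root hr0 h.upow j x
        rw [Units.val_mul, Module.End.mul_apply, hc _ hm, map_smul, mem_espace.1 hm, smul_smul, mul_comm]
      have hUe : ∀ n, ((u * w : (Module.End k M)ˣ) : Module.End k M) ^ n * e = ν ^ n • e := by
        intro n
        induction n with
        | zero => simp
        | succ n ih =>
          rw [pow_succ', mul_assoc, ih, mul_smul_comm, pow_succ ν, mul_smul]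
          exact congrArg _ (LinearMap.ext heig)
      have heU : ∀ n, e * ((u * w : (Module.End k M)ˣ) : Module.End k M) ^ n = ν ^ n • e := fun n => by
        rw [← hUe]
        refine (Commute.pow_left ?_ n).symm.eq
        rw [Units.val_mul]
        exact Commute.mul_left (mem_commOf.1 (h.eproj_comm_u _)) (h.eproj_comm_w _)
      have hexe : ∀ X, ∃ c' : k, e * X * e = c' • e := by
        intro X
        have hXm : e * X * e ∈ commOf (u * w) := by
          rw [mem_commOf]
          have e1 := heU 1
          have e2 := hUe 1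
          rw [pow_one, pow_one] at e1 e2
          calc ((u * w : (Module.End k M)ˣ) : Module.End k M) * (e * X * e)
              = (((u * w : (Module.End k M)ˣ) : Module.End k M) * e) * X * e := by simp only [mul_assoc]
            _ = e * X * (ν • e) := by rw [e2, smul_mul_assoc, smul_mul_assoc, mul_smul_comm]
            _ = e * X * e * ((u * w : (Module.End k M)ˣ) : Module.End k M) := by rw [mul_assoc (e * X), e1]
        obtain ⟨c', Y, hY⟩ := (h.weyl.commOf_spec (Nat.mul_pos hr0 hd.pos) h.uw_pow (h.uind.mul h.wind)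
          h.uw_free).2 _ hXm
        have he2 : e * e = e := LinearMap.ext fun x => by
          rw [Module.End.mul_apply, eproj_apply_eigen h.root hr0 u j j
            (mem_espace.1 (eproj_range h.root hr0 h.upow j x)), if_pos rfl]
        refine ⟨c', ?_⟩
        have hterm : ∀ n, e * (((u * w : (Module.End k M)ˣ) : Module.End k M) ^ n * Y *
            ((((u * w) ^ n)⁻¹ : (Module.End k M)ˣ) : Module.End k M)) * e = e * Y * e := by
          intro n
          have hinv : ν ^ n • (((((u * w) ^ n)⁻¹ : (Module.End k M)ˣ) : Module.End k M) * e) = e := by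
            rw [← mul_smul_comm, ← hUe, ← mul_assoc, ← Units.val_pow_eq_pow_val, Units.inv_mul, one_mul]
          calc e * (((u * w : (Module.End k M)ˣ) : Module.End k M) ^ n * Y *
                ((((u * w) ^ n)⁻¹ : (Module.End k M)ˣ) : Module.End k M)) * e
              = (e * ((u * w : (Module.End k M)ˣ) : Module.End k M) ^ n) * Y *
                (((((u * w) ^ n)⁻¹ : (Module.End k M)ˣ) : Module.End k M) * e) := by simp only [mul_assoc]
            _ = e * Y * (ν ^ n • (((((u * w) ^ n)⁻¹ : (Module.End k M)ˣ) : Module.End k M) * e)) := by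
                rw [heU, smul_mul_assoc, smul_mul_assoc, mul_smul_comm]
            _ = e * Y * e := by rw [hinv]
        calc e * X * e = e * (e * X * e) * e := by
              rw [← mul_assoc e (e * X) e, ← mul_assoc e e X, he2, mul_assoc (e * X) e e, he2]
          _ = c' • e + ∑ n ∈ range (r * d), e * Y * e := by
              rw [hY, mul_add, add_mul, mul_smul_comm, mul_one, smul_mul_assoc, he2, mul_sum, sum_mul]
              simp only [hterm]
          _ = c' • e := by
              rw [sum_const, card_range, ← Nat.cast_smul_eq_nsmul k, Nat.cast_mul, hdk, mul_zero,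
                zero_smul, add_zero]
      by_cases hall : ∀ y ∈ espace u ω j, y = (0 : M)
      · have : espace u ω j = ⊥ := (Submodule.eq_bot_iff _).2 hall
        rw [mult, this, finrank_bot]
        exact zero_le_one
      push Not at hall
      obtain ⟨y, hy, hy0⟩ := hall
      refine finrank_le_one ⟨y, hy⟩ fun x => ?_
      obtain ⟨φ, hφ⟩ := Module.Projective.exists_dual_eq_one k hy0
      obtain ⟨c', hc'⟩ := hexe (φ.smulRight (x : M))
      refine ⟨c', Subtype.ext ?_⟩
      have := LinearMap.congr_fun hc' y
      rw [Module.End.mul_apply, Module.End.mul_apply, LinearMap.smul_apply, LinearMap.smulRight_apply,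
        eproj_apply_eigen h.root hr0 u j j (mem_espace.1 hy), if_pos rfl, hφ, one_smul,
        eproj_apply_eigen h.root hr0 u j j (mem_espace.1 x.2), if_pos rfl] at this
      exact this.symm
    have hmi : mult u ω i = 1 := le_antisymm (key i ⟨c, hc⟩) hi
    obtain ⟨t, i₀, ht, hoth, hcase⟩ := h.weyl.pattern h.root h.prime.two_le h.upow h.uind h.ufree
    have hnot : ¬ ∀ j : Fin r, mult u ω j ≤ 1 := fun hall =>
      hd.ne_one (h.scalar_all fun j => h.scalar_of_le_one j (hall j))
    have hle2 : t ≤ 2 ∧ mult u ω i₀ ≤ 2 := by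
      by_cases e : i = i₀
      · subst e; rcases hcase with ⟨e1, _⟩ | ⟨e1, _⟩ <;> omega
      · have := hoth i e
        rcases hcase with ⟨e1, _⟩ | ⟨e1, _⟩ <;> omega
    have hb := h.order_le (fun j => by
      by_cases e : j = i₀
      · exact e ▸ hle2.2
      · rw [hoth j e]; exact hle2.1) key
    have h2r : 2 * r ≤ r * d := by rw [mul_comm 2 r]; exact Nat.mul_le_mul_left r hd.two_le
    by_cases e : i = i₀
    · subst e
      rcases hcase with ⟨e1, eQ⟩ | ⟨e1, eQ⟩
      · omega
      · have ht2 : t = 2 := by omega
        subst ht2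
        refine ⟨?_, by omega, hmi⟩
        have : r * d ≤ r * 2 := by omega
        exact le_antisymm (Nat.le_of_mul_le_mul_left this hr0) hd.two_le
    · have ht1 : t = 1 := by have := hoth i e; omega
      subst ht1
      rcases hcase with ⟨e1, eQ⟩ | ⟨e1, eQ⟩
      · exfalso
        have hr2 : r ≤ 2 := by omega
        have hr : r = 2 := le_antisymm hr2 h.prime.two_le
        subst hr
        have hd2 : d = 2 := le_antisymm (Nat.le_of_mul_le_mul_left (by omega : 2 * d ≤ 2 * 2) two_pos) hd.two_le
        have := h.coprime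
        rw [hd2] at this
        exact absurd this (by decide)
      · refine absurd (fun j => ?_) hnot
        by_cases e' : j = i₀
        · subst e'; omega
        · rw [hoth j e']
  · -- `u * w` is diagonalisable
    haveI : NeZero ((r * d : ℕ) : k) := ⟨by rw [Nat.cast_mul]; exact mul_ne_zero hrk hdk⟩
    haveI : NeZero (r * d) := ⟨by omega⟩
    obtain ⟨ζ, hζ⟩ := HasEnoughRootsOfUnity.exists_primitiveRoot k (r * d)
    obtain ⟨t, i₀, ht, hoth, hcase⟩ :=
      h.weyl.pattern hζ hN h.uw_pow (h.uind.mul h.wind) h.uw_free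
    obtain ⟨x, hx, hx0⟩ : ∃ x ∈ espace u ω i, x ≠ (0 : M) := by
      by_contra hno
      push Not at hno
      have h0 : espace u ω i = ⊥ := (Submodule.eq_bot_iff _).2 hno
      rw [mult, h0, finrank_bot] at hi
      exact lt_irrefl 0 hi
    have hcd : c ^ d = 1 := by
      have hp : ∀ n, ((w : Module.End k M) ^ n) x = c ^ n • x := by
        intro n
        induction n with
        | zero => simp
        | succ n ih => rw [pow_succ', Module.End.mul_apply, ih, map_smul, hc x hx, smul_smul, ← pow_succ]
      have := hp d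
      rw [← Units.val_pow_eq_pow_val, h.wpow, Units.val_one, Module.End.one_apply] at this
      exact smul_left_injective k hx0 (this.symm.trans (one_smul k x).symm)
    have hωN : (ω ^ (i : ℕ)) ^ (r * d) = 1 := by
      rw [← pow_mul, show (i : ℕ) * (r * d) = r * (i * d) by ring, pow_mul, h.root.pow_eq_one, one_pow]
    have hidx : ∀ ξ : k, ξ ^ d = 1 → ∃ j : Fin (r * d), ζ ^ (j : ℕ) = ω ^ (i : ℕ) * ξ := fun ξ hξ => by
      obtain ⟨j, hj, e⟩ := hζ.eq_pow_of_pow_eq_one (ξ := ω ^ (i : ℕ) * ξ) (by
        rw [mul_pow, hωN, mul_comm r d, pow_mul ξ, hξ, one_pow, mul_one])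
      exact ⟨⟨j, hj⟩, e⟩
    have hzero : ∀ ξ : k, ξ ^ d = 1 → ξ ≠ c → ∀ j : Fin (r * d), ζ ^ (j : ℕ) = ω ^ (i : ℕ) * ξ →
        mult (u * w) ζ j = 0 := by
      intro ξ hξ hξc j hj
      have hbot : espace (u * w) ζ j = ⊥ := by
        rw [Submodule.eq_bot_iff]
        intro y hy
        rw [mem_espace, hj] at hy
        have hyd : ((u : Module.End k M) ^ d) y = (ω ^ (i : ℕ)) ^ d • y := by
          have hp : ∀ n, (((u * w : (Module.End k M)ˣ) : Module.End k M) ^ n) y = (ω ^ (i : ℕ) * ξ) ^ n • y := by
            intro n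
            induction n with
            | zero => simp
            | succ n ih => rw [pow_succ', Module.End.mul_apply, ih, map_smul, hy, smul_smul, ← pow_succ]
          have := hp d
          rwa [← Units.val_pow_eq_pow_val, h.comm.mul_pow, h.wpow, mul_one, mul_pow, hξ, mul_one,
            Units.val_pow_eq_pow_val] at this
        have hmem : y ∈ espace u ω i := by
          have hy' : y = ∑ l : Fin r, eproj u ω r l y := by
            rw [Fin.sum_univ_eq_sum_range (fun l => eproj u ω r l y), ← LinearMap.sum_apply,
              eproj_sum h.root hr0]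
            rfl
          rw [hy']
          refine Submodule.sum_mem _ fun l _ => ?_
          by_cases hli : l = i
          · subst hli; exact eproj_range h.root hr0 h.upow _ y
          suffices eproj u ω r l y = 0 by rw [this]; exact zero_mem _
          set z := eproj u ω r l y with hz
          have hzm := eproj_range h.root hr0 h.upow l y
          have hz1 : ((u : Module.End k M) ^ d) z = (ω ^ (l : ℕ)) ^ d • z := by
            have hp : ∀ n, ((u : Module.End k M) ^ n) z = (ω ^ (l : ℕ)) ^ n • z := by
              intro n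
              induction n with
              | zero => simp
              | succ n ih =>
                rw [pow_succ', Module.End.mul_apply, ih, map_smul, mem_espace.1 hzm, smul_smul, ← pow_succ]
            exact hp d
          have hz2 : ((u : Module.End k M) ^ d) z = (ω ^ (i : ℕ)) ^ d • z := by
            have e := ((show Commute (u : Module.End k M) (eproj u ω r l) from
              mem_commOf.1 (h.eproj_comm_u _)).pow_left d).eq
            rw [hz, ← Module.End.mul_apply, e, Module.End.mul_apply, hyd, map_smul]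
          have h0 : ((ω ^ (l : ℕ)) ^ d - (ω ^ (i : ℕ)) ^ d) • z = 0 := by rw [sub_smul, ← hz1, ← hz2, sub_self]
          refine (smul_eq_zero.1 h0).resolve_left fun e => hli (Fin.ext ?_)
          rw [sub_eq_zero, ← pow_mul, ← pow_mul, mul_comm (l : ℕ), mul_comm (i : ℕ), pow_mul, pow_mul] at e
          exact (h.root.pow_of_coprime d h.coprime.symm).pow_inj l.2 i.2 e
        rw [Units.val_mul, Module.End.mul_apply, hc y hmem, map_smul, mem_espace.1 hmem, smul_smul,
          ← sub_eq_zero, ← sub_smul] at hy
        refine (smul_eq_zero.1 hy).resolve_left fun e => hξc ?_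
        rw [sub_eq_zero, mul_comm c] at e
        exact (mul_left_cancel₀ (pow_ne_zero _ (h.root.ne_zero h.prime.ne_zero)) e).symm
      rw [mult, hbot, finrank_bot]
    have hi0 : ∀ j, mult (u * w) ζ j = 0 → ∀ j' : Fin (r * d), (j' : ℕ) = j → j' = i₀ := fun j hj j' e => by
      by_contra hne
      have := hoth j' hne
      rw [e, hj] at this
      omega
    have huniq : ∀ ξ ξ' : k, ξ ^ d = 1 → ξ ≠ c → ξ' ^ d = 1 → ξ' ≠ c → ξ = ξ' := by
      intro ξ ξ' h1 h2 h1' h2'
      obtain ⟨j, hj⟩ := hidx ξ h1
      obtain ⟨j', hj'⟩ := hidx ξ' h1'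
      rw [hi0 _ (hzero ξ h1 h2 j hj) j rfl] at hj
      rw [hi0 _ (hzero ξ' h1' h2' j' hj') j' rfl] at hj'
      exact mul_left_cancel₀ (pow_ne_zero _ (h.root.ne_zero h.prime.ne_zero)) (hj.symm.trans hj')
    haveI : NeZero (d : k) := ⟨hdk⟩
    haveI : NeZero d := ⟨hd.ne_zero⟩
    obtain ⟨ξ₁, hξ₁⟩ := HasEnoughRootsOfUnity.exists_primitiveRoot k d
    have hroot : ∀ n : ℕ, (ξ₁ ^ n * c) ^ d = 1 := fun n => by
      rw [mul_pow, hcd, mul_one, ← pow_mul, mul_comm, pow_mul, hξ₁.pow_eq_one, one_pow]
    have hc0 : c ≠ 0 := fun e => by rw [e, zero_pow hd.ne_zero] at hcd; exact zero_ne_one hcd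
    have hd2 : d = 2 := by
      by_contra hne
      have h3 : 3 ≤ d := by have := hd.two_le; omega
      have e1 : ∀ n, 0 < n → n < d → ξ₁ ^ n * c ≠ c := fun n h0 hn e => by
        rw [mul_eq_right₀ hc0] at e
        exact hξ₁.pow_ne_one_of_pos_of_lt (by omega) hn e
      have := huniq _ _ (hroot 1) (e1 1 one_pos (by omega)) (hroot 2) (e1 2 two_pos (by omega))
      exact absurd (hξ₁.pow_inj (by omega) (by omega) (mul_right_cancel₀ hc0 this)) (by omega)
    have hne1 : ξ₁ ^ 1 * c ≠ c := fun e => by
      rw [mul_eq_right₀ hc0] at e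
      exact hξ₁.pow_ne_one_of_pos_of_lt one_ne_zero (by omega) e
    obtain ⟨j, hj⟩ := hidx _ (hroot 1)
    have hj0 := hzero _ (hroot 1) hne1 j hj
    have hji := hi0 _ hj0 j rfl
    subst hji
    have ht1 : t = 1 ∧ finrank k M + 1 = r * d := by
      rcases hcase with ⟨e1, _⟩ | ⟨e1, e2⟩
      · omega
      · have : t = 1 := by omega
        subst this
        exact ⟨rfl, by omega⟩
    refine ⟨hd2, by rw [ht1.2, hd2, mul_comm], ?_⟩
    obtain ⟨l, hl⟩ := hidx c hcd
    have hle : espace u ω i ≤ espace (u * w) ζ l := fun y hy => by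
      rw [mem_espace, Units.val_mul, Module.End.mul_apply, hc y hy, map_smul, mem_espace.1 hy, smul_smul,
        hl, mul_comm]
    have hlj : l ≠ j := fun e => by
      subst e
      exact hne1 (mul_left_cancel₀ (pow_ne_zero _ (h.root.ne_zero h.prime.ne_zero)) (hj.symm.trans hl))
    have : mult u ω i ≤ mult (u * w) ζ l := Submodule.finrank_mono hle
    rw [hoth l hlj, ht1.1] at this
    omega

end FreePair

end Cfsg.Agent.TwoLoss
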