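import Cfsg.Agent.Lib.TwoLoss.Res

/-!
# From residuals in the semidirect product to chains with nilpotent factors

The top layer of the bound for the Fitting height: the automorphism becomes an element of `G ⋊ ⟨σ⟩`.
-/

set_option autoImplicit false
set_option linter.unusedSectionVars false
set_option linter.style.haveILetI false

namespace Cfsg.Agent.TwoLoss

open Subgroup

universe u

/-- The chain form of the bound from the residual form. -/
theorem fitting_bound_of
    (hyp : ∀ {Γ : Type u} [Group Γ] [Finite Γ] (G : Subgroup Γ) (a : Γ) (r m : ℕ), r.Prime →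
      Group.IsSolvable G → a ∈ normalizer (G : Set Γ) → a ^ r = 1 → (Nat.card G).Coprime r →
      res m (G ⊓ centralizer ({a} : Set Γ)) = ⊥ → res (m + 2) G = ⊥)
    {G : Type u} [Group G] [Finite G]
    (hG : Group.IsSolvable G) (σ : MulAut G) (r : ℕ) (hr : r.Prime) (hσ : orderOf σ = r) (hcop : ¬ r ∣ Nat.card G)
    (C : Subgroup G) (hC : ∀ g : G, g ∈ C ↔ σ g = g) (n : ℕ)
    (hn : (∃ F : Fin (n + 1) → Subgroup ↥C, F 0 = ⊥ ∧ F (Fin.last n) = ⊤ ∧ Monotone F ∧ (∀ i, (F i).Normal) ∧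
      ∀ i : Fin n, ∃ k : ℕ, (F i.succ).lowerCentralSeries k ≤ F i.castSucc)) :
    (∃ F : Fin ((n + 2) + 1) → Subgroup G, F 0 = ⊥ ∧ F (Fin.last (n + 2)) = ⊤ ∧ Monotone F ∧ (∀ i, (F i).Normal) ∧
      ∀ i : Fin (n + 2), ∃ k : ℕ, (F i.succ).lowerCentralSeries k ≤ F i.castSucc) := by
  classical
  obtain ⟨F, h0, hl, -, -, hk⟩ := hn
  have hCres : res n (⊤ : Subgroup ↥C) = ⊥ := res_eq_bot_of_series F h0 hl hk
  let φ : ↥(zpowers σ) →* MulAut G := (zpowers σ).subtype
  haveI : Finite (G ⋊[φ] ↥(zpowers σ)) := Finite.of_equiv _ SemidirectProduct.equivProd.symm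
  set ι : G →* G ⋊[φ] ↥(zpowers σ) := SemidirectProduct.inl with hι
  set a : G ⋊[φ] ↥(zpowers σ) := SemidirectProduct.inr ⟨σ, mem_zpowers σ⟩ with ha
  have hinj : Function.Injective ι := SemidirectProduct.inl_injective
  have hconj : ∀ g : G, a * ι g * a⁻¹ = ι (σ g) := fun g => by
    rw [ha, ← map_inv]
    exact (SemidirectProduct.inl_aut (φ := φ) (⟨σ, mem_zpowers σ⟩ : ↥(zpowers σ)) g).symm
  have har : a ^ r = 1 := by
    rw [ha, ← map_pow, show (⟨σ, mem_zpowers σ⟩ : ↥(zpowers σ)) ^ r = 1 from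
      Subtype.ext (by rw [SubgroupClass.coe_pow, ← hσ]; exact pow_orderOf_eq_one σ), map_one]
  have hnorm : a ∈ normalizer ((ι.range : Subgroup (G ⋊[φ] ↥(zpowers σ))) : Set (G ⋊[φ] ↥(zpowers σ))) :=
    Subgroup.mem_normalizer_fintype (by
      rintro _ ⟨g, rfl⟩
      exact ⟨σ g, (hconj g).symm⟩)
  haveI := hG
  have hsol : Group.IsSolvable ι.range := Group.isSolvable_of_surjective ι.rangeRestrict_surjective
  have hcard : (Nat.card ι.range).Coprime r := by
    rw [← Nat.card_congr (MonoidHom.ofInjective hinj).toEquiv]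
    exact ((hr.coprime_iff_not_dvd).2 hcop).symm
  have hcent : ι.range ⊓ centralizer ({a} : Set (G ⋊[φ] ↥(zpowers σ))) =
      (⊤ : Subgroup ↥C).map (ι.comp C.subtype) := by
    ext x
    constructor
    · rintro ⟨⟨g, rfl⟩, hx⟩
      refine ⟨⟨g, (hC g).2 (hinj ?_)⟩, mem_top _, rfl⟩
      rw [← hconj, mem_centralizer_singleton_iff.1 hx |>.symm, mul_inv_cancel_right]
    · rintro ⟨c, -, rfl⟩
      refine ⟨⟨c, rfl⟩, mem_centralizer_singleton_iff.2 ?_⟩
      show ι c * a = a * ι c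
      have h := hconj c
      rw [(hC c).1 c.2, mul_inv_eq_iff_eq_mul] at h
      exact h.symm
  have hres := hyp ι.range a r n hr hsol hnorm har hcard (by rw [hcent, ← map_res, hCres, Subgroup.map_bot])
  rw [MonoidHom.range_eq_map, ← map_res] at hres
  exact series_of_res_eq_bot ((map_eq_bot_iff_of_injective _ hinj).1 hres)

end Cfsg.Agent.TwoLoss
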