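import Cfsg.Agent.Lib.TwoLoss.Base
import Cfsg.Agent.Lib.TwoLoss.Crux
import Cfsg.Agent.Lib.TwoLoss.Top

/-!
# At most two residual steps are lost
-/

set_option autoImplicit false
set_option linter.unusedSectionVars false
set_option linter.style.haveILetI false

namespace Cfsg.Agent.TwoLoss

open Subgroup
open scoped commutatorElement

universe u

section Lifts

variable {Γ : Type u} [Group Γ] [Finite Γ] {q k r : ℕ} {a : Γ} {G W Y N : Subgroup Γ}

theorem Sec.fixN_le (h : Sec q k a G W Y N) : fixG a N ≤ fixG a G := inf_le_inf_right _ h.N_le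

/-- A residual element moving a fixed class gives a residual element of `W`. -/
theorem Sec.lift_moving (h : Sec q k a G W Y N) (hr : r.Prime) (har : a ^ r = 1) (hcop : (Nat.card G).Coprime r)
    {i : ℕ} {c : Aut (Vq W)}
    (hc : c ∈ res (i + 1) (fixG (qHom W ⟨a, h.a_W⟩) (qImg W N)) ∨
      (c ∈ res i (fixG (qHom W ⟨a, h.a_W⟩) (qImg W N)) ∧ (orderOf c).Coprime q))
    {v : Vq W} (hv : qHom W ⟨a, h.a_W⟩ v = v) :
    ∃ w : W, a * (w : Γ) = w * a ∧ (w : Γ) ∈ res (i + 1) (fixG a G) ∧ toQ W w = c v - v := by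
  haveI := Fact.mk h.hq
  obtain ⟨w, hwa, rfl⟩ := qHom_lift_fixed h.pgroup (a := ⟨a, h.a_W⟩) har (hcop.coprime_dvd_left (card_dvd_of_le h.W_G)) hv
  obtain ⟨g, hgN, hgc, hmem⟩ : ∃ g : normalizer (W : Set Γ), (g : Γ) ∈ fixG a N ∧ qHom W g = c ∧
      ⁅(g : Γ), (w : Γ)⁆ ∈ res (i + 1) (fixG a G) := by
    have hwC : (w : Γ) ∈ fixG a G := mem_fixG.2 ⟨h.W_G w.2, hwa⟩
    rcases hc with hc | ⟨hc, hcq⟩
    · rw [h.res_fixG_level har hcop] at hc
      obtain ⟨g, hg, rfl⟩ := mem_qImg.1 hc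
      refine ⟨g, res_le_self _ _ hg, rfl, ?_⟩
      have hg' := res_mono h.fixN_le (i + 1) hg
      rw [show ⁅(g : Γ), (w : Γ)⁆ = (g : Γ) * ((w : Γ) * (g : Γ)⁻¹ * (w : Γ)⁻¹) by rw [commutatorElement_def]; group]
      exact mul_mem hg' ((mem_normalizer_iff.1 (le_normalizer_res _ (i + 1) hwC) _).1 (inv_mem hg'))
    · rw [h.res_fixG_level har hcop] at hc
      obtain ⟨g, hg, rfl⟩ := mem_qImg.1 hc
      obtain ⟨m, hm, hm1⟩ := exists_coprime_pow h.hq g
      have he : qHom W (g ^ m) = qHom W g := by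
        rw [map_pow, pow_eq_pow_iff_modEq.2 (hm1 _ (orderOf_map_dvd _ _) hcq), pow_one]
      have hgm : ((g ^ m : normalizer (W : Set Γ)) : Γ) ∈ res i (fixG a N) := by
        rw [SubgroupClass.coe_pow]; exact pow_mem hg m
      refine ⟨g ^ m, res_le_self _ _ hgm, he, ?_⟩
      have hgN' : ((g ^ m : normalizer (W : Set Γ)) : Γ) ∈ fixG a N := res_le_self _ _ hgm
      set R := zpowers ((g ^ m : normalizer (W : Set Γ)) : Γ) with hR
      obtain ⟨e, he'⟩ := IsPGroup.iff_card.1 (h.pgroup.to_le (inf_le_left : fixG a W ≤ W))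
      have hle : ⁅fixG a W, R⁆ ≤ res (i + 1) (fixG a G) := by
        refine commutator_le_res (inf_le_inf_right _ h.W_G) (zpowers_le.2 (res_mono h.fixN_le i hgm))
          (zpowers_le.2 (norm_of_map fun x hx => ?_)) ?_ (Or.inl (Coprime.isSolvable_of_isMulCommutative _))
        · rw [mem_fixG] at hx ⊢
          refine ⟨(mem_normalizer_iff.1 (g ^ m : normalizer (W : Set Γ)).2 x).1 hx.1, ?_⟩
          have h1 : Commute a ((g ^ m : normalizer (W : Set Γ)) : Γ) := (mem_fixG.1 hgN').2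
          exact ((h1.mul_right hx.2).mul_right h1.inv_right).eq
        · rw [Nat.card_zpowers, he', orderOf_coe]
          exact Nat.Coprime.pow_right e hm
      rw [← commutatorElement_inv]
      exact inv_mem (hle (commutator_mem_commutator (mem_fixG.2 ⟨w.2, hwa⟩) (mem_zpowers _)))
  have hm : ⁅(g : Γ), (w : Γ)⁆ ∈ W := by
    rw [commutatorElement_def]; exact mul_mem ((mem_normalizer_iff.1 g.2 w).1 w.2) (inv_mem w.2)
  refine ⟨⟨_, hm⟩, ?_, hmem, ?_⟩
  · have h1 : Commute a (g : Γ) := (mem_fixG.1 hgN).2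
    have h2 : Commute a (w : Γ) := hwa
    show a * ⁅(g : Γ), (w : Γ)⁆ = ⁅(g : Γ), (w : Γ)⁆ * a
    rw [commutatorElement_def]
    exact (((h1.mul_right h2).mul_right h1.inv_right).mul_right h2.inv_right).eq
  · rw [← hgc, qHom_apply, eq_sub_iff_add_eq, ← toQ_mul]
    congr 1
    exact Subtype.ext (show ⁅(g : Γ), (w : Γ)⁆ * (w : Γ) = g * w * (g : Γ)⁻¹ by rw [commutatorElement_def]; group)

end Lifts

variable {V : Type u} [AddCommGroup V] [Finite V]

namespace Step

variable {p q r m : ℕ} {a : Aut V} {G W Y N : Subgroup (Aut V)}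

theorem goodAt_zero (h : Step p q r 0 a G W Y N) :
    res 1 (fixG a G) ≠ ⊥ ∨ GoodAt p 1 a G 0 := by
  by_contra hno
  push Not at hno
  obtain ⟨hres, hg⟩ := hno
  simp only [GoodAt, not_forall, not_exists, not_and, not_not] at hg
  obtain ⟨K, hK, hfix⟩ := hg
  exact h.base hres hK hfix

/-- The elements moving classes move fixed points. -/
theorem goodAt_succ (h : Step p q r (m + 1) a G W Y N)
    (hgood : GoodAt q (m + 1) (qHom W ⟨a, h.sec.a_W⟩) (qImg W N) m) : GoodAt p (m + 2) a G (m + 1) := by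
  intro K hK
  have key : ∀ w : W, a * (w : Aut V) = w * a → (w : Aut V) ∈ res m (fixG a G) → toQ W w ∉ KV a W →
      ∃ c, (c ∈ res (m + 1) (fixG a G) ∨ (c ∈ res m (fixG a G) ∧ (orderOf c).Coprime p)) ∧
        ∃ v, a v = v ∧ c v - v ∉ K := by
    intro w hwa hwr hwK
    refine ⟨w, Or.inr ⟨hwr, h.Wp.coprime_dvd_left (Subgroup.orderOf_dvd_natCard W w.2)⟩, ?_⟩
    by_contra hno
    push Not at hno
    exact hwK ⟨w, h.bad_mem hK w.2 hwa hno, rfl⟩
  cases m with
  | zero =>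
    haveI := Fact.mk h.sec.hq
    obtain ⟨v, hv, hvK⟩ := hgood _ h.covered
    obtain ⟨w, hwa, rfl⟩ := qHom_lift_fixed h.sec.pgroup (a := ⟨a, h.sec.a_W⟩) h.level.apow h.Wr hv
    exact key w hwa (mem_fixG.2 ⟨h.sec.W_G w.2, hwa⟩) hvK
  | succ i =>
    obtain ⟨c, hc, v, hv, hvK⟩ := hgood _ h.covered
    obtain ⟨w, hwa, hwr, he⟩ := h.sec.lift_moving h.level.hr h.level.apow h.level.coprime hc hv
    exact key w hwa hwr (he ▸ hvK)

/-- The residual of the fixed points acts on a fixed point. -/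
theorem goodAt_crux (h : Step p q r (m + 1) a G W Y N)
    (hne : res (m + 1) (fixG (qHom W ⟨a, h.sec.a_W⟩) (qImg W N)) ≠ ⊥) :
    res (m + 2) (fixG a G) ≠ ⊥ ∨ GoodAt p (m + 2) a G (m + 1) := by
  classical
  by_contra hno
  push Not at hno
  obtain ⟨hres, hg⟩ := hno
  simp only [GoodAt, not_forall, not_exists, not_and, not_not] at hg
  obtain ⟨K, hK, hall⟩ := hg
  haveI := Fact.mk h.sec.hq
  have hWp := h.sec.pgroup
  set FN := fixG a N with hFN
  set R := Y ⊓ res (m + 1) FN with hR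
  set C1 := res m FN with hC1
  have hFNn : FN ≤ N := inf_le_left
  have hFNG : FN ≤ fixG a G := h.sec.fixN_le
  have hRC1 : R ≤ C1 := inf_le_right.trans (res1_le _)
  have hC1FN : C1 ≤ FN := res_le_self _ _
  have hRY : R ≤ Y := inf_le_left
  have hRW : R ≤ normalizer (W : Set (Aut V)) := hRY.trans h.sec.Y_norm
  have hcomm : ∀ g ∈ FN, a * g = g * a := fun g hg => (mem_fixG.1 hg).2
  have hRres : R ≤ res (m + 1) (fixG a G) := inf_le_right.trans (res_mono hFNG _)
  obtain ⟨e, he⟩ := IsPGroup.iff_card.1 hWp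
  have hRW' : (Nat.card R).Coprime (Nat.card W) :=
    he ▸ Nat.Coprime.pow_right e (h.sec.Y_q.coprime_dvd_left (card_dvd_of_le hRY))
  have hsW : Group.IsSolvable W := Coprime.isSolvable_of_isPGroup hWp
  have hfixR : ∀ w ∈ W, a * w = w * a → ∀ c ∈ R, c * w = w * c := by
    intro w hw hwa c hc
    have hQn : R ≤ normalizer (fixG a W : Set (Aut V)) := fun g hg => norm_of_map fun x hx => by
      rw [mem_fixG] at hx ⊢
      refine ⟨(mem_normalizer_iff.1 (hRW hg) x).1 hx.1, ?_⟩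
      have h1 : Commute a g := hcomm g (hC1FN (hRC1 hg))
      exact ((h1.mul_right hx.2).mul_right h1.inv_right).eq
    have hle := commutator_le_res (inf_le_inf_right _ h.sec.W_G) hRres hQn
      (hRW'.coprime_dvd_right (card_dvd_of_le inf_le_left)) (Or.inr (Coprime.isSolvable_of_le inf_le_left hsW))
    have h1 := hle (commutator_mem_commutator (mem_fixG.2 ⟨hw, hwa⟩) hc)
    rw [hres, mem_bot, commutatorElement_eq_one_iff_mul_comm] at h1
    exact h1.symm
  set W0 := ⁅W, R⁆ with hW0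
  have hW0W : W0 ≤ W := Coprime.commutator_le_of_le_normalizer hRW
  have hnW0 : ∀ g, g ∈ normalizer (W : Set (Aut V)) → g ∈ normalizer (R : Set (Aut V)) →
      g ∈ normalizer (W0 : Set (Aut V)) := fun g hgW hgR => by
    rw [← Coprime.conj_smul_eq_self_iff, hW0, Coprime.conj_smul_commutator, Coprime.conj_smul_eq_self_iff.2 hgW,
      Coprime.conj_smul_eq_self_iff.2 hgR]
  have haR : a ∈ normalizer (R : Set (Aut V)) := norm_of_map fun x hx => by
    rwa [hcomm x (hC1FN (hRC1 hx)), mul_inv_cancel_right]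
  have hC1R : ∀ g ∈ C1, g ∈ normalizer (R : Set (Aut V)) := fun g hg => norm_of_map fun x hx =>
    ⟨(mem_normalizer_iff.1 (h.sec.N_Y (hFNn (hC1FN hg))) x).1 hx.1,
      (mem_normalizer_iff.1 (le_normalizer_res _ _ (hC1FN hg)) x).1 hx.2⟩
  have hW0p : IsPGroup q W0 := hWp.to_le hW0W
  have hRq : (Nat.card R).Coprime q := h.sec.Y_q.coprime_dvd_left (card_dvd_of_le hRY)
  have hbad : ∀ c, (c ∈ res (m + 1) (fixG a G) ∨ (c ∈ res m (fixG a G) ∧ (orderOf c).Coprime p)) →
      ∀ v, a v = v → c v - v ∈ K := hall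
  have hbadz : ∀ g ∈ C1, ∀ z ∈ W0, a * z = z * a → ∀ v, a v = v → ⁅g, z⁆ v - v ∈ K := by
    intro g hg z hz hza
    refine hbad _ (Or.inr ⟨?_, ?_⟩)
    · have hzC : z ∈ fixG a G := mem_fixG.2 ⟨h.sec.W_G (hW0W hz), hza⟩
      have hg' := res_mono hFNG m hg
      rw [show ⁅g, z⁆ = g * (z * g⁻¹ * z⁻¹) by rw [commutatorElement_def]; group]
      exact mul_mem hg' ((mem_normalizer_iff.1 (le_normalizer_res _ m hzC) _).1 (inv_mem hg'))
    · have hm : ⁅g, z⁆ ∈ W0 := by
        rw [commutatorElement_def]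
        exact mul_mem ((mem_normalizer_iff.1 (hnW0 g (h.sec.N_W (hFNn (hC1FN hg))) (hC1R g hg)) z).1 hz) (inv_mem hz)
      exact h.Wp.coprime_dvd_left (Subgroup.orderOf_dvd_natCard W (hW0W hm))
  have hfc : ∀ w ∈ W0, a * w = w * a → w ∈ centralizer (W0 : Set (Aut V)) := by
    intro w hw hwa
    have hle : W0 ≤ centralizer ({w} : Set (Aut V)) := by
      rw [hW0, Subgroup.commutator_le]
      intro x hx c hc
      refine mem_centralizer_iff.2 fun g hg => ?_
      rw [Set.mem_singleton_iff.1 hg]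
      set f := ⁅w, x⁆ with hf
      have hfphi : f ∈ phi W := commutator_le_phi hWp (commutator_mem_commutator (hW0W hw) hx)
      have hcw : c * w = w * c := hfixR w (hW0W hw) hwa c hc
      have hy : w * (c * x * c⁻¹) * w⁻¹ = f * (c * x * c⁻¹) := by
        calc w * (c * x * c⁻¹) * w⁻¹ = (w * c) * x * (w * c)⁻¹ := by group
          _ = (c * w) * x * (c * w)⁻¹ := by rw [hcw]
          _ = c * f * x * c⁻¹ := by rw [hf, commutatorElement_def]; group
          _ = f * (c * x * c⁻¹) := by rw [h.sec.phiY f hfphi c (hRY hc)]; group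
      have hm : x * (c * x * c⁻¹)⁻¹ ∈ W := mul_mem hx (inv_mem ((mem_normalizer_iff.1 (hRW hc) x).1 hx))
      rw [← mul_inv_eq_iff_eq_mul,
        show w * ⁅x, c⁆ * w⁻¹ = (w * x * w⁻¹) * (w * (c * x * c⁻¹) * w⁻¹)⁻¹ by rw [commutatorElement_def]; group, hy,
        show w * x * w⁻¹ = f * x by rw [hf, commutatorElement_def]; group,
        show f * x * (f * (c * x * c⁻¹))⁻¹ = f * (x * (c * x * c⁻¹)⁻¹) * f⁻¹ by group,
        ← mem_centralizer_iff.1 (h.sec.phi_central hfphi) _ hm, mul_inv_cancel_right, commutatorElement_def]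
      group
    exact mem_centralizer_iff.2 fun x hx => ((mem_centralizer_iff.1 (hle hx)) w rfl).symm
  have hresid : (∀ g ∈ C1, ∀ c ∈ R, ∀ w ∈ W0, ⁅g, c⁆ * w = w * ⁅g, c⁆) → ∀ c ∈ R, ∀ w ∈ W0, c * w = w * c := by
    intro hc
    set M := normalizer (W0 : Set (Aut V)) with hM
    let f : M →* MulAut W0 := W0.normalizerMonoidHom
    haveI : Finite (MulAut W0) := Finite.of_injective (fun e : MulAut W0 => (e : W0 → W0)) DFunLike.coe_injective
    have hC1M : C1 ≤ M := fun g hg => hnW0 g (h.sec.N_W (hFNn (hC1FN hg))) (hC1R g hg)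
    set H := (C1.subgroupOf M).map f with hH
    have hE : res1 H = ((res (m + 1) FN).subgroupOf M).map f := by
      have h1 : res 1 (C1.subgroupOf M) = (res 1 C1).subgroupOf M := res_subgroupOf hC1M 1
      rw [hH, ← map_res1, show res1 (C1.subgroupOf M) = res 1 (C1.subgroupOf M) from rfl, h1]
      rfl
    have hA : (R.subgroupOf M).map f = ⊥ := by
      refine residual_central_eq_bot (q := q) (H := H) ?_ ?_ ?_ ?_
      · rw [hE]; exact map_mono fun x hx => hx.2
      · rintro _ ⟨c, hc', rfl⟩ _ ⟨g, hg, rfl⟩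
        rw [← commutatorElement_eq_one_iff_mul_comm, ← map_commutatorElement]
        refine MulEquiv.ext fun w => Subtype.ext ?_
        show ⁅(c : Aut V), (g : Aut V)⁆ * (w : Aut V) * ⁅(c : Aut V), (g : Aut V)⁆⁻¹ = w
        have h1 : Commute ⁅(g : Aut V), (c : Aut V)⁆ (w : Aut V) := hc _ hg _ hc' _ w.2
        rw [← commutatorElement_inv (g : Aut V), h1.inv_left.eq, mul_inv_cancel_right]
      · exact hRq.coprime_dvd_left ((card_map_dvd _ _).trans
          (Nat.card_congr (subgroupOfEquivOfLe (hRC1.trans hC1M)).toEquiv).dvd)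
      · intro x hx hxc
        rw [hE] at hx
        obtain ⟨g, hg, rfl⟩ := hx
        obtain ⟨t, ht, ht1⟩ := exists_coprime_pow h.sec.hq g
        refine ⟨g ^ t, ⟨h.sec.Y_mem _ (res_mono hFNn _ ?_) ?_, ?_⟩, ?_⟩
        · exact pow_mem hg t
        · rw [← orderOf_coe] at ht; exact ht
        · exact pow_mem hg t
        · rw [map_pow, pow_eq_pow_iff_modEq.2 (ht1 _ (orderOf_map_dvd _ _) hxc), pow_one]
    intro c hc' w hw
    have h1 : f ⟨c, hC1M (hRC1 hc')⟩ = 1 := mem_bot.1 (hA ▸ ⟨⟨c, hC1M (hRC1 hc')⟩, hc', rfl⟩)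
    have h2 : c * w * c⁻¹ = w := congrArg Subtype.val (MulEquiv.congr_fun h1 ⟨w, hw⟩)
    exact mul_inv_eq_iff_eq_mul.1 h2
  have hdata : CruxData p q r a W0 R C1 K :=
    { hp := h.level.hp, hq := h.sec.hq, hr := h.level.hr, elem := h.level.elem, qp := h.qp, rp := h.level.rp
      rq := h.rq, pgroup := hW0p, apow := h.level.apow, norm := hnW0 a h.sec.a_W haR
      class2 := fun v hv w hw => centralizer_le hW0W (h.sec.class2 v (hW0W hv) w (hW0W hw))
      le := hRC1, comm := fun g hg => hcomm g (hC1FN hg)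
      Cnorm := fun g hg => hnW0 g (h.sec.N_W (hFNn (hC1FN hg))) (hC1R g hg)
      Rq := hRq, Cr := h.level.coprime.coprime_dvd_left (card_dvd_of_le ((hC1FN.trans hFNn).trans h.sec.N_le))
      fixR := fun w hw => hfixR w (hW0W hw)
      gen := Coprime.commutator_commutator_eq hRW hRW' (Or.inr hsW)
      cov := hK.mono (hW0W.trans h.sec.W_le)
      bad := fun c hc => hbad c (Or.inl (hRres hc))
      badz := hbadz
      fixed_central := hfc
      residual := hresid }
  have hWne := hdata.crux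
  apply hne
  rw [h.sec.res_fixG_level h.level.apow h.level.coprime, eq_bot_iff]
  intro x hx
  obtain ⟨g, hg, rfl⟩ := mem_qImg.1 hx
  obtain ⟨t, ht, ht1⟩ := exists_coprime_pow h.sec.hq g
  have hgY : qHom W g ∈ qImg W Y := by
    rw [← h.sec.qImg_res_eq]; exact mem_qImg.2 ⟨g, res_mono hFNn _ hg, rfl⟩
  have heq : qHom W (g ^ t) = qHom W g := by
    rw [map_pow, pow_eq_pow_iff_modEq.2 (ht1 _ (orderOf_map_dvd _ _)
      ((h.sec.Y_q.coprime_dvd_left (qImg_card_dvd W h.sec.Y_norm)).coprime_dvd_left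
        (Subgroup.orderOf_dvd_natCard _ hgY))), pow_one]
  have hgR : ((g ^ t : normalizer (W : Set (Aut V))) : Aut V) ∈ R := by
    rw [SubgroupClass.coe_pow]
    refine ⟨h.sec.Y_mem _ (res_mono hFNn _ (pow_mem hg t)) ?_, pow_mem hg t⟩
    rw [← SubgroupClass.coe_pow, orderOf_coe]; exact ht
  rw [mem_bot, ← heq, qHom_eq_one hWp]
  intro w hw
  have h1 : ⁅w, ((g ^ t : normalizer (W : Set (Aut V))) : Aut V)⁆ ∈ W0 := commutator_mem_commutator hw hgR
  rw [hWne, mem_bot] at h1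
  rw [← commutatorElement_inv, h1, inv_one]
  exact one_mem _

end Step

/-- **A level loses nothing below.** -/
theorem level_main : ∀ (n : ℕ) {U : Type u} [AddCommGroup U] [Finite U] {p r : ℕ} {a : Aut U}
    {G : Subgroup (Aut U)}, Level p r (n + 1) a G → res (n + 1) (fixG a G) ≠ ⊥ ∨ GoodAt p (n + 1) a G n
  | 0, _, _, _, _, _, _, _, h => by
    obtain ⟨q, W, Y, N, hS⟩ := exists_sec (k := 0) h.norm h.apow h.coprime h.ne h.bot
    exact Step.goodAt_zero ⟨h, hS⟩
  | m + 1, _, _, _, _, _, _, _, h => by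
    obtain ⟨q, W, Y, N, hS⟩ := exists_sec (k := m + 1) h.norm h.apow h.coprime h.ne h.bot
    rcases level_main m (hS.level h.hr h.apow h.coprime) with h1 | h1
    · exact Step.goodAt_crux ⟨h, hS⟩ h1
    · exact Or.inr (Step.goodAt_succ ⟨h, hS⟩ h1)

/-- **The two loss bound in residual form.** -/
theorem res_two_loss {Γ : Type u} [Group Γ] [Finite Γ] (G : Subgroup Γ) (a : Γ) (r m : ℕ) (hr : r.Prime)
    (hG : Group.IsSolvable G) (ha : a ∈ normalizer (G : Set Γ)) (har : a ^ r = 1) (hcop : (Nat.card G).Coprime r)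
    (hC : res m (G ⊓ centralizer ({a} : Set Γ)) = ⊥) : res (m + 2) G = ⊥ := by
  by_contra hne
  haveI := hG
  have htop : ∀ j, res j G = (res j (⊤ : Subgroup ↥G)).map G.subtype := fun j => by
    rw [map_res, ← MonoidHom.range_eq_map, range_subtype]
  obtain ⟨n, hn, hne', hbot'⟩ := exists_exact (⊤ : Subgroup ↥G) (k := m + 2) fun e =>
    hne (by rw [htop, e, Subgroup.map_bot])
  obtain ⟨j, rfl⟩ : ∃ j, n = j + 2 := ⟨n - 2, by omega⟩
  have hne2 : res (j + 2) G ≠ ⊥ := fun e =>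
    hne' ((map_eq_bot_iff_of_injective _ G.subtype_injective).1 ((htop _).symm.trans e))
  have hbot2 : res (j + 3) G = ⊥ := by rw [htop, hbot', Subgroup.map_bot]
  obtain ⟨q, W, Y, N, hS⟩ := exists_sec (k := j + 1) ha har hcop hne2 hbot2
  haveI := Fact.mk hS.hq
  have hzero : ∀ i, m ≤ i → res i (fixG a G) = ⊥ := fun i hi => le_bot_iff.1 ((res_antitone _ hi).trans hC.le)
  rcases level_main j (hS.level hr har hcop) with h1 | h1
  · apply h1
    rw [hS.res_fixG_level har hcop, eq_bot_iff]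
    intro x hx
    obtain ⟨g, hg, rfl⟩ := mem_qImg.1 hx
    have hg' := res_mono hS.fixN_le (j + 1) hg
    rw [hzero (j + 1) (by omega), mem_bot] at hg'
    rw [mem_bot, show g = 1 from Subtype.ext hg', map_one]
  cases j with
  | zero =>
    obtain ⟨v, hv, hv0⟩ := h1 ⊥ (covered_bot _ _)
    obtain ⟨w, hwa, rfl⟩ := qHom_lift_fixed hS.pgroup (a := ⟨a, hS.a_W⟩) har (hcop.coprime_dvd_left (card_dvd_of_le hS.W_G)) hv
    refine hv0 (AddSubgroup.mem_bot.2 ((toQ_eq_zero hS.pgroup w).2 ?_))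
    have hw : (w : Γ) ∈ res 0 (fixG a G) := mem_fixG.2 ⟨hS.W_G w.2, hwa⟩
    rw [hzero 0 (by omega), mem_bot] at hw
    rw [hw]; exact one_mem _
  | succ i =>
    obtain ⟨c, hc, v, hv, hv0⟩ := h1 ⊥ (covered_bot _ _)
    obtain ⟨w, -, hwr, he⟩ := hS.lift_moving hr har hcop hc hv
    refine hv0 (AddSubgroup.mem_bot.2 (he ▸ (toQ_eq_zero hS.pgroup w).2 ?_))
    rw [hzero (i + 1) (by omega), mem_bot] at hwr
    rw [hwr]; exact one_mem _

end Cfsg.Agent.TwoLoss
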