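import Mathlib

/-!
# Almost constant multiplicities
-/

set_option autoImplicit false

namespace Cfsg.Agent.TwoLoss

open Finset

/-- A family with `card * Σ m² + 1 = (Σ m)² + card` is constant apart from one value, which differs by one. -/
theorem almost_constant {ι : Type*} [Fintype ι] [DecidableEq ι] (m : ι → ℕ)
    (hN : 2 ≤ Fintype.card ι)
    (h : Fintype.card ι * ∑ i, m i ^ 2 + 1 = (∑ i, m i) ^ 2 + Fintype.card ι) :
    ∃ (k : ℕ) (i₀ : ι), (∀ i, i ≠ i₀ → m i = k) ∧ (m i₀ = k + 1 ∨ m i₀ + 1 = k) := by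
  set N := Fintype.card ι with hNdef
  have hNpos : 0 < N := by omega
  set S := ∑ i, m i with hS
  set k := S / N with hk
  set T := S % N with hT
  set x : ι → ℤ := fun i => (m i : ℤ) - k with hx
  have hTlt : T < N := Nat.mod_lt _ hNpos
  have hsum : ∑ i, x i = (T : ℤ) := by
    have := Nat.div_add_mod S N
    rw [hx, sum_sub_distrib, sum_const, card_univ, ← hNdef, nsmul_eq_mul]
    push_cast [hS] at *
    rw [← hk, ← hT] at this
    have h2 : ((N * k + T : ℕ) : ℤ) = ((∑ i, m i : ℕ) : ℤ) := by exact_mod_cast this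
    push_cast at h2
    linarith
  have hz : (N : ℤ) * ∑ i, (m i : ℤ) ^ 2 + 1 = (∑ i, (m i : ℤ)) ^ 2 + N := by exact_mod_cast h
  have hm : ∀ i, (m i : ℤ) = x i + k := fun i => by simp [hx]
  have hinv : (N : ℤ) * ∑ i, x i ^ 2 + 1 = (T : ℤ) ^ 2 + N := by
    have e1 : ∑ i, (m i : ℤ) ^ 2 = ∑ i, x i ^ 2 + 2 * k * T + N * (k : ℤ) ^ 2 := by
      simp only [hm, add_sq, sum_add_distrib, sum_const, card_univ, ← hNdef, nsmul_eq_mul]
      rw [← sum_mul, ← mul_sum, hsum]
      ring
    have e2 : ∑ i, (m i : ℤ) = T + N * k := by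
      simp only [hm, sum_add_distrib, sum_const, card_univ, ← hNdef, nsmul_eq_mul, hsum]
    rw [e1, e2] at hz
    linarith [hz]
  have hge : (T : ℤ) ≤ ∑ i, x i ^ 2 := by
    rw [← hsum]
    exact sum_le_sum fun i _ => Int.le_self_sq (x i)
  have hmul := mul_le_mul_of_nonneg_left hge (Int.natCast_nonneg N)
  have hcases : T = 0 ∨ T = 1 ∨ T + 1 = N := by
    by_contra hne
    push Not at hne
    have h1 : (2 : ℤ) ≤ T := by exact_mod_cast (show 2 ≤ T by omega)
    have h2 : (T : ℤ) + 2 ≤ N := by exact_mod_cast (show T + 2 ≤ N by omega)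
    nlinarith
  rcases hcases with hc | hc | hc
  · exfalso
    rw [hc] at hinv
    push_cast at hinv
    have h2 : (2 : ℤ) ≤ N := by exact_mod_cast hN
    have h0 : (0 : ℤ) ≤ ∑ i, x i ^ 2 := sum_nonneg fun i _ => sq_nonneg _
    rcases h0.eq_or_lt with e | e
    · rw [← e] at hinv; linarith
    · nlinarith
  · have hsq : ∑ i, x i ^ 2 = 1 := by
      rw [hc] at hinv
      push_cast at hinv
      exact mul_left_cancel₀ (show (N : ℤ) ≠ 0 by exact_mod_cast hNpos.ne') (by linarith)
    obtain ⟨i₀, hi₀⟩ : ∃ i, x i ≠ 0 := by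
      by_contra hne
      push Not at hne
      simp [hne] at hsq
    have h1 := sum_erase_add univ (fun i => x i ^ 2) (mem_univ i₀)
    have h2 : 1 ≤ x i₀ ^ 2 := by
      have := sq_pos_of_ne_zero hi₀
      omega
    have h3 : 0 ≤ ∑ i ∈ univ.erase i₀, x i ^ 2 := sum_nonneg fun i _ => sq_nonneg _
    have hz0 : ∀ i, i ≠ i₀ → x i = 0 := fun i hi => by
      have h4 : ∑ i ∈ univ.erase i₀, x i ^ 2 = 0 := by linarith [hsq, h1]
      exact pow_eq_zero_iff two_ne_zero |>.1
        ((sum_eq_zero_iff_of_nonneg fun i _ => sq_nonneg _).1 h4 i (mem_erase.2 ⟨hi, mem_univ i⟩))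
    have hx0 : x i₀ = 1 := by
      rw [← sum_erase_add _ _ (mem_univ i₀), sum_eq_zero (fun i hi => hz0 i (mem_erase.1 hi).1)] at hsum
      simpa [hc] using hsum
    refine ⟨k, i₀, fun i hi => ?_, Or.inl ?_⟩
    · have := hm i; rw [hz0 i hi] at this; omega
    · have := hm i₀; rw [hx0] at this; omega
  · have hTN : (T : ℤ) = N - 1 := by omega
    have hsq : ∑ i, x i ^ 2 = (T : ℤ) := by
      rw [hTN] at hinv ⊢
      exact mul_left_cancel₀ (show (N : ℤ) ≠ 0 by exact_mod_cast hNpos.ne') (by linarith)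
    have h01 : ∀ i, x i = 0 ∨ x i = 1 := fun i => by
      have hz : ∑ i, (x i ^ 2 - x i) = 0 := by rw [sum_sub_distrib, hsq, hsum, sub_self]
      have h2 := (sum_eq_zero_iff_of_nonneg fun i _ => sub_nonneg.2 (Int.le_self_sq (x i))).1 hz i (mem_univ i)
      have h3 : x i * (x i - 1) = 0 := by linarith [h2]
      rcases mul_eq_zero.1 h3 with e | e
      · exact Or.inl e
      · exact Or.inr (by omega)
    obtain ⟨i₀, hi₀⟩ : ∃ i, x i = 0 := by
      by_contra hne
      push Not at hne
      have : ∀ i, x i = 1 := fun i => (h01 i).resolve_left (hne i)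
      simp [this] at hsum
      omega
    have hones : ∀ i, i ≠ i₀ → x i = 1 := by
      have hz : ∑ i ∈ univ.erase i₀, (1 - x i) = 0 := by
        rw [sum_sub_distrib, sum_const, card_erase_of_mem (mem_univ i₀), card_univ, ← hNdef,
          nsmul_eq_mul, mul_one]
        have := sum_erase_add univ x (mem_univ i₀)
        rw [hi₀, add_zero] at this
        rw [this, hsum]
        omega
      intro i hi
      have := (sum_eq_zero_iff_of_nonneg fun i _ => by rcases h01 i with e | e <;> omega).1 hz i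
        (mem_erase.2 ⟨hi, mem_univ i⟩)
      omega
    refine ⟨k + 1, i₀, fun i hi => ?_, Or.inr ?_⟩
    · have := hm i; rw [hones i hi] at this; omega
    · have := hm i₀; rw [hi₀] at this; omega

end Cfsg.Agent.TwoLoss
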