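import Cfsg.Agent.Lib.TwoLoss.Average

/-!
# Fixed and moved parts, restriction, covered subgroups

`V` has prime exponent `p`; for a subgroup `X` of order prime to `p`, `moved X` is the kernel of the sum over `X`.
-/

set_option autoImplicit false
set_option linter.unusedSectionVars false
set_option linter.style.haveILetI false

namespace Cfsg.Agent.TwoLoss

open Finset Subgroup
open scoped commutatorElement

universe u

variable {V : Type u} [AddCommGroup V] [Finite V]

/-- The kernel of the sum over `X`. -/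
noncomputable def moved (X : Subgroup (Aut V)) : AddSubgroup V :=
  haveI := Fintype.ofFinite X
  (∑ g : X, (g : Aut V).toLinearMap.toAddMonoidHom).ker

theorem mem_moved {X : Subgroup (Aut V)} [inst : Fintype X] {u : V} :
    u ∈ moved X ↔ ∑ g : X, (g : Aut V) u = 0 := by
  obtain rfl : inst = Fintype.ofFinite X := Subsingleton.elim _ _
  simp only [moved, AddMonoidHom.mem_ker, AddMonoidHom.finsetSum_apply]
  rfl

theorem bezout_smul {p : ℕ} (hp : ∀ x : V, p • x = 0) {n : ℕ} (hn : n.Coprime p) (x : V) :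
    (n.gcdA p) • (n • x) = x := by
  have h1 : (1 : ℤ) = n * n.gcdA p + p * n.gcdB p := by
    rw [← Nat.gcd_eq_gcd_ab, hn.gcd_eq_one]; rfl
  have h2 : ((p : ℤ) * n.gcdB p) • x = 0 := by
    rw [mul_comm, mul_zsmul, natCast_zsmul, hp, zsmul_zero]
  calc (n.gcdA p) • (n • x) = (n.gcdA p) • ((n : ℤ) • x) := by rw [natCast_zsmul]
    _ = (((n : ℤ) * n.gcdA p) + (p : ℤ) * n.gcdB p) • x := by
      rw [add_zsmul, h2, add_zero, ← mul_zsmul, mul_comm]
    _ = x := by rw [← h1, one_zsmul]

/-- Torsion prime to `p` does not matter. -/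
theorem torsion_mem {p : ℕ} (hp : ∀ x : V, p • x = 0) {n : ℕ} (hn : n.Coprime p) {L : AddSubgroup V} {x : V}
    (h : n • x ∈ L) : x ∈ L := by
  rw [← bezout_smul hp hn x]
  exact L.zsmul_mem h _

theorem moved_inv {X : Subgroup (Aut V)} {y : Aut V} (hy : y ∈ normalizer (X : Set (Aut V))) {u : V}
    (hu : u ∈ moved X) : y u ∈ moved X := by
  haveI := Fintype.ofFinite X
  rw [mem_moved] at hu ⊢
  have e : ∀ g : X, (g : Aut V) (y u) = y ((y⁻¹ * g * y) u) := fun g => by
    rw [aut_mul, aut_mul, aut_inv_apply]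
  simp only [e, ← map_sum]
  rw [show ∑ g : X, (y⁻¹ * (g : Aut V) * y) u = ∑ g : X, (g : Aut V) u from ?_, hu, map_zero]
  exact Fintype.sum_equiv
    { toFun := fun g : X => (⟨y⁻¹ * g * y, (mem_normalizer_iff''.1 hy g).1 g.2⟩ : X)
      invFun := fun g : X => ⟨y * g * y⁻¹, (mem_normalizer_iff.1 hy g).1 g.2⟩
      left_inv := fun g => Subtype.ext (by group)
      right_inv := fun g => Subtype.ext (by group) } _ _ fun g => rfl

theorem avg_fixed {X : Subgroup (Aut V)} [Fintype X] (u : V) {g : Aut V} (hg : g ∈ X) :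
    g (∑ x : X, (x : Aut V) u) = ∑ x : X, (x : Aut V) u := by
  rw [map_sum]
  exact Fintype.sum_equiv (Equiv.mulLeft (⟨g, hg⟩ : X)) _ _ fun x => rfl

theorem sub_mem_moved {X : Subgroup (Aut V)} [Fintype X] (u : V) {g : Aut V} (hg : g ∈ X) :
    g u - u ∈ moved X := by
  rw [mem_moved]
  simp only [map_sub, sum_sub_distrib]
  rw [sub_eq_zero]
  exact Fintype.sum_equiv (Equiv.mulRight (⟨g, hg⟩ : X)) _ _ fun x => rfl

/-- Splitting of a point. -/
theorem split {p : ℕ} (hp : ∀ x : V, p • x = 0) {X : Subgroup (Aut V)} (hX : (Nat.card X).Coprime p) (u : V) :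
    ∃ c m, u = c + m ∧ (∀ g ∈ X, g c = c) ∧ m ∈ moved X ∧
      (∀ a : Aut V, a ∈ normalizer (X : Set (Aut V)) → a u = u → a c = c ∧ a m = m) := by
  haveI := Fintype.ofFinite X
  rw [Nat.card_eq_fintype_card] at hX
  set n := Fintype.card X with hn
  set t := n.gcdA p
  set c := t • ∑ x : X, (x : Aut V) u with hc
  have hnt : ∀ w : V, t • n • w = w := bezout_smul hp hX
  have hcfix : ∀ g ∈ X, g c = c := fun g hg => by rw [hc, map_zsmul, avg_fixed u hg]
  refine ⟨c, u - c, by abel, hcfix, ?_, fun a ha hau => ?_⟩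
  · rw [mem_moved]
    simp only [map_sub, sum_sub_distrib]
    rw [sum_congr rfl fun (g : X) _ => hcfix g g.2, sum_const, card_univ, ← hn, hc, smul_comm, hnt, sub_self]
  · have h1 : a c = c := by
      have e : ∀ g : X, a ((g : Aut V) u) = (a * g * a⁻¹) u := fun g => by
        conv_rhs => rw [← hau, ← aut_mul, inv_mul_cancel_right, aut_mul]
      rw [hc, map_zsmul, map_sum]
      simp only [e]
      congr 1
      exact Fintype.sum_equiv
        { toFun := fun g : X => (⟨a * g * a⁻¹, (mem_normalizer_iff.1 ha g).1 g.2⟩ : X)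
          invFun := fun g : X => ⟨a⁻¹ * g * a, (mem_normalizer_iff''.1 ha g).1 g.2⟩
          left_inv := fun g => Subtype.ext (by group)
          right_inv := fun g => Subtype.ext (by group) } _ _ fun g => rfl
    exact ⟨h1, by rw [map_sub, hau, h1]⟩

theorem eq_zero_of_moved {p : ℕ} (hp : ∀ x : V, p • x = 0) {X : Subgroup (Aut V)}
    (hX : (Nat.card X).Coprime p) {u : V} (hm : u ∈ moved X) (hf : ∀ g ∈ X, g u = u) : u = 0 := by
  haveI := Fintype.ofFinite X
  rw [mem_moved, sum_congr rfl fun (g : X) _ => hf g g.2, sum_const, card_univ, ← Nat.card_eq_fintype_card] at hm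
  have := torsion_mem hp hX (L := ⊥) (AddSubgroup.mem_bot.2 hm)
  exact AddSubgroup.mem_bot.1 this

/-- The moved part lies in the span of the `x y - y`. -/
theorem moved_le_closure {p : ℕ} (hp : ∀ x : V, p • x = 0) {X : Subgroup (Aut V)}
    (hX : (Nat.card X).Coprime p) :
    moved X ≤ AddSubgroup.closure {w | ∃ x ∈ X, ∃ y, x y - y = w} := by
  haveI := Fintype.ofFinite X
  intro u hu
  refine torsion_mem hp hX ?_
  rw [mem_moved] at hu
  have e : Nat.card X • u = -∑ g : X, ((g : Aut V) u - u) := by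
    rw [sum_sub_distrib, hu, zero_sub, neg_neg, sum_const, card_univ, Nat.card_eq_fintype_card]
  rw [e]
  exact neg_mem (sum_mem fun g _ => AddSubgroup.subset_closure ⟨g, g.2, u, rfl⟩)

theorem closure_le_moved {X : Subgroup (Aut V)} :
    AddSubgroup.closure {w | ∃ x ∈ X, ∃ y, x y - y = w} ≤ moved X := by
  haveI := Fintype.ofFinite X
  rw [AddSubgroup.closure_le]
  rintro _ ⟨x, hx, y, rfl⟩
  exact sub_mem_moved y hx

/-- `L` is admissible for `T` and `K`. -/
def Admissible (a : Aut V) (T : Subgroup (Aut V)) (K L : AddSubgroup V) : Prop :=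
  K ≤ L ∨ ((∀ u, a u - u ∈ L) ∧ ∀ g ∈ T, (∀ u, g (a u) - g u ∈ L) ∨ ∀ k ∈ K, g k ∈ L)

/-- `K` is covered: admissible subgroups meet the fixed points in zero only. -/
def Covered (a : Aut V) (T : Subgroup (Aut V)) (K : AddSubgroup V) : Prop :=
  ∃ 𝓛 : Set (AddSubgroup V), (∀ v, a v = v → (∀ L ∈ 𝓛, v ∈ L) → v = 0) ∧ ∀ L ∈ 𝓛, Admissible a T K L

theorem Covered.mono {a : Aut V} {T X : Subgroup (Aut V)} {K : AddSubgroup V} (h : Covered a T K)
    (hX : X ≤ T) : Covered a X K := by
  obtain ⟨𝓛, h1, h2⟩ := h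
  refine ⟨𝓛, h1, fun L hL => ?_⟩
  rcases h2 L hL with h3 | ⟨h3, h4⟩
  · exact Or.inl h3
  · exact Or.inr ⟨h3, fun g hg => h4 g (hX hg)⟩

/-- Zero is covered. -/
theorem covered_bot (a : Aut V) (T : Subgroup (Aut V)) : Covered a T ⊥ :=
  ⟨{⊥}, fun _ _ h => AddSubgroup.mem_bot.1 (h ⊥ rfl), fun _ h => Or.inl (by rw [Set.mem_singleton_iff.1 h])⟩

/-- Outside the stabiliser of the classes modulo `L` the translates contain `K`. -/
theorem translate_mem {a : Aut V} {r : ℕ} {X : Subgroup (Aut V)} {L : AddSubgroup V} (har : a ^ r = 1)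
    (haX : a ∈ normalizer (X : Set (Aut V))) (hcop : (Nat.card X).Coprime r) (hLa : ∀ u, a u - u ∈ L)
    {h : Aut V} (hh : h ∈ X) (hmv : ∀ u, h (a u) - h u ∈ L) :
    ∃ s ∈ fixMod X L, ∃ c ∈ X, a * c = c * a ∧ h = s * c := by
  have hLn : ∀ n : ℕ, ∀ w ∈ L, (a ^ n) w ∈ L := fun n w hw => by
    have := add_mem (moves_not (h := 1) hLa n w) hw
    simpa using this
  set S := fixMod X L
  set A : Subgroup (Aut V) := zpowers a with hA
  have hconj : ∀ x ∈ X, a * x * a⁻¹ ∈ X := fun x hx => (mem_normalizer_iff.1 haX x).1 hx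
  have hAS : A ≤ normalizer (S : Set (Aut V)) := by
    rw [hA, zpowers_le]
    have hfwd : ∀ x ∈ S, a * x * a⁻¹ ∈ S := fun x hx => ⟨hconj x hx.1, fun w => by
      have := hLn 1 _ (hx.2 (a⁻¹ w))
      simpa [map_sub, aut_mul, aut_inv_apply] using this⟩
    exact mem_normalizer_iff_map_conj_eq.2 (eq_of_le_of_card_ge
      (by rintro _ ⟨x, hx, rfl⟩; exact hfwd x hx)
      (card_map_of_injective (MulAut.conj a).injective).ge)
  have hcA : (Nat.card A).Coprime (Nat.card S) := by
    rw [hA, Nat.card_zpowers]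
    exact (hcop.symm.coprime_dvd_left (orderOf_dvd_of_pow_eq_one har)).coprime_dvd_right
      (card_dvd_of_le fun x hx => hx.1)
  obtain ⟨s, hs, hsC⟩ := Coprime.exists_fixed_in_coset (A := A) (N := S) (k := h⁻¹) hAS hcA
    (Or.inl (Coprime.isSolvable_of_isMulCommutative A)) (fun b hb => by
      obtain ⟨n, rfl⟩ := mem_powers_iff_mem_zpowers.mpr hb
      have hy : a ^ n * h * (a ^ n)⁻¹ ∈ X := (mem_normalizer_iff.1 (pow_mem haX n) h).1 hh
      have hy' : a ^ n * h * (a ^ n)⁻¹ * h⁻¹ ∈ S := ⟨mul_mem hy (inv_mem hh), fun w => by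
        set v := (a ^ n)⁻¹ (h⁻¹ w) with hv
        have h2 : (a ^ n) (h v) - h v ∈ L := moves_not (h := 1) hLa n (h v)
        have h1 : h v - h (h⁻¹ w) ∈ L := by
          have := neg_mem (moves_not hmv n v)
          rwa [neg_sub, hv, aut_inv_apply] at this
        have h3 := add_mem h2 h1
        rw [sub_add_sub_cancel, aut_inv_apply] at h3
        simpa only [aut_mul] using h3⟩
      have := inv_mem hy'
      convert this using 1
      group)
  refine ⟨s, hs, (h⁻¹ * s)⁻¹, inv_mem (mul_mem (inv_mem hh) hs.1), ?_, by group⟩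
  have := mem_centralizer_iff.1 hsC a (mem_zpowers a)
  exact (show Commute a (h⁻¹ * s) from this).inv_right.eq

/-- **The abelian lemma, fixed points.** A commuting bad element fixes the fixed moved points. -/
theorem abelian_bad_fixed {p r : ℕ} (hp : ∀ x : V, p • x = 0) {a : Aut V} (har : a ^ r = 1)
    {X : Subgroup (Aut V)} (haX : a ∈ normalizer (X : Set (Aut V))) (hcop : (Nat.card X).Coprime r)
    (hXp : (Nat.card X).Coprime p) (hXa : ∀ x ∈ X, a * x = x * a → x = 1) {K : AddSubgroup V}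
    (hK : Covered a X K) {y : Aut V} (hya : a * y = y * a) (hy : y ∈ normalizer (X : Set (Aut V)))
    (hbad : ∀ v, a v = v → y v - v ∈ K) {v : V} (hv : a v = v) (hvm : v ∈ moved X) : y v = v := by
  classical
  haveI := Fintype.ofFinite X
  obtain ⟨𝓛, hmeet, hadm⟩ := hK
  set u := y v - v with hu
  have huK : u ∈ K := hbad v hv
  have hum : u ∈ moved X := sub_mem (moved_inv hy hvm) hvm
  refine sub_eq_zero.1 (hmeet u (by rw [hu, map_sub, ← aut_mul, hya, aut_mul, hv]) fun L hL => ?_)
  rcases hadm L hL with hKL | ⟨hLa, hdi⟩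
  · exact hKL huK
  set S := fixMod X L
  by_cases hSX : X ≤ S
  · have hle : moved X ≤ L := (moved_le_closure hp hXp).trans (by
      rw [AddSubgroup.closure_le]
      rintro _ ⟨x, hx, w, rfl⟩
      exact (hSX hx).2 w)
    exact hle hum
  have hout : ∀ g : X, (g : Aut V) ∉ S → (g : Aut V) u ∈ L := fun g hg => by
    rcases hdi g g.2 with h | h
    · obtain ⟨s, hs, c, hc, hca, e⟩ := translate_mem har haX hcop hLa g.2 h
      rw [hXa c hc hca, mul_one] at e
      exact absurd (e ▸ hs) hg
    · exact h u huK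
  rw [mem_moved, ← Finset.sum_filter_add_sum_filter_not univ (fun g : X => (g : Aut V) ∈ S)] at hum
  have h1 : ∑ g ∈ univ.filter (fun g : X => ¬ (g : Aut V) ∈ S), (g : Aut V) u ∈ L :=
    sum_mem fun g hg => hout g (mem_filter.1 hg).2
  have h2 : ∑ g ∈ univ.filter (fun g : X => (g : Aut V) ∈ S), ((g : Aut V) u - u) ∈ L :=
    sum_mem fun g hg => (mem_filter.1 hg).2.2 u
  rw [sum_sub_distrib, sum_const, eq_neg_of_add_eq_zero_left hum] at h2
  have h3 := sub_mem (neg_mem h1) h2
  rw [sub_sub_cancel] at h3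
  refine torsion_mem hp ?_ h3
  have hS : (univ.filter fun g : X => (g : Aut V) ∈ S).card = Nat.card S := by
    rw [← Fintype.card_subtype, ← Nat.card_eq_fintype_card]
    exact Nat.card_congr
      { toFun := fun g => ⟨g.1.1, g.2⟩, invFun := fun s => ⟨⟨s.1, s.2.1⟩, s.2⟩,
        left_inv := fun g => rfl, right_inv := fun s => rfl }
  rw [hS]
  exact hXp.coprime_dvd_left (card_dvd_of_le fun x hx => hx.1)

/-- Translates of fixed points span the moved part of a fixed point free abelian group. -/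
theorem generate {p r : ℕ} (hp : ∀ x : V, p • x = 0) {a : Aut V} (har : a ^ r = 1) (hr : r.Prime)
    {X : Subgroup (Aut V)} (hXc : ∀ x ∈ X, ∀ y ∈ X, x * y = y * x) (haX : a ∈ normalizer (X : Set (Aut V)))
    (hXp : (Nat.card X).Coprime p) (hXa : ∀ x ∈ X, a * x = x * a → x = 1)
    {M : AddSubgroup V} (hMX : ∀ g ∈ X, ∀ w ∈ M, g w ∈ M)
    (hM : ∀ v, a v = v → v ∈ moved X → v ∈ M) : moved X ≤ M := by
  classical
  haveI := Fintype.ofFinite X
  intro u hu
  refine torsion_mem hp hXp ?_
  have hfix : ∀ g : X, (∑ k ∈ range r, (a ^ k) ((g : Aut V) u)) ∈ M := fun g => by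
    refine hM _ ?_ (sum_mem fun k _ => moved_inv (pow_mem haX k) (moved_inv (le_normalizer g.2) hu))
    rw [map_sum]
    simp only [← aut_mul, ← pow_succ', ← mul_assoc]
    have h1 := sum_range_succ' (fun k => (a ^ k * (g : Aut V)) u) r
    rw [sum_range_succ (fun k => (a ^ k * (g : Aut V)) u) r, har, pow_zero] at h1
    exact (add_right_cancel h1).symm
  have h1 : ∑ g : X, (g : Aut V)⁻¹ (∑ k ∈ range r, (a ^ k) ((g : Aut V) u)) ∈ M :=
    sum_mem fun g _ => hMX _ (inv_mem g.2) _ (hfix g)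
  simp only [map_sum] at h1
  rw [sum_comm, sum_eq_single 0] at h1
  · simpa [aut_apply_inv, Nat.card_eq_fintype_card] using h1
  · intro k hk hk0
    have hconj : ∀ g : X, a ^ k * (g : Aut V) * (a ^ k)⁻¹ ∈ X := fun g =>
      (mem_normalizer_iff.1 (pow_mem haX k) g).1 g.2
    let f : X → X := fun g => ⟨(g : Aut V)⁻¹ * (a ^ k * g * (a ^ k)⁻¹), mul_mem (inv_mem g.2) (hconj g)⟩
    have hf : Function.Injective f := by
      intro g g' e
      have e' : (g : Aut V)⁻¹ * (a ^ k * g * (a ^ k)⁻¹) = (g' : Aut V)⁻¹ * (a ^ k * g' * (a ^ k)⁻¹) :=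
        congrArg Subtype.val e
      have h0 : a ^ k * ((g : Aut V) * (g' : Aut V)⁻¹) = (g : Aut V) * (g' : Aut V)⁻¹ * a ^ k := by
        have c1 : Commute (g : Aut V)⁻¹ (g' : Aut V) := hXc _ (inv_mem g.2) _ g'.2
        have c2 : a ^ k * g * (a ^ k)⁻¹ = (g : Aut V) * (g' : Aut V)⁻¹ * (a ^ k * g' * (a ^ k)⁻¹) := by
          rw [mul_assoc (g : Aut V), ← e']; group
        rw [← mul_inv_eq_iff_eq_mul]
        calc a ^ k * ((g : Aut V) * (g' : Aut V)⁻¹) * (a ^ k)⁻¹
            = (a ^ k * g * (a ^ k)⁻¹) * (a ^ k * g' * (a ^ k)⁻¹)⁻¹ := by group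
          _ = (g : Aut V) * (g' : Aut V)⁻¹ := by rw [c2, mul_inv_cancel_right]
      obtain ⟨t, ht⟩ := Nat.exists_mul_mod_eq_one_of_coprime ((hr.coprime_iff_not_dvd.2 fun hd =>
        hk0 (Nat.eq_zero_of_dvd_of_lt hd (mem_range.1 hk))).symm) hr.one_lt
      have hak : (a ^ k) ^ t = a := by
        rw [← pow_mul, ← Nat.mod_add_div (k * t) r, ht.2, pow_add, pow_one, pow_mul, har, one_pow, mul_one]
      have h2 : a * ((g : Aut V) * (g' : Aut V)⁻¹) = (g : Aut V) * (g' : Aut V)⁻¹ * a := by
        rw [← hak]; exact ((show Commute (a ^ k) _ from h0).pow_left t).eq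
      exact Subtype.ext (mul_inv_eq_one.1 (hXa _ (mul_mem g.2 (inv_mem g'.2)) h2))
    have e : ∀ g : X, (g : Aut V)⁻¹ ((a ^ k) ((g : Aut V) u)) = ((f g : X) : Aut V) ((a ^ k) u) := fun g => by
      show _ = ((g : Aut V)⁻¹ * (a ^ k * g * (a ^ k)⁻¹)) ((a ^ k) u)
      rw [aut_mul, aut_mul, aut_mul, aut_apply_inv]
    simp only [e]
    rw [Fintype.sum_bijective f (Finite.injective_iff_bijective.1 hf) _
      (fun g => (g : Aut V) ((a ^ k) u)) fun g => rfl]
    exact mem_moved.1 (moved_inv (pow_mem haX k) hu)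
  · intro h
    exact absurd (mem_range.2 hr.pos) h

/-- **The abelian lemma.** A bad normalising element centralises and is trivial on the moved part. -/
theorem abelian_bad {p r : ℕ} (hp : ∀ x : V, p • x = 0) {a : Aut V} (har : a ^ r = 1) (hr : r.Prime)
    {X : Subgroup (Aut V)} (hXc : ∀ x ∈ X, ∀ y ∈ X, x * y = y * x)
    (haX : a ∈ normalizer (X : Set (Aut V))) (hcop : (Nat.card X).Coprime r)
    (hXp : (Nat.card X).Coprime p) (hXa : ∀ x ∈ X, a * x = x * a → x = 1) {K : AddSubgroup V}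
    (hK : Covered a X K) {y : Aut V} (hya : a * y = y * a) (hy : y ∈ normalizer (X : Set (Aut V)))
    (hyr : (orderOf y).Coprime r) (hbad : ∀ v, a v = v → y v - v ∈ K) :
    (∀ v ∈ moved X, y v = v) ∧ ∀ x ∈ X, y * x = x * y := by
  classical
  haveI := Fintype.ofFinite X
  have hfix : ∀ v, a v = v → v ∈ moved X → y v = v := fun v hv hvm =>
    abelian_bad_fixed hp har haX hcop hXp hXa hK hya hy hbad hv hvm
  have hconj : ∀ g : X, y * (g : Aut V) * y⁻¹ ∈ X := fun g => (mem_normalizer_iff.1 hy g).1 g.2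
  -- the commutators with `y` fix the fixed points of the moved part
  have hcomm : ∀ v, a v = v → v ∈ moved X → ∀ g : X, ((g : Aut V)⁻¹ * (y * g * y⁻¹)) v = v := by
    intro v hv hvm g
    set Φ : X → X := fun x => ⟨(x : Aut V)⁻¹ * (y * x * y⁻¹), mul_mem (inv_mem x.2) (hconj x)⟩ with hΦ
    have key : Fintype.card X • v = ∑ x : X, ((Φ x : X) : Aut V) v := by
      have hterm : ∀ x : X, ∑ k ∈ range r, (a ^ k * (y * (x : Aut V) * y⁻¹)) v =
          ∑ k ∈ range r, (a ^ k * (x : Aut V)) v := by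
        intro x
        set w := ∑ k ∈ range r, (a ^ k * (x : Aut V)) v with hw
        have hwm : w ∈ moved X := sum_mem fun k _ => by
          rw [aut_mul]; exact moved_inv (pow_mem haX k) (moved_inv (le_normalizer x.2) hvm)
        have hwa : a w = w := by
          rw [hw, map_sum]
          simp only [← aut_mul, ← mul_assoc, ← pow_succ']
          have h1 := sum_range_succ' (fun k => (a ^ k * (x : Aut V)) v) r
          rw [sum_range_succ (fun k => (a ^ k * (x : Aut V)) v) r, har, pow_zero] at h1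
          exact (add_right_cancel h1).symm
        have hyv : y⁻¹ v = v := by
          conv_lhs => rw [← hfix v hv hvm]
          exact aut_apply_inv y v
        conv_rhs => rw [← hfix w hwa hwm, hw, map_sum]
        refine sum_congr rfl fun k _ => ?_
        rw [aut_mul, aut_mul, aut_mul, hyv, ← aut_mul, ← aut_mul, ← aut_mul,
          ((show Commute a y from hya).pow_left k).eq, mul_assoc]
      have h1 : ∀ x : X, ∑ k ∈ range r, ((x : Aut V)⁻¹ * (a ^ k * (y * (x : Aut V) * y⁻¹))) v =
          ∑ k ∈ range r, ((x : Aut V)⁻¹ * (a ^ k * (x : Aut V))) v := by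
        intro x
        have := congrArg (fun w => (x : Aut V)⁻¹ w) (hterm x)
        simpa only [map_sum, ← aut_mul] using this
      have h2 := Fintype.sum_congr _ _ h1
      rw [sum_comm] at h2
      conv_rhs at h2 => rw [sum_comm]
      have hpk : ∀ k : ℕ, (a ^ k) v = v := fixed_pow hv
      have hz : ∀ (F : X → X), Function.Injective F → ∑ x : X, ((F x : X) : Aut V) v = 0 := fun F hF => by
        rw [Fintype.sum_bijective F (Finite.injective_iff_bijective.1 hF) _ (fun g => (g : Aut V) v) fun g => rfl]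
        exact mem_moved.1 hvm
      have hbk : ∀ k ∈ range r, k ≠ 0 →
          ∑ x : X, ((x : Aut V)⁻¹ * (a ^ k * (y * (x : Aut V) * y⁻¹))) v = 0 ∧
          ∑ x : X, ((x : Aut V)⁻¹ * (a ^ k * (x : Aut V))) v = 0 := by
        intro k hk hk0
        have inj : ∀ c : Aut V, ∀ hc : c ∈ normalizer (X : Set (Aut V)), (∀ x ∈ X, c * x * c⁻¹ = x → x = 1) →
            Function.Injective (fun x : X => (⟨(x : Aut V)⁻¹ * (c * x * c⁻¹),
              mul_mem (inv_mem x.2) ((mem_normalizer_iff.1 hc x).1 x.2)⟩ : X)) := by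
          intro c hc hfree x x' e
          have e' : (x : Aut V)⁻¹ * (c * x * c⁻¹) = (x' : Aut V)⁻¹ * (c * x' * c⁻¹) := congrArg Subtype.val e
          refine Subtype.ext (mul_inv_eq_one.1 (hfree _ (mul_mem x.2 (inv_mem x'.2)) ?_))
          calc c * ((x : Aut V) * (x' : Aut V)⁻¹) * c⁻¹ = (c * x * c⁻¹) * (c * x' * c⁻¹)⁻¹ := by group
            _ = (x : Aut V) * ((x : Aut V)⁻¹ * (c * x * c⁻¹)) * (c * x' * c⁻¹)⁻¹ := by group
            _ = (x : Aut V) * (x' : Aut V)⁻¹ := by rw [e']; group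
        obtain ⟨t, ht⟩ := Nat.exists_mul_mod_eq_one_of_coprime ((hr.coprime_iff_not_dvd.2 fun hd =>
          hk0 (Nat.eq_zero_of_dvd_of_lt hd (mem_range.1 hk))).symm) hr.one_lt
        have hak : (a ^ k) ^ t = a := by
          rw [← pow_mul, ← Nat.mod_add_div (k * t) r, ht.2, pow_add, pow_one, pow_mul, har, one_pow, mul_one]
        constructor
        · have hfree : ∀ x ∈ X, a ^ k * y * x * (a ^ k * y)⁻¹ = x → x = 1 := by
            intro x hx hxe
            refine hXa x hx ?_
            have hc : Commute (a ^ k * y) x := mul_inv_eq_iff_eq_mul.1 hxe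
            have := hc.pow_left (orderOf y)
            rw [((show Commute a y from hya).pow_left k).mul_pow, pow_orderOf_eq_one, mul_one, ← pow_mul] at this
            obtain ⟨t', ht'⟩ := Nat.exists_mul_mod_eq_one_of_coprime (n := k * orderOf y) ((hr.coprime_iff_not_dvd.2
              fun hd => hk0 (Nat.eq_zero_of_dvd_of_lt (hyr.symm.dvd_of_dvd_mul_right hd) (mem_range.1 hk))).symm)
              hr.one_lt
            have hak' : (a ^ (k * orderOf y)) ^ t' = a := by
              rw [← pow_mul, ← Nat.mod_add_div (k * orderOf y * t') r, ht'.2, pow_add, pow_one, pow_mul, har,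
                one_pow, mul_one]
            rw [← hak']; exact (this.pow_left t').eq
          have hyv : y v = v := hfix v hv hvm
          rw [← hz _ (inj (a ^ k * y) (mul_mem (pow_mem haX k) hy) hfree)]
          refine Fintype.sum_congr _ _ fun x => ?_
          show _ = ((x : Aut V)⁻¹ * (a ^ k * y * x * (a ^ k * y)⁻¹)) v
          have hv' : ((a ^ k)⁻¹ : Aut V) v = v := by
            conv_lhs => rw [← hpk k]
            exact aut_apply_inv _ v
          simp only [mul_inv_rev, aut_mul, hv']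
        · have hfree : ∀ x ∈ X, a ^ k * x * (a ^ k)⁻¹ = x → x = 1 := fun x hx hxe =>
            hXa x hx (by rw [← hak]; exact ((show Commute (a ^ k) x from mul_inv_eq_iff_eq_mul.1 hxe).pow_left t).eq)
          rw [← hz _ (inj (a ^ k) (pow_mem haX k) hfree)]
          refine Fintype.sum_congr _ _ fun x => ?_
          show _ = ((x : Aut V)⁻¹ * (a ^ k * x * (a ^ k)⁻¹)) v
          have hv' : ((a ^ k)⁻¹ : Aut V) v = v := by
            conv_lhs => rw [← hpk k]
            exact aut_apply_inv _ v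
          simp only [aut_mul, hv']
      rw [sum_eq_single 0 (fun k hk hk0 => (hbk k hk hk0).1) (fun h => absurd (mem_range.2 hr.pos) h),
        sum_eq_single 0 (fun k hk hk0 => (hbk k hk hk0).2) (fun h => absurd (mem_range.2 hr.pos) h)] at h2
      simp only [pow_zero, one_mul, inv_mul_cancel] at h2
      rw [sum_const, card_univ] at h2
      exact h2.symm
    have hgfix : ((Φ g : X) : Aut V) (∑ x : X, ((Φ x : X) : Aut V) v) = ∑ x : X, ((Φ x : X) : Aut V) v := by
      rw [map_sum]
      refine Fintype.sum_equiv (Equiv.mulLeft g) _ _ fun x => ?_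
      rw [← aut_mul]
      congr 1
      show (g : Aut V)⁻¹ * (y * g * y⁻¹) * ((x : Aut V)⁻¹ * (y * x * y⁻¹)) =
        ((g * x : X) : Aut V)⁻¹ * (y * ((g * x : X) : Aut V) * y⁻¹)
      rw [mul_assoc (g : Aut V)⁻¹, ← mul_assoc (y * g * y⁻¹), hXc _ (hconj g) _ (inv_mem x.2),
        Subgroup.coe_mul, mul_inv_rev, hXc _ (inv_mem x.2) _ (inv_mem g.2)]
      group
    rw [← key, map_nsmul] at hgfix
    have h0 : Fintype.card X • (((Φ g : X) : Aut V) v - v) = 0 := by rw [smul_sub, hgfix, sub_self]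
    refine sub_eq_zero.1 (AddSubgroup.mem_bot.1 (torsion_mem hp hXp (L := ⊥) ?_))
    rw [Nat.card_eq_fintype_card]
    exact AddSubgroup.mem_bot.2 h0
  -- commutators fix everything
  have hall : ∀ g : X, ∀ v, ((g : Aut V)⁻¹ * (y * g * y⁻¹)) v = v := by
    intro g v
    set e := (g : Aut V)⁻¹ * (y * g * y⁻¹)
    have heX : e ∈ X := mul_mem (inv_mem g.2) (hconj g)
    let M : AddSubgroup V :=
      { carrier := {w | e w = w}
        zero_mem' := map_zero e
        add_mem' := fun {x y} hx hy => (map_add e x y).trans (congrArg₂ (· + ·) hx hy)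
        neg_mem' := fun {x} hx => (map_neg e x).trans (congrArg Neg.neg hx) }
    have hM := generate hp har hr hXc haX hXp hXa (M := M) (fun x hx w hw => by
      show e (x w) = x w
      rw [← aut_mul, hXc e heX x hx, aut_mul, show e w = w from hw]) fun w hw hwm => hcomm w hw hwm g
    obtain ⟨c, m, rfl, hc, hm, -⟩ := split hp hXp v
    rw [map_add, hc e heX, show e m = m from hM hm]
  have hc : ∀ x ∈ X, y * x = x * y := fun x hx => by
    have e : x⁻¹ * (y * x * y⁻¹) = 1 := LinearEquiv.ext (hall ⟨x, hx⟩)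
    exact mul_inv_eq_iff_eq_mul.1 (inv_mul_eq_one.1 e).symm
  refine ⟨?_, hc⟩
  let M : AddSubgroup V :=
    { carrier := {w | y w = w}
      zero_mem' := map_zero y
      add_mem' := fun {x z} hx hz => (map_add y x z).trans (congrArg₂ (· + ·) hx hz)
      neg_mem' := fun {x} hx => (map_neg y x).trans (congrArg Neg.neg hx) }
  exact fun v hv => generate hp har hr hXc haX hXp hXa (M := M) (fun x hx w hw => by
    show y (x w) = x w
    rw [← aut_mul, hc x hx, aut_mul, show y w = w from hw]) hfix hv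

end Cfsg.Agent.TwoLoss
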