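import Cfsg.Agent.Lib.TwoLoss.Select
import Cfsg.Agent.Lib.TwoLoss.Split

/-!
# Levels, and the Frattini quotient of a section
-/

set_option autoImplicit false
set_option linter.unusedSectionVars false
set_option linter.style.haveILetI false

namespace Cfsg.Agent.TwoLoss

open Subgroup
open scoped commutatorElement

universe u

section Quotient

variable {Γ : Type u} [Group Γ] [Finite Γ] (W : Subgroup Γ)

/-- The Frattini quotient, written additively. -/
abbrev Vq : Type u := Additive (Abelianization (↥W ⧸ frattini ↥W))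

/-- The class of an element. -/
def toQ (w : W) : Vq W := Additive.ofMul (Abelianization.of (QuotientGroup.mk w))

theorem toQ_mul (v w : W) : toQ W (v * w) = toQ W v + toQ W w := by
  simp [toQ]

theorem toQ_one : toQ W 1 = 0 := by
  simp [toQ]

theorem toQ_inv (w : W) : toQ W w⁻¹ = -toQ W w := by
  simp [toQ]

theorem toQ_surjective : Function.Surjective (toQ W) := by
  intro a
  obtain ⟨x, hx⟩ := Quotient.exists_rep (Additive.toMul a)
  obtain ⟨w, hw⟩ := QuotientGroup.mk_surjective x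
  exact ⟨w, by rw [toQ, hw]; exact hx⟩

instance finite_vq : Finite (Vq W) := Finite.of_surjective _ (toQ_surjective W)

/-- The induced automorphism of the classes. -/
noncomputable def qAut (g : normalizer (W : Set Γ)) : Vq W ≃ₗ[ℤ] Vq W :=
  (MulEquiv.toAdditive (QuotientGroup.congr (frattini ↥W) (frattini ↥W) (W.normalizerMonoidHom g)
    (Subgroup.characteristic_iff_map_eq.1 frattini_characteristic _)).abelianizationCongr).toIntLinearEquiv

theorem qAut_apply (g : normalizer (W : Set Γ)) (w : W) :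
    qAut W g (toQ W w) = toQ W (W.normalizerMonoidHom g w) := rfl

theorem qAut_mul (g h : normalizer (W : Set Γ)) : qAut W (g * h) = qAut W g * qAut W h := by
  refine LinearEquiv.ext fun a => ?_
  obtain ⟨w, rfl⟩ := toQ_surjective W a
  rw [LinearEquiv.mul_apply, qAut_apply, qAut_apply, qAut_apply, map_mul]
  rfl

/-- The action on the classes. -/
noncomputable def qHom : normalizer (W : Set Γ) →* (Vq W ≃ₗ[ℤ] Vq W) := MonoidHom.mk' (qAut W) (qAut_mul W)

theorem qHom_apply (g : normalizer (W : Set Γ)) (w : W) :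
    qHom W g (toQ W w) = toQ W ⟨(g : Γ) * w * (g : Γ)⁻¹, (mem_normalizer_iff.1 g.2 w).1 w.2⟩ := rfl

/-- The image of a subgroup acting on `W`. -/
noncomputable def qImg (X : Subgroup Γ) : Subgroup (Vq W ≃ₗ[ℤ] Vq W) :=
  (X.subgroupOf (normalizer (W : Set Γ))).map (qHom W)

variable {W} {q : ℕ} [Fact q.Prime]

theorem mem_qImg {X : Subgroup Γ} {x : Vq W ≃ₗ[ℤ] Vq W} :
    x ∈ qImg W X ↔ ∃ g : normalizer (W : Set Γ), (g : Γ) ∈ X ∧ qHom W g = x := by
  simp only [qImg, mem_map, mem_subgroupOf]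

theorem toQ_eq_zero (hW : IsPGroup q W) (w : W) : toQ W w = 0 ↔ (w : Γ) ∈ phi W := by
  have hQ : commutator (↥W ⧸ frattini ↥W) = ⊥ := by
    haveI : Group.IsNilpotent W := hW.isNilpotent
    rw [commutator_def, eq_bot_iff, Subgroup.commutator_le]
    intro x _ y _
    obtain ⟨v, rfl⟩ := QuotientGroup.mk_surjective x
    obtain ⟨v', rfl⟩ := QuotientGroup.mk_surjective y
    rw [mem_bot]
    show ⁅QuotientGroup.mk' (frattini ↥W) v, QuotientGroup.mk' (frattini ↥W) v'⁆ = 1
    rw [← map_commutatorElement]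
    exact (QuotientGroup.eq_one_iff _).2 (Coprime.commutator_le_frattini ↥W
      (commutator_mem_commutator (mem_top _) (mem_top _)))
  rw [toQ, ofMul_eq_zero, ← MonoidHom.mem_ker, Abelianization.ker_of, hQ, mem_bot, QuotientGroup.eq_one_iff]
  constructor
  · exact fun h => ⟨w, h, rfl⟩
  · rintro ⟨x, hx, e⟩
    rwa [← Subtype.ext e]

theorem toQ_eq (hW : IsPGroup q W) (v w : W) : toQ W v = toQ W w ↔ (v : Γ)⁻¹ * w ∈ phi W := by
  rw [show (v : Γ)⁻¹ * w = ((v⁻¹ * w : W) : Γ) from rfl, ← toQ_eq_zero hW, toQ_mul, toQ_inv, neg_add_eq_zero]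

theorem elem_vq (hW : IsPGroup q W) (x : Vq W) : q • x = 0 := by
  obtain ⟨w, rfl⟩ := toQ_surjective W x
  have h : ∀ n : ℕ, n • toQ W w = toQ W (w ^ n) := by
    intro n
    induction n with
    | zero => rw [zero_smul, pow_zero, toQ_one]
    | succ n ih => rw [succ_nsmul, ih, pow_succ, toQ_mul]
  rw [h, toQ_eq_zero hW]
  exact pow_mem_phi hW w.2

theorem qHom_eq_iff (hW : IsPGroup q W) (g : normalizer (W : Set Γ)) (w : W) :
    qHom W g (toQ W w) = toQ W w ↔ ⁅(g : Γ), (w : Γ)⁆ ∈ phi W := by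
  rw [qHom_apply, eq_comm, toQ_eq hW]
  show (w : Γ)⁻¹ * ((g : Γ) * w * (g : Γ)⁻¹) ∈ _ ↔ _
  have e : ⁅(g : Γ), (w : Γ)⁆ = (w : Γ) * ((w : Γ)⁻¹ * ((g : Γ) * w * (g : Γ)⁻¹)) * (w : Γ)⁻¹ := by
    rw [commutatorElement_def]; group
  rw [e]
  exact mem_normalizer_iff.1 (phi_norm (le_normalizer w.2)) _

theorem qHom_eq_one (hW : IsPGroup q W) (g : normalizer (W : Set Γ)) :
    qHom W g = 1 ↔ ∀ w ∈ W, ⁅(g : Γ), w⁆ ∈ phi W := by
  refine ⟨fun h w hw => (qHom_eq_iff hW g ⟨w, hw⟩).1 (by rw [h]; rfl), fun h => LinearEquiv.ext fun x => ?_⟩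
  obtain ⟨w, rfl⟩ := toQ_surjective W x
  exact (qHom_eq_iff hW g w).2 (h w w.2)

/-- A fixed class contains a fixed element. -/
theorem qHom_lift_fixed (hW : IsPGroup q W) {a : normalizer (W : Set Γ)} {r : ℕ} (har : (a : Γ) ^ r = 1)
    (hcop : (Nat.card W).Coprime r) {v : Vq W} (hv : qHom W a v = v) :
    ∃ w : W, (a : Γ) * w = (w : Γ) * a ∧ toQ W w = v := by
  obtain ⟨w, rfl⟩ := toQ_surjective W v
  have h1 := (qHom_eq_iff hW a w).1 hv
  obtain ⟨c, hc, hkc⟩ := Coprime.exists_fixed_mod (A := zpowers (a : Γ)) (N := phi W) (K := W)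
    (by rw [Nat.card_zpowers]; exact hcop.symm.coprime_dvd_left (orderOf_dvd_of_pow_eq_one har))
    (Or.inl (Coprime.isSolvable_of_isMulCommutative _)) (phi_le W) (fun x hx => phi_norm (le_normalizer hx))
    (zpowers_le.2 (phi_norm a.2)) w.2 (fun b hb => by
      obtain ⟨n, rfl⟩ := mem_powers_iff_mem_zpowers.mpr hb
      induction n with
      | zero => simp [one_mem]
      | succ n ih =>
        have e : (a : Γ) ^ (n + 1) * w * ((a : Γ) ^ (n + 1))⁻¹ * (w : Γ)⁻¹ =
            (a : Γ) * ((a : Γ) ^ n * w * ((a : Γ) ^ n)⁻¹ * (w : Γ)⁻¹) * (a : Γ)⁻¹ * ⁅(a : Γ), (w : Γ)⁆ := by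
          rw [commutatorElement_def, pow_succ']; group
        rw [show (fun x => (a : Γ) ^ x) (n + 1) = (a : Γ) ^ (n + 1) from rfl, e]
        exact mul_mem ((mem_normalizer_iff.1 (phi_norm a.2) _).1 (ih (pow_mem (mem_zpowers _) n))) h1)
  refine ⟨⟨c, hc.1⟩, mem_centralizer_iff.1 hc.2 _ (mem_zpowers _), ?_⟩
  rw [eq_comm, toQ_eq hW]
  exact hkc

end Quotient

variable {U : Type u} [AddCommGroup U] [Finite U]

/-- The fixed points of `a` in `G`. -/
noncomputable abbrev fixG {Γ : Type u} [Group Γ] (a : Γ) (G : Subgroup Γ) : Subgroup Γ :=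
  G ⊓ centralizer ({a} : Set Γ)

theorem mem_fixG {Γ : Type u} [Group Γ] {a g : Γ} {G : Subgroup Γ} :
    g ∈ fixG a G ↔ g ∈ G ∧ a * g = g * a := by
  simp [fixG, mem_centralizer_iff]

/-- An irreducible pair `(U, G)` with exactly `n + 1` nontrivial residual steps. -/
structure Level (p r n : ℕ) (a : Aut U) (G : Subgroup (Aut U)) : Prop where
  hp : p.Prime
  hr : r.Prime
  rp : r ≠ p
  elem : ∀ x : U, p • x = 0
  nt : Nontrivial U
  apow : a ^ r = 1
  norm : a ∈ normalizer (G : Set (Aut U))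
  coprime : (Nat.card G).Coprime r
  irred : ∀ L : AddSubgroup U, (∀ x ∈ L, a x ∈ L) → (∀ g ∈ G, ∀ x ∈ L, g x ∈ L) → L = ⊥ ∨ L = ⊤
  ne : res n G ≠ ⊥
  bot : res (n + 1) G = ⊥

/-- The fixed points of `a` are moved by the `m`th residual outside every covered subgroup. -/
def GoodAt (p n : ℕ) (a : Aut U) (G : Subgroup (Aut U)) : ℕ → Prop
  | 0 => ∀ K, Covered a (res n G) K → ∃ v, a v = v ∧ v ∉ K
  | m + 1 => ∀ K, Covered a (res n G) K → ∃ c, (c ∈ res (m + 1) (fixG a G) ∨
      (c ∈ res m (fixG a G) ∧ (orderOf c).Coprime p)) ∧ ∃ v, a v = v ∧ c v - v ∉ K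

namespace Level

variable {p r n : ℕ} {a : Aut U} {G : Subgroup (Aut U)}

/-- The last residual has order prime to `p`. -/
theorem top_coprime (h : Level p r n a G) : (Nat.card (res n G)).Coprime p := by
  haveI := Fact.mk h.hp
  haveI := (res_succ_eq_bot_iff G n).1 h.bot
  obtain ⟨Q, K, hQK⟩ := exists_parts (q := p) (res n G)
  haveI := Fintype.ofFinite Q
  have hTn : ∀ g, g ∈ normalizer (G : Set (Aut U)) → g ∈ normalizer (Q : Set (Aut U)) :=
    fun g hg => (hQK.norm (res_norm hg n)).1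
  let F : AddSubgroup U :=
    { carrier := {u | ∀ g ∈ Q, g u = u}
      zero_mem' := fun g _ => map_zero g
      add_mem' := fun {x y} hx hy g hg => by rw [map_add, hx g hg, hy g hg]
      neg_mem' := fun {x} hx g hg => by rw [map_neg, hx g hg] }
  have hinv : ∀ y, y ∈ normalizer (G : Set (Aut U)) → ∀ x ∈ F, y x ∈ F := fun y hy x hx g hg => by
    have h1 := hx _ ((mem_normalizer_iff''.1 (hTn y hy) g).1 hg)
    rw [aut_mul, aut_mul] at h1
    conv_rhs => rw [← h1, aut_inv_apply]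
  rcases h.irred F (hinv a h.norm) (fun g hg => hinv g (le_normalizer hg)) with hF | hF
  · exfalso
    haveI := h.nt
    letI : MulAction Q U := MulAction.compHom U Q.subtype
    haveI := Fintype.ofFinite U
    obtain ⟨x, hx⟩ := exists_ne (0 : U)
    have hpd : p ∣ Nat.card U := by
      have h1 : addOrderOf x = p := addOrderOf_eq_prime (h.elem x) hx
      exact h1 ▸ addOrderOf_dvd_natCard x
    obtain ⟨y, hy, hy0⟩ := hQK.Q_pgroup.exists_fixed_point_of_prime_dvd_card_of_fixed_point U hpd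
      (a := (0 : U)) (fun g => map_zero ((g : Aut U)))
    have : y ∈ F := fun g hg => hy ⟨g, hg⟩
    rw [hF, AddSubgroup.mem_bot] at this
    exact hy0 this.symm
  · have hQ : Q = ⊥ := by
      refine (eq_bot_iff_forall Q).2 fun g hg => LinearEquiv.ext fun u => ?_
      have : u ∈ F := hF ▸ AddSubgroup.mem_top u
      exact this g hg
    rw [← hQK.sup, hQ, bot_sup_eq]
    exact hQK.K_card

end Level

end Cfsg.Agent.TwoLoss
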