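import Cfsg.Agent.Lib.TwoLoss.Component

/-!
# A rank argument

`T` and `T'` commute and induce the free pair `u`, `w`. A functional `μ` fixed by a subgroup `S` of `W` meeting
the centre trivially kills all translates of `(T' - 1) (fixed points of T)` outside `S`. If `w` is scalar on no
eigenspace of `u` then `μ` vanishes on the fixed points of `T`: the images of rank one endomorphisms give an
equation between an endomorphism of rank at most two and a multiple of the projection to the fixed space of `S`.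
-/

set_option autoImplicit false
set_option linter.unusedSectionVars false
set_option linter.style.haveILetI false

namespace Cfsg.Agent.TwoLoss

open Finset Module
open scoped commutatorElement

universe uk uf uw ua

variable {k : Type uk} [Field k] {F : Type uf} [AddCommGroup F] [Module k F] [FiniteDimensional k F]
variable {W : Type uw} [Group W] [Finite W] {A : Type ua} [AddCommGroup A]
variable {π : W →* Module.End k F} {lab : W → A}

/-- A linear map with every vector of a subspace as eigenvector is scalar there. -/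
theorem exists_not_eigen {M : Type*} [AddCommGroup M] [Module k M] (w : (Module.End k M)ˣ) (S : Submodule k M)
    (h : ¬ ScalarOn w S) : ∃ m ∈ S, ∀ c : k, (w : Module.End k M) m ≠ c • m := by
  by_contra hne
  push Not at hne
  apply h
  by_cases h0 : ∀ x ∈ S, x = (0 : M)
  · exact ⟨0, fun x hx => by rw [h0 x hx]; simp⟩
  push Not at h0
  obtain ⟨y, hy, hy0⟩ := h0
  obtain ⟨c, hc⟩ := hne y hy
  refine ⟨c, fun x hx => ?_⟩
  obtain ⟨c', hc'⟩ := hne x hx
  by_cases hx0 : x = 0
  · rw [hx0]; simp
  obtain ⟨c'', hc''⟩ := hne (x + y) (add_mem hx hy)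
  rw [map_add, hc, hc', smul_add] at hc''
  by_cases hli : c' = c
  · rw [hc', hli]
  exfalso
  have hyx : (c - c'') • y = (c'' - c') • x := by
    rw [sub_smul, sub_smul, sub_eq_sub_iff_add_eq_add, add_comm, hc'', add_comm]
  by_cases hcc : c'' = c
  · rw [hcc, sub_self, zero_smul] at hyx
    exact hx0 ((smul_eq_zero.1 hyx.symm).resolve_left (sub_ne_zero.2 (Ne.symm hli)))
  · set t := (c - c'')⁻¹ * (c'' - c') with ht
    have hy2 : y = t • x := by
      rw [ht, mul_smul, ← hyx, inv_smul_smul₀ (sub_ne_zero.2 (Ne.symm hcc))]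
    have hc2 := hc
    rw [hy2, map_smul, hc', smul_comm] at hc2
    exact hli (smul_left_injective k (by rw [← hy2]; exact hy0 : t • x ≠ 0) hc2)

/-- **The functional vanishes.** -/
theorem functional_vanishes [Finite A] [Nontrivial A] (hR : ClassTwoRep π lab) (K : Comp π lab)
    {T T' : (Module.End k F)ˣ} (hTT : Commute T T') {r d : ℕ} {ω : k}
    {u w : (Module.End k (Fin K.n → k))ˣ} {α η : A ≃ₗ[ℤ] A}
    (hu : Comp.Lifts K T α u) (hw : Comp.Lifts K T' η w) (hP : FreePair K.ρ r d ω u w α η)
    (μ : F →ₗ[k] k) (S : Subgroup W) (hSz : ∀ s ∈ S, s ∈ Subgroup.center W → s = 1)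
    (hSμ : ∀ s ∈ S, ∀ x, μ (π s x) = μ x)
    (hoff : ∀ g, (∀ s ∈ S, lab s ≠ lab g) → ∀ v, (T : Module.End k F) v = v →
      μ (π g ((T' : Module.End k F) v - v)) = 0)
    (hH : ∀ H : AddSubgroup A, (∀ a ∈ H, α a ∈ H) → (∀ a ∈ H, η a ∈ H) →
      (∀ v v', lab v ∈ H → lab v' ∈ H → v * v' = v' * v) → H = ⊥)
    (hns : ∀ i : Fin r, 0 < mult u ω i → ¬ ScalarOn w (espace u ω i))
    (v₀ : F) (hv₀ : (T : Module.End k F) v₀ = v₀) : μ v₀ = 0 := by
  classical
  haveI := Fintype.ofFinite A
  haveI := Fintype.ofFinite W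
  have hr0 := hP.prime.pos
  set Q := finrank k (Fin K.n → k) with hQdef
  -- the matrices of the group elements
  choose c hc0 hc using K.scal
  obtain ⟨X, hX⟩ : ∃ X : W → Module.End k (Fin K.n → k), ∀ g, X g = c g • K.ρ (lab g) := ⟨_, fun _ => rfl⟩
  have hφX : ∀ g, K.φ (X g) = π g := fun g => by rw [hX, map_smul, ← hc]
  have hXmul : ∀ g h, X (g * h) = X g * X h := fun g h => K.inj (by rw [map_mul, hφX, hφX, hφX, map_mul])
  have hX1 : X 1 = 1 := K.inj (by rw [hφX, map_one, map_one])
  have htr : ∀ g, g ∉ Subgroup.center W → LinearMap.trace k _ (X g) = 0 := by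
    intro g hg
    obtain ⟨g₀, hg₀⟩ : ∃ g₀, g₀ * g ≠ g * g₀ := by
      by_contra hne
      push Not at hne
      exact hg (Subgroup.mem_center_iff.2 hne)
    obtain ⟨t, ht⟩ := hR.scalar _ (hR.comm_mem g₀ g)
    have ht1 : t ≠ 1 := fun e => hg₀ <| by
      rw [e, one_smul] at ht
      exact commutatorElement_eq_one_iff_mul_comm.1 (hR.faithful _ (hR.comm_mem g₀ g) ht)
    have e : X g₀ * X g * X g₀⁻¹ = t • X g := K.inj (by
      rw [map_mul, map_mul, map_smul, hφX, hφX, hφX, ← map_mul, ← map_mul,
        show g₀ * g * g₀⁻¹ = ⁅g₀, g⁆ * g by rw [commutatorElement_def]; group, map_mul, ht, smul_mul_assoc,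
        one_mul])
    have h2 := congrArg (LinearMap.trace k _) e
    rw [LinearMap.trace_mul_comm, ← mul_assoc, ← hXmul, inv_mul_cancel, hX1, one_mul, map_smul,
      smul_eq_mul] at h2
    exact by_contra fun h0 => ht1 ((mul_eq_right₀ h0).1 h2.symm)
  have hQk : (Q : k) ≠ 0 := by
    intro e
    apply hR.card_ne
    let labM : W →* Multiplicative A :=
      MonoidHom.mk' (fun g => Multiplicative.ofAdd (lab g)) fun g h => by rw [hR.add]; rfl
    have hdvd : Nat.card (Multiplicative A) ∣ Nat.card W :=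
      Subgroup.card_dvd_of_surjective labM fun a => hR.surj a.toAdd
    rw [Nat.card_congr Multiplicative.toAdd] at hdvd
    rw [Nat.card_eq_fintype_card, ← K.weyl.card_eq, sq] at hdvd
    obtain ⟨t, ht⟩ := hdvd
    rw [ht, Nat.cast_mul, Nat.cast_mul, ← hQdef, e, zero_mul, zero_mul]
  set Y₀ : Module.End k (Fin K.n → k) := ∑ s : S, X s with hY₀
  have hXY : ∀ s ∈ S, X s * Y₀ = Y₀ := fun s hs => by
    rw [hY₀, mul_sum]
    exact Fintype.sum_equiv (Equiv.mulLeft (⟨s, hs⟩ : S)) _ _ fun t => (hXmul _ _).symm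
  have htrY : LinearMap.trace k _ Y₀ = Q := by
    rw [hY₀, map_sum, Finset.sum_eq_single (1 : S)]
    · rw [OneMemClass.coe_one, hX1, LinearMap.trace_one]
    · exact fun s _ hs => htr _ fun hz => hs (Subtype.ext (hSz _ s.2 hz))
    · simp
  -- the equation
  set M := Fin K.n → k
  have key : ∀ (i : Fin r) (m : M) (l : M →ₗ[k] k) (v₁ : F), m ∈ espace u ω i →
      (T : Module.End k F) v₁ = v₁ → ∃ t : k, ∀ z : M,
      μ (K.φ (((l.comp (eproj u ω r i)).comp (↑w⁻¹ : Module.End k M)).smulRight z) ((T' : Module.End k F) v₁)) •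
          (w : Module.End k M) m -
        μ (K.φ ((l.comp (eproj u ω r i)).smulRight z) v₁) • m = t • Y₀ z := by
    intro i m l v₁ hm hv₁
    set l₁ : M →ₗ[k] k := l.comp (eproj u ω r i) with hl₁
    set R : Module.End k M := l₁.smulRight m with hR₁
    have hRu : (u : Module.End k M) * R * ↑u⁻¹ = R := by
      rw [Units.mul_inv_eq_iff_eq_mul]
      refine LinearMap.ext fun x => ?_
      rw [Module.End.mul_apply, Module.End.mul_apply, hR₁, LinearMap.smulRight_apply, LinearMap.smulRight_apply,
        map_smul, mem_espace.1 hm, hl₁, LinearMap.comp_apply, LinearMap.comp_apply,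
        ← Module.End.mul_apply (eproj u ω r i), ← mem_commOf.1 (hP.eproj_comm_u i), eproj_mem hP.root hr0 hP.upow,
        LinearMap.smul_apply, map_smul, smul_eq_mul, mul_smul, smul_comm]
    have hfix : (T : Module.End k F) (K.φ R v₁) = K.φ R v₁ := by
      rw [← Module.End.mul_apply, hu.conj, hRu, Module.End.mul_apply, hv₁]
    obtain ⟨f, hf'⟩ : ∃ f : Module.End k M →ₗ[k] k,
        ∀ Z, f Z = μ (K.φ Z ((T' : Module.End k F) (K.φ R v₁) - K.φ R v₁)) :=
      ⟨μ ∘ₗ (LinearMap.applyₗ ((T' : Module.End k F) (K.φ R v₁) - K.φ R v₁)) ∘ₗ K.φ.toLinearMap, fun _ => rfl⟩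
    have hfg : ∀ g, f (X g) = (f 1 / (Q : k)) * LinearMap.trace k _ (X g * Y₀) := by
      intro g
      by_cases hg : ∀ s ∈ S, lab s ≠ lab g
      · rw [hf', hφX, hoff g hg _ hfix, hY₀, mul_sum, map_sum, Finset.sum_eq_zero, mul_zero]
        intro s _
        rw [← hXmul]
        refine htr _ fun hz => hg _ (inv_mem s.2) ?_
        have h1 := (hR.ker _).2 hz
        rw [hR.add] at h1
        have h2 : lab (s : W)⁻¹ + lab (s : W) = 0 := by rw [← hR.add, inv_mul_cancel, hR.ker]; exact one_mem _
        exact add_right_cancel (h2.trans h1.symm)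
      · push Not at hg
        obtain ⟨s, hs, he⟩ := hg
        obtain ⟨t, _, ht⟩ := hR.same_label he.symm
        have hXg : X g = t • X s := K.inj (by rw [map_smul, hφX, hφX, ht])
        rw [hXg, map_smul, smul_mul_assoc, map_smul, hXY s hs, htrY, hf', hφX, hSμ s hs, smul_eq_mul,
          smul_eq_mul, hf', map_one, Module.End.one_apply]
        field_simp
    refine ⟨f 1 / (Q : k), fun z => ?_⟩
    have hall : f = (f 1 / (Q : k)) • (LinearMap.trace k M ∘ₗ LinearMap.mulRight k Y₀) := by
      refine K.weyl.basis.ext fun a => ?_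
      obtain ⟨g, rfl⟩ := hR.surj a
      rw [K.weyl.basis_apply, show K.ρ (lab g) = (c g)⁻¹ • X g by rw [hX, inv_smul_smul₀ (hc0 g)], map_smul,
        map_smul, hfg, LinearMap.smul_apply, LinearMap.comp_apply, LinearMap.mulRight_apply]
      rfl
    by_contra hne
    obtain ⟨ψ, hψ⟩ := Module.Projective.exists_dual_eq_one k (sub_ne_zero.2 hne)
    have hv := LinearMap.congr_fun hall (ψ.smulRight z)
    have e1 : ψ.smulRight z * Y₀ = (ψ.comp Y₀).smulRight z := LinearMap.ext fun x => rfl
    rw [LinearMap.smul_apply, LinearMap.comp_apply, LinearMap.mulRight_apply, e1, LinearMap.trace_smulRight,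
      LinearMap.comp_apply, smul_eq_mul, hf', map_sub, map_sub] at hv
    have e2 : K.φ (ψ.smulRight z) ((T' : Module.End k F) (K.φ R v₁)) =
        ψ ((w : Module.End k M) m) • K.φ ((l₁.comp (↑w⁻¹ : Module.End k M)).smulRight z) ((T' : Module.End k F) v₁) := by
      rw [← Module.End.mul_apply (T' : Module.End k F), hw.conj, Module.End.mul_apply, ← Module.End.mul_apply,
        ← map_mul, ← LinearMap.smul_apply, ← map_smul]
      congr 2
      refine LinearMap.ext fun x => ?_
      simp [hR₁, smul_smul, mul_comm]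
    have e3 : K.φ (ψ.smulRight z) (K.φ R v₁) = ψ m • K.φ (l₁.smulRight z) v₁ := by
      rw [← Module.End.mul_apply, ← map_mul, ← LinearMap.smul_apply, ← map_smul]
      congr 2
      refine LinearMap.ext fun x => ?_
      simp [hR₁, smul_smul, mul_comm]
    rw [e2, e3, map_smul, map_smul, smul_eq_mul, smul_eq_mul] at hv
    rw [map_sub, map_sub, map_smul, map_smul, map_smul, smul_eq_mul, smul_eq_mul, smul_eq_mul,
      mul_comm _ (ψ ((w : Module.End k M) m)), mul_comm _ (ψ m), hv, sub_self] at hψ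
    exact zero_ne_one hψ
  -- sums of rank one endomorphisms
  have hsum : ∀ (i : Fin r) (D : Module.End k M) (v : F),
      (∀ (l : M →ₗ[k] k) (z : M), μ (K.φ ((l.comp D).smulRight z) v) = 0) → μ (K.φ D v) = 0 := by
    intro i D v hl
    let b := Module.finBasis k M
    have hD : D = ∑ j, ((b.coord j).comp D).smulRight (b j) := LinearMap.ext fun x => by
      simp [LinearMap.sum_apply, b.sum_repr]
    rw [hD, map_sum, LinearMap.sum_apply, map_sum]
    exact sum_eq_zero fun j _ => hl _ _
  have hv₀sum : v₀ = ∑ i : Fin r, K.φ (eproj u ω r i) v₀ := by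
    rw [← LinearMap.sum_apply, ← map_sum, Fin.sum_univ_eq_sum_range (fun i => eproj u ω r i),
      eproj_sum hP.root hr0, map_one, Module.End.one_apply]
  rw [hv₀sum, map_sum]
  refine sum_eq_zero fun i _ => ?_
  by_cases hi : mult u ω i = 0
  · have h0 : eproj u ω r i = 0 := LinearMap.ext fun x => by
      have := eproj_range hP.root hr0 hP.upow i x
      rw [mult, Submodule.finrank_eq_zero] at hi
      rwa [hi, Submodule.mem_bot] at this
    rw [h0, map_zero, LinearMap.zero_apply, map_zero]
  have hnsc := hns i (Nat.pos_of_ne_zero hi)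
  set C₀ := LinearMap.range Y₀ with hC₀
  have hind : ∀ m : M, (∀ t : k, (w : Module.End k M) m ≠ t • m) → ∀ x y : k,
      x • (w : Module.End k M) m = y • m → x = 0 ∧ y = 0 := by
    intro m hm x y hxy
    have hm0 : m ≠ 0 := fun e => hm 0 (by rw [e, map_zero, smul_zero])
    have hx : x = 0 := by
      by_contra hx
      exact hm (x⁻¹ * y) (by rw [mul_smul, ← hxy, inv_smul_smul₀ hx])
    rw [hx, zero_smul] at hxy
    exact ⟨hx, (smul_eq_zero.1 hxy.symm).resolve_right hm0⟩
  by_cases hA : ∃ m ∈ espace u ω i, (∀ t : k, (w : Module.End k M) m ≠ t • m) ∧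
      ¬ C₀ ≤ Submodule.span k {m, (w : Module.End k M) m}
  · obtain ⟨m, hm, hmn, hnot⟩ := hA
    refine hsum i _ _ fun l z => ?_
    obtain ⟨t, ht⟩ := key i m l v₀ hm hv₀
    have ht0 : t = 0 := by
      by_contra ht0
      apply hnot
      rintro _ ⟨z', rfl⟩
      rw [show Y₀ z' = t⁻¹ • (t • Y₀ z') by rw [inv_smul_smul₀ ht0], ← ht]
      refine Submodule.smul_mem _ _ (sub_mem ?_ ?_) <;> refine Submodule.smul_mem _ _ (Submodule.subset_span ?_)
      · exact Or.inr rfl
      · exact Or.inl rfl
    have h1 := ht z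
    rw [ht0, zero_smul, sub_eq_zero] at h1
    exact (hind m hmn _ _ h1).2
  push Not at hA
  obtain ⟨m₀, hm₀, hm₀n⟩ := exists_not_eigen w _ hnsc
  have hC₀M : C₀ ≤ espace u ω i := (hA m₀ hm₀ hm₀n).trans (Submodule.span_le.2 (by
    rintro x (rfl | rfl)
    · exact hm₀
    · exact hP.maps_espace i hm₀))
  have hY0ne : Y₀ ≠ 0 := fun e => hQk (by rw [← htrY, e, map_zero])
  by_cases hinv : ∀ x ∈ C₀, (w : Module.End k M) x ∈ C₀
  · -- the stabiliser is invariant
    exfalso
    obtain ⟨x₀, hx₀, hx₀0⟩ : ∃ x ∈ C₀, x ≠ (0 : M) := by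
      by_contra hno
      push Not at hno
      exact hY0ne (LinearMap.ext fun x => hno _ ⟨x, rfl⟩)
    have hwsurj : ∀ x ∈ C₀, ∃ y ∈ C₀, (w : Module.End k M) y = x := by
      intro x hx
      have hpw : ∀ n : ℕ, ∀ z ∈ C₀, ((w : Module.End k M) ^ n) z ∈ C₀ := by
        intro n
        induction n with
        | zero => exact fun z hz => hz
        | succ n ih => exact fun z hz => by rw [pow_succ', Module.End.mul_apply]; exact hinv _ (ih z hz)
      refine ⟨_, hpw (d - 1) x hx, ?_⟩
      rw [← Module.End.mul_apply, ← pow_succ', Nat.sub_add_cancel hP.pos_d, ← Units.val_pow_eq_pow_val, hP.wpow,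
        Units.val_one, Module.End.one_apply]
    let H : AddSubgroup A := AddSubgroup.ofSub {a | ∃ t : k, ∀ x ∈ C₀, K.ρ a x = t • x}
      ⟨0, 1, fun x _ => by rw [K.weyl.zero, one_smul, Module.End.one_apply]⟩ (by
        rintro a ⟨t, ht⟩ b ⟨t', ht'⟩
        obtain ⟨e, he0, he⟩ := K.weyl.mul (a + -b) b
        rw [add_assoc, neg_add_cancel, add_zero] at he
        have ht'0 : t' ≠ 0 := fun e0 => by
          obtain ⟨e', he'0, he'⟩ := K.weyl.mul (-b) b
          rw [neg_add_cancel, K.weyl.zero] at he'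
          have := LinearMap.congr_fun he' x₀
          rw [Module.End.mul_apply, ht' _ hx₀, e0, zero_smul, map_zero] at this
          exact smul_ne_zero he'0 hx₀0 this.symm
        refine ⟨t'⁻¹ * e * t, fun x hx => ?_⟩
        have := LinearMap.congr_fun he x
        rw [Module.End.mul_apply, ht' x hx, map_smul, LinearMap.smul_apply, ht x hx, smul_smul] at this
        rw [mul_assoc, mul_smul, ← this, inv_smul_smul₀ ht'0])
    have hHmem : ∀ a, a ∈ H ↔ ∃ t : k, ∀ x ∈ C₀, K.ρ a x = t • x := fun a => Iff.rfl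
    have hHα : ∀ a ∈ H, α a ∈ H := by
      rintro a ⟨t, ht⟩
      obtain ⟨e, he⟩ := hu.ind a
      refine ⟨e⁻¹ * t, fun x hx => ?_⟩
      have := LinearMap.congr_fun he x
      rw [Module.End.mul_apply, ht x hx, map_smul, LinearMap.smul_apply, Module.End.mul_apply,
        mem_espace.1 (hC₀M hx), map_smul, smul_smul, smul_smul] at this
      have he0 : e ≠ 0 := fun e0 => by
        have h0 : (u : Module.End k M) * K.ρ a = 0 := by rw [he, e0, zero_smul]
        exact K.weyl.indep.ne_zero a (by rw [← Units.inv_mul_cancel_left u (K.ρ a), h0, mul_zero])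
      have hω : ω ^ (i : ℕ) ≠ 0 := pow_ne_zero _ (hP.root.ne_zero hP.prime.ne_zero)
      refine smul_right_injective M (mul_ne_zero he0 hω) ?_
      show (e * ω ^ (i : ℕ)) • K.ρ (α a) x = (e * ω ^ (i : ℕ)) • ((e⁻¹ * t) • x)
      rw [← this, smul_smul]
      congr 1
      field_simp
    have hHη : ∀ a ∈ H, η a ∈ H := by
      rintro a ⟨t, ht⟩
      obtain ⟨e, he⟩ := hw.ind a
      refine ⟨e⁻¹ * t, fun x hx => ?_⟩
      obtain ⟨y, hy, rfl⟩ := hwsurj x hx
      have := LinearMap.congr_fun he y
      rw [Module.End.mul_apply, ht y hy, map_smul, LinearMap.smul_apply, Module.End.mul_apply] at this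
      have he0 : e ≠ 0 := fun e0 => by
        have h0 : (w : Module.End k M) * K.ρ a = 0 := by rw [he, e0, zero_smul]
        exact K.weyl.indep.ne_zero a (by rw [← Units.inv_mul_cancel_left w (K.ρ a), h0, mul_zero])
      rw [mul_smul, this, inv_smul_smul₀ he0]
    have hH0 := hH H hHα hHη (by
      intro v v' hv hv'
      rw [hHmem] at hv hv'
      obtain ⟨t, ht⟩ := hv
      obtain ⟨t', ht'⟩ := hv'
      obtain ⟨e, he⟩ := hR.scalar _ (hR.comm_mem v v')
      have hXe : X v * X v' = e • (X v' * X v) := K.inj (by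
        rw [map_mul, map_smul, map_mul, hφX, hφX, ← map_mul, ← map_mul,
          show v * v' = ⁅v, v'⁆ * (v' * v) by rw [commutatorElement_def]; group, map_mul, he, smul_mul_assoc,
          one_mul])
      have h1 := LinearMap.congr_fun hXe x₀
      simp only [hX, Module.End.mul_apply, LinearMap.smul_apply, map_smul, ht _ hx₀, ht' _ hx₀, smul_smul] at h1
      have h2 := smul_left_injective k hx₀0 h1
      have hne : c v * (t * (c v' * t')) ≠ 0 := by
        have e1 : X v * X v⁻¹ = 1 := by rw [← hXmul, mul_inv_cancel, hX1]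
        have e2 : X v' * X v'⁻¹ = 1 := by rw [← hXmul, mul_inv_cancel, hX1]
        have e3 : X v⁻¹ * X v = 1 := by rw [← hXmul, inv_mul_cancel, hX1]
        have e4 : X v'⁻¹ * X v' = 1 := by rw [← hXmul, inv_mul_cancel, hX1]
        have f1 : t ≠ 0 := fun e0 => by
          have := LinearMap.congr_fun e3 x₀
          simp only [hX, Module.End.mul_apply, LinearMap.smul_apply, ht _ hx₀, e0, zero_smul, smul_zero,
            map_zero, Module.End.one_apply] at this
          exact hx₀0 this.symm
        have f2 : t' ≠ 0 := fun e0 => by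
          have := LinearMap.congr_fun e4 x₀
          simp only [hX, Module.End.mul_apply, LinearMap.smul_apply, ht' _ hx₀, e0, zero_smul, smul_zero,
            map_zero, Module.End.one_apply] at this
          exact hx₀0 this.symm
        exact mul_ne_zero (hc0 v) (mul_ne_zero f1 (mul_ne_zero (hc0 v') f2))
      have he1 : e = 1 := by
        refine (mul_eq_right₀ hne).1 ?_
        linear_combination -h2
      rw [he1, one_smul] at he
      exact commutatorElement_eq_one_iff_mul_comm.1 (hR.faithful _ (hR.comm_mem v v') he))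
    have hS1 : ∀ s ∈ S, s = 1 := by
      intro s hs
      refine hSz s hs ((hR.ker s).1 ?_)
      have hmem : lab s ∈ H := (hHmem _).2 ⟨(c s)⁻¹, by
        rintro x ⟨z, rfl⟩
        have h3 := LinearMap.congr_fun (hXY s hs) z
        simp only [hX, smul_mul_assoc, LinearMap.smul_apply, Module.End.mul_apply] at h3
        rw [← inv_smul_smul₀ (hc0 s) (K.ρ (lab s) (Y₀ z)), h3]⟩
      rwa [hH0, AddSubgroup.mem_bot] at hmem
    have hY1 : Y₀ = 1 := by
      rw [hY₀, Finset.sum_eq_single (1 : S) (fun s _ hs => absurd (Subtype.ext (hS1 _ s.2)) hs) (by simp)]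
      exact hX1
    have htop : ∀ x : M, (u : Module.End k M) x = ω ^ (i : ℕ) • x := fun x =>
      mem_espace.1 (hC₀M ⟨x, by rw [hY1, Module.End.one_apply]⟩)
    obtain ⟨a, ha⟩ := exists_ne (0 : A)
    refine ha (hP.ufree.free 1 (fun h => hP.prime.ne_one (Nat.dvd_one.1 h)) a ?_)
    rw [pow_one]
    by_contra hne
    obtain ⟨e, he⟩ := hu.ind a
    have heq : K.ρ a = e • K.ρ (α a) := LinearMap.ext fun x => by
      have := LinearMap.congr_fun he x
      simp only [Module.End.mul_apply, LinearMap.smul_apply, htop, map_smul, smul_comm e] at this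
      exact smul_right_injective M (pow_ne_zero _ (hP.root.ne_zero hP.prime.ne_zero)) this
    have h4 := congrArg (fun Z => K.weyl.basis.repr Z a) heq
    simp only [← K.weyl.basis_apply, map_smul, Module.Basis.repr_self, Finsupp.single_eq_same,
      Finsupp.smul_apply, Finsupp.single_eq_of_ne (Ne.symm hne), smul_zero] at h4
    exact one_ne_zero h4
  push Not at hinv
  obtain ⟨ℓ, hℓ, hwℓ⟩ := hinv
  have hℓn : ∀ t : k, (w : Module.End k M) ℓ ≠ t • ℓ := fun t e => hwℓ (by rw [e]; exact C₀.smul_mem t hℓ)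
  by_cases hline : C₀ ≤ Submodule.span k {ℓ}
  · have hTinv : (T : Module.End k F) ((↑T'⁻¹ : Module.End k F) v₀) = (↑T'⁻¹ : Module.End k F) v₀ := by
      rw [← Module.End.mul_apply, ← Units.val_mul, (hTT.inv_right).eq, Units.val_mul, Module.End.mul_apply, hv₀]
    refine hsum i _ _ fun l' z => ?_
    obtain ⟨t, ht⟩ := key i ℓ (l'.comp (w : Module.End k M)) _ (hC₀M hℓ) hTinv
    obtain ⟨q, hq⟩ := Submodule.mem_span_singleton.1 (hline ⟨z, rfl⟩)
    have h1 := ht z
    rw [← hq, smul_smul, sub_eq_iff_eq_add, ← add_smul] at h1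
    have h2 := (hind ℓ hℓn _ _ h1).1
    have e4 : ((l'.comp (w : Module.End k M)).comp (eproj u ω r i)).comp (↑w⁻¹ : Module.End k M) =
        l'.comp (eproj u ω r i) := LinearMap.ext fun x => by
      simp only [LinearMap.comp_apply]
      rw [← Module.End.mul_apply (eproj u ω r i), ← Module.End.mul_apply (w : Module.End k M), ← mul_assoc,
        (hP.eproj_comm_w i).eq, mul_assoc, Units.mul_inv, mul_one]
    rw [e4, ← Module.End.mul_apply (T' : Module.End k F), Units.mul_inv, Module.End.one_apply] at h2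
    exact h2
  exfalso
  obtain ⟨z, hz, hzℓ⟩ := SetLike.not_le_iff_exists.1 hline
  obtain ⟨p, q, hpq⟩ := Submodule.mem_span_pair.1 (hA ℓ (hC₀M hℓ) hℓn hz)
  by_cases hq : q = 0
  · apply hzℓ
    rw [← hpq, hq, zero_smul, add_zero]
    exact Submodule.mem_span_singleton.2 ⟨p, rfl⟩
  apply hwℓ
  have e : (w : Module.End k M) ℓ = q⁻¹ • (z - p • ℓ) := by rw [← hpq, add_sub_cancel_left, inv_smul_smul₀ hq]
  rw [e]
  exact C₀.smul_mem _ (sub_mem hz (C₀.smul_mem _ hℓ))

end Cfsg.Agent.TwoLoss
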