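import Cfsg.Agent.Lib.Coprime.Commutator
import Cfsg.Agent.Lib.Coprime.Action
import Mathlib

/-!
# Iterated nilpotent residuals
-/

set_option autoImplicit false
set_option linter.unusedSectionVars false
set_option linter.style.haveILetI false

namespace Cfsg.Agent.TwoLoss

open Subgroup
open scoped commutatorElement

universe u v

variable {Γ : Type u} [Group Γ] [Finite Γ]

/-- The nilpotent residual: the last term of the lower central series. -/
noncomputable def res1 (H : Subgroup Γ) : Subgroup Γ := H.lowerCentralSeries (Nat.card Γ)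

/-- The iterated nilpotent residual. -/
noncomputable def res : ℕ → Subgroup Γ → Subgroup Γ
  | 0, H => H
  | k + 1, H => res1 (res k H)

theorem res_zero (H : Subgroup Γ) : res 0 H = H := rfl

theorem res_succ (k : ℕ) (H : Subgroup Γ) : res (k + 1) H = res1 (res k H) := rfl

theorem lcs_stable (H : Subgroup Γ) : H.lowerCentralSeries (Nat.card Γ + 1) = H.lowerCentralSeries (Nat.card Γ) := by
  by_contra hne
  have hstep : ∀ m, H.lowerCentralSeries (m + 1) = H.lowerCentralSeries m →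
      ∀ j, H.lowerCentralSeries (m + j) = H.lowerCentralSeries m := by
    intro m hm j
    induction j with
    | zero => rfl
    | succ j ih => rw [← add_assoc, Subgroup.lowerCentralSeries_succ, ih, ← Subgroup.lowerCentralSeries_succ, hm]
  have hlt : ∀ m, m ≤ Nat.card Γ → Nat.card (H.lowerCentralSeries (m + 1)) < Nat.card (H.lowerCentralSeries m) := by
    intro m hm
    refine lt_of_le_of_ne (card_le_of_le (H.lowerCentralSeries_antitone (Nat.le_succ m))) fun he => hne ?_
    have h0 := eq_of_le_of_card_ge (H.lowerCentralSeries_antitone (Nat.le_succ m)) he.ge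
    have h1 := hstep m h0 (Nat.card Γ + 1 - m)
    have h2 := hstep m h0 (Nat.card Γ - m)
    rw [Nat.add_sub_cancel' (by omega)] at h1
    rw [Nat.add_sub_cancel' hm] at h2
    rw [h1, h2]
  have hdec : ∀ m, m ≤ Nat.card Γ + 1 → Nat.card (H.lowerCentralSeries m) + m ≤ Nat.card Γ := by
    intro m
    induction m with
    | zero => intro _; simpa using card_le_card_group H
    | succ m ih =>
      intro hm
      have := ih (by omega)
      have := hlt m (by omega)
      omega
  have := hdec (Nat.card Γ + 1) le_rfl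
  omega

theorem lcs_eq_res1 (H : Subgroup Γ) {n : ℕ} (hn : Nat.card Γ ≤ n) : H.lowerCentralSeries n = res1 H := by
  obtain ⟨j, rfl⟩ := Nat.exists_eq_add_of_le hn
  clear hn
  induction j with
  | zero => rfl
  | succ j ih => rw [← add_assoc, Subgroup.lowerCentralSeries_succ, ih, res1, ← Subgroup.lowerCentralSeries_succ, lcs_stable]

theorem res1_le_lcs (H : Subgroup Γ) (n : ℕ) : res1 H ≤ H.lowerCentralSeries n := by
  rcases le_total (Nat.card Γ) n with h | h
  · rw [lcs_eq_res1 H h]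
  · exact H.lowerCentralSeries_antitone h

theorem commutator_res1 (H : Subgroup Γ) : ⁅res1 H, H⁆ = res1 H := by
  rw [res1, ← Subgroup.lowerCentralSeries_succ, lcs_stable]

theorem res1_le (H : Subgroup Γ) : res1 H ≤ H := H.lowerCentralSeries_le_self _

theorem res1_mono {H K : Subgroup Γ} (h : H ≤ K) : res1 H ≤ res1 K := lowerCentralSeries_mono _ h

theorem res_mono {H K : Subgroup Γ} (h : H ≤ K) : ∀ k, res k H ≤ res k K
  | 0 => h
  | k + 1 => res1_mono (res_mono h k)

theorem res_le_self (H : Subgroup Γ) : ∀ k, res k H ≤ H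
  | 0 => le_rfl
  | k + 1 => (res1_le _).trans (res_le_self H k)

theorem res_antitone (H : Subgroup Γ) : Antitone fun k => res k H :=
  antitone_nat_of_succ_le fun _ => res1_le _

theorem map_res1 {Δ : Type v} [Group Δ] [Finite Δ] (f : Γ →* Δ) (H : Subgroup Γ) :
    (res1 H).map f = res1 (H.map f) := by
  rw [← lcs_eq_res1 H (le_max_left _ (Nat.card Δ)), map_lowerCentralSeries,
    lcs_eq_res1 _ (le_max_right _ _)]

theorem map_res {Δ : Type v} [Group Δ] [Finite Δ] (f : Γ →* Δ) (H : Subgroup Γ) :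
    ∀ k, (res k H).map f = res k (H.map f)
  | 0 => rfl
  | k + 1 => by rw [res_succ, map_res1, map_res f H k, res_succ]

theorem res_norm {H : Subgroup Γ} {g : Γ} (hg : g ∈ normalizer (H : Set Γ)) (k : ℕ) :
    g ∈ normalizer (res k H : Set Γ) := by
  rw [mem_normalizer_iff_map_conj_eq] at hg ⊢
  rw [map_res, hg]

theorem le_normalizer_res (H : Subgroup Γ) (k : ℕ) : H ≤ normalizer (res k H : Set Γ) :=
  fun _ hg => res_norm (le_normalizer hg) k

theorem res_succ_eq_bot_iff (H : Subgroup Γ) (k : ℕ) :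
    res (k + 1) H = ⊥ ↔ Group.IsNilpotent (res k H) := by
  rw [isNilpotent_iff_lowerCentralSeries, res_succ]
  exact ⟨fun h => ⟨_, h⟩, fun ⟨n, hn⟩ => le_bot_iff.1 ((res1_le_lcs _ n).trans hn.le)⟩

/-- Commutators of a residual element acting coprimely lie one residual deeper. -/
theorem commutator_le_res {C Q R : Subgroup Γ} {k : ℕ} (hQ : Q ≤ C) (hR : R ≤ res k C)
    (hRQ : R ≤ normalizer (Q : Set Γ)) (hcop : (Nat.card R).Coprime (Nat.card Q))
    (hsol : Group.IsSolvable R ∨ Group.IsSolvable Q) : ⁅Q, R⁆ ≤ res (k + 1) C := by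
  have h1 : ⁅Q, R⁆ ≤ res k C := by
    refine le_trans (commutator_mono le_rfl hR) ?_
    exact le_normalizer_iff_commutator_le_right.1 (hQ.trans (le_normalizer_res C k))
  have h2 : ⁅⁅Q, R⁆, R⁆ = ⁅Q, R⁆ := Coprime.commutator_commutator_eq hRQ hcop hsol
  rw [res_succ, res1]
  generalize Nat.card Γ = n
  induction n with
  | zero => exact h1
  | succ n ih =>
    rw [← h2, Subgroup.lowerCentralSeries_succ]
    exact commutator_mono ih hR

/-- A central part of order prime to `q` of a residual which is otherwise a `q`-group is trivial. -/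
theorem residual_central_eq_bot {q : ℕ} [Fact q.Prime] {H A : Subgroup Γ} (hA : A ≤ res1 H)
    (hAH : ∀ x ∈ A, ∀ h ∈ H, x * h = h * x) (hAq : (Nat.card A).Coprime q)
    (hpart : ∀ x ∈ res1 H, (orderOf x).Coprime q → x ∈ A) : A = ⊥ := by
  set E := res1 H with hE
  have hEH : E ≤ H := res1_le H
  haveI : (A.subgroupOf E).Normal := ⟨fun x hx g => by
    rw [mem_subgroupOf] at hx ⊢
    show (g : Γ) * x * (g : Γ)⁻¹ ∈ A
    rw [← hAH _ hx _ (hEH g.2), mul_inv_cancel_right]
    exact hx⟩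
  have hquot : IsPGroup q (↥E ⧸ A.subgroupOf E) := by
    intro x
    obtain ⟨g, rfl⟩ := QuotientGroup.mk_surjective x
    obtain ⟨e, m, hm, he⟩ := Nat.exists_eq_pow_mul_and_not_dvd (orderOf_pos g).ne' q (Fact.out : q.Prime).ne_one
    refine ⟨e, ?_⟩
    rw [← QuotientGroup.mk_pow, QuotientGroup.eq_one_iff, mem_subgroupOf]
    refine hpart _ (g ^ q ^ e).2 ?_
    rw [orderOf_coe, orderOf_pow_of_dvd (pow_ne_zero _ (Fact.out : q.Prime).ne_zero) (he ▸ dvd_mul_right _ _), he,
      Nat.mul_div_cancel_left _ (pow_pos (Fact.out : q.Prime).pos _)]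
    exact ((Fact.out : q.Prime).coprime_iff_not_dvd.2 hm).symm
  obtain ⟨e, he⟩ := IsPGroup.iff_card.1 hquot
  obtain ⟨P⟩ : Nonempty (Sylow q ↥E) := inferInstance
  have htop : (P : Subgroup ↥E) ⊔ A.subgroupOf E = ⊤ := by
    have hd1 : ((P : Subgroup ↥E) ⊔ A.subgroupOf E).index ∣ q ^ e := he ▸ index_dvd_of_le le_sup_right
    obtain ⟨j, -, hj⟩ := (Nat.dvd_prime_pow (Fact.out : q.Prime)).1 hd1
    rw [← index_eq_one, hj]
    by_contra hne
    refine P.not_dvd_index (dvd_trans ?_ (index_dvd_of_le (le_sup_left (b := A.subgroupOf E))))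
    rw [hj]
    exact dvd_pow_self q fun h0 => hne (by rw [h0, pow_zero])
  haveI hPn : (P : Subgroup ↥E).Normal := by
    refine normalizer_eq_top_iff.1 (eq_top_iff.2 ?_)
    rw [← htop]
    refine sup_le le_normalizer fun x hx => mem_normalizer_iff.2 fun y => ?_
    have e1 : x * y * x⁻¹ = y := Subtype.ext (by
      show (x : Γ) * y * (x : Γ)⁻¹ = y
      rw [hAH _ (mem_subgroupOf.1 hx) _ (hEH y.2), mul_inv_cancel_right])
    rw [e1]
  have hq : IsPGroup q ((P : Subgroup ↥E).map E.subtype) := P.isPGroup'.map _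
  have hnorm : ∀ h ∈ H, ∀ x ∈ (P : Subgroup ↥E).map E.subtype, h * x * h⁻¹ ∈ (P : Subgroup ↥E).map E.subtype := by
    rintro h hh _ ⟨x, hx, rfl⟩
    have hhE : h ∈ normalizer (E : Set Γ) := le_normalizer_res H 1 hh
    let φ : ↥E ≃* ↥E := Subgroup.normalizerMonoidHom E ⟨h, hhE⟩
    have hsub : Subsingleton (Sylow q ↥E) := (Sylow.unique_of_normal P hPn).instSubsingleton
    have hP' : IsPGroup q ((P : Subgroup ↥E).map φ.toMonoidHom) := P.isPGroup'.map _
    obtain ⟨P', hP'le⟩ := hP'.exists_le_sylow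
    rw [Subsingleton.elim P' P] at hP'le
    exact ⟨φ x, hP'le ⟨x, hx, rfl⟩, rfl⟩
  have hle : E ≤ (P : Subgroup ↥E).map E.subtype := by
    conv_lhs => rw [hE, ← commutator_res1 H]
    rw [Subgroup.commutator_le]
    intro x hx h hh
    have hmem : (⟨x, hx⟩ : ↥E) ∈ (P : Subgroup ↥E) ⊔ A.subgroupOf E := htop ▸ mem_top _
    rw [sup_comm, mem_sup_of_normal_right] at hmem
    obtain ⟨c, hc, y, hy, hxy⟩ := hmem
    have e1 : x = (c : Γ) * y := (congrArg Subtype.val hxy).symm
    have hcA : (c : Γ) ∈ A := mem_subgroupOf.1 hc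
    have hz : (y : Γ) * h * (y : Γ)⁻¹ * h⁻¹ ∈ H :=
      mul_mem (mul_mem (mul_mem (hEH y.2) hh) (inv_mem (hEH y.2))) (inv_mem hh)
    have e2 : ⁅x, h⁆ = (y : Γ) * (h * (y : Γ)⁻¹ * h⁻¹) := by
      calc ⁅x, h⁆ = (c : Γ) * ((y : Γ) * h * (y : Γ)⁻¹) * (c : Γ)⁻¹ * h⁻¹ := by
            rw [e1, commutatorElement_def]; group
        _ = (y : Γ) * h * (y : Γ)⁻¹ * h⁻¹ := by
            rw [hAH _ hcA _ (mul_mem (mul_mem (hEH y.2) hh) (inv_mem (hEH y.2))), mul_inv_cancel_right]
        _ = (y : Γ) * (h * (y : Γ)⁻¹ * h⁻¹) := by group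
    rw [e2]
    exact mul_mem ⟨y, hy, rfl⟩ (hnorm h hh _ (inv_mem ⟨y, hy, rfl⟩))
  obtain ⟨j, hj⟩ := IsPGroup.iff_card.1 hq
  refine card_eq_one.1 (Nat.eq_one_of_dvd_coprimes hAq dvd_rfl ?_)
  have hd : Nat.card A ∣ q ^ j := hj ▸ card_dvd_of_le (hA.trans hle)
  obtain ⟨i, -, hi⟩ := (Nat.dvd_prime_pow (Fact.out : q.Prime)).1 hd
  rcases Nat.eq_zero_or_pos i with rfl | hpos
  · rw [hi, pow_zero]; exact one_dvd _
  · exfalso
    rw [hi] at hAq
    exact (Fact.out : q.Prime).ne_one (Nat.eq_one_of_dvd_coprimes hAq (dvd_pow_self q hpos.ne') dvd_rfl)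

/-- The part of order prime to `q` of an element is one of its powers. -/
theorem exists_coprime_pow {q : ℕ} (hq : q.Prime) (x : Γ) :
    ∃ m : ℕ, (orderOf (x ^ m)).Coprime q ∧ ∀ d, d ∣ orderOf x → d.Coprime q → m ≡ 1 [MOD d] := by
  obtain ⟨e, n, hn, he⟩ := Nat.exists_eq_pow_mul_and_not_dvd (orderOf_pos x).ne' q hq.ne_one
  have hcn : (q ^ e).Coprime n := Nat.Coprime.pow_left _ (hq.coprime_iff_not_dvd.2 hn)
  obtain ⟨m, hm0, hm1⟩ := Nat.chineseRemainder hcn 0 1
  refine ⟨m, ?_, fun d hd hdq => ?_⟩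
  · obtain ⟨t, rfl⟩ := Nat.modEq_zero_iff_dvd.1 hm0
    rw [pow_mul]
    refine (hq.coprime_iff_not_dvd.2 fun h => hn (h.trans ?_)).symm
    refine (orderOf_pow_dvd t).trans ?_
    rw [orderOf_pow_of_dvd (pow_ne_zero _ hq.ne_zero) (he ▸ dvd_mul_right _ _), he,
      Nat.mul_div_cancel_left _ (pow_pos hq.pos _)]
  · refine Nat.ModEq.of_dvd ?_ hm1
    exact (Nat.Coprime.pow_right e hdq).dvd_of_dvd_mul_left (he ▸ hd)

/-- The residuals reach the bottom in a solvable group. -/
theorem res_le_derived [Group.IsSolvable Γ] : ∀ k, res k (⊤ : Subgroup Γ) ≤ derivedSeries Γ k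
  | 0 => le_top
  | k + 1 => by
    refine (res1_mono (res_le_derived k)).trans ((res1_le_lcs _ 1).trans ?_)
    rw [Subgroup.lowerCentralSeries_succ, Subgroup.lowerCentralSeries_zero]
    exact le_of_eq rfl

theorem exists_exact [Group.IsSolvable Γ] (H : Subgroup Γ) {k : ℕ} (hk : res k H ≠ ⊥) :
    ∃ n, k ≤ n ∧ res n H ≠ ⊥ ∧ res (n + 1) H = ⊥ := by
  classical
  obtain ⟨m, hm⟩ := Group.IsSolvable.solvable (G := Γ)
  have hbot : res m H = ⊥ := le_bot_iff.1 ((res_mono le_top m).trans ((res_le_derived m).trans hm.le))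
  have hex : ∃ n, res n H = ⊥ := ⟨m, hbot⟩
  have hn := Nat.find_spec hex
  have hlt : k < Nat.find hex := by
    by_contra hle
    push Not at hle
    exact hk (le_bot_iff.1 ((res_antitone H hle).trans hn.le))
  refine ⟨Nat.find hex - 1, by omega, Nat.find_min hex (by omega), ?_⟩
  rwa [Nat.sub_add_cancel (by omega)]

/-- A chain with nilpotent factors bounds the residual length. -/
theorem res_eq_bot_of_series {n : ℕ} (F : Fin (n + 1) → Subgroup Γ) (h0 : F 0 = ⊥) (hn : F (Fin.last n) = ⊤)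
    (hk : ∀ i : Fin n, ∃ k : ℕ, (F i.succ).lowerCentralSeries k ≤ F i.castSucc) : res n (⊤ : Subgroup Γ) = ⊥ := by
  have key : ∀ j, (hj : j ≤ n) → res j (⊤ : Subgroup Γ) ≤ F ⟨n - j, by omega⟩ := by
    intro j
    induction j with
    | zero => intro _; rw [res_zero]; exact hn.ge
    | succ j ih =>
      intro hj
      obtain ⟨k, hk⟩ := hk ⟨n - (j + 1), by omega⟩
      have e1 : (⟨n - (j + 1), by omega⟩ : Fin n).succ = ⟨n - j, by omega⟩ := Fin.ext (by
        simp only [Fin.val_succ]; omega)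
      rw [e1] at hk
      exact (res1_mono (ih (by omega))).trans ((res1_le_lcs _ k).trans hk)
  have h := key n le_rfl
  rw [eq_bot_iff, ← h0]
  convert h using 2
  apply Fin.ext
  simp

/-- The residual chain. -/
theorem series_of_res_eq_bot {n : ℕ} (h : res n (⊤ : Subgroup Γ) = ⊥) :
    ∃ F : Fin (n + 1) → Subgroup Γ, F 0 = ⊥ ∧ F (Fin.last n) = ⊤ ∧ Monotone F ∧ (∀ i, (F i).Normal) ∧
      ∀ i : Fin n, ∃ k : ℕ, (F i.succ).lowerCentralSeries k ≤ F i.castSucc := by
  refine ⟨fun i => res (n - (i : ℕ)) ⊤, by simpa using h, by simp [res_zero],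
    fun i j hij => res_antitone ⊤ (by have : (i : ℕ) ≤ j := hij; omega),
    fun i => normalizer_eq_top_iff.1 (eq_top_iff.2 (le_normalizer_res ⊤ _)), fun i => ⟨Nat.card Γ, ?_⟩⟩
  simp only [Fin.val_succ, Fin.val_castSucc]
  rw [show n - (i : ℕ) = n - ((i : ℕ) + 1) + 1 by omega]
  exact le_rfl

end Cfsg.Agent.TwoLoss
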