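import Cfsg.Agent.Lib.TwoLoss.Split

/-!
# Restriction to an invariant subgroup
-/

set_option autoImplicit false
set_option linter.unusedSectionVars false

namespace Cfsg.Agent.TwoLoss

open Subgroup
open scoped commutatorElement

universe u

variable {V : Type u} [AddCommGroup V] [Finite V]

/-- The stabiliser of a subgroup. -/
def stab (E : AddSubgroup V) : Subgroup (Aut V) where
  carrier := {g | ∀ x, g x ∈ E ↔ x ∈ E}
  one_mem' := fun _ => Iff.rfl
  mul_mem' := fun {g h} hg hh x => (hg (h x)).trans (hh x)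
  inv_mem' := fun {g} hg x => by rw [← hg (g⁻¹ x), aut_inv_apply]

theorem mem_stab_of_map {E : AddSubgroup V} {g : Aut V} (h : ∀ x ∈ E, g x ∈ E) : g ∈ stab E := by
  intro x
  refine ⟨fun hx => ?_, h x⟩
  let f : E → E := fun y => ⟨g y, h y y.2⟩
  have hf : Function.Injective f := fun y z e => Subtype.ext (g.injective (congrArg Subtype.val e))
  obtain ⟨y, hy⟩ := Finite.surjective_of_injective hf ⟨g x, hx⟩
  exact g.injective (congrArg Subtype.val hy : g (y : V) = g x) ▸ y.2

/-- The restriction. -/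
noncomputable def resE (E : AddSubgroup V) : stab E →* Aut E where
  toFun g := AddEquiv.toIntLinearEquiv
    { toFun := fun x => ⟨(g : Aut V) x, (g.2 x).2 x.2⟩
      invFun := fun x => ⟨(g : Aut V)⁻¹ x, ((g⁻¹).2 x).2 x.2⟩
      left_inv := fun x => Subtype.ext (aut_apply_inv _ _)
      right_inv := fun x => Subtype.ext (aut_inv_apply _ _)
      map_add' := fun x y => Subtype.ext (map_add (g : Aut V) (x : V) (y : V)) }
  map_one' := LinearEquiv.ext fun _ => rfl
  map_mul' _ _ := LinearEquiv.ext fun _ => rfl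

theorem resE_apply {E : AddSubgroup V} (g : stab E) (x : E) : ((resE E g x : E) : V) = (g : Aut V) x := rfl

theorem resE_eq_one {E : AddSubgroup V} (g : stab E) :
    resE E g = 1 ↔ ∀ x ∈ E, (g : Aut V) x = x :=
  ⟨fun h x hx => congrArg Subtype.val (LinearEquiv.congr_fun h ⟨x, hx⟩),
    fun h => LinearEquiv.ext fun x => Subtype.ext (h x x.2)⟩

/-- The image of a subgroup. -/
noncomputable def img (E : AddSubgroup V) (X : Subgroup (Aut V)) : Subgroup (Aut E) :=
  (X.subgroupOf (stab E)).map (resE E)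

theorem mem_img {E : AddSubgroup V} {X : Subgroup (Aut V)} {x : Aut E} :
    x ∈ img E X ↔ ∃ g : stab E, (g : Aut V) ∈ X ∧ resE E g = x := by
  simp only [img, mem_map, mem_subgroupOf]

theorem card_img_dvd (E : AddSubgroup V) (X : Subgroup (Aut V)) : Nat.card (img E X) ∣ Nat.card X :=
  (card_map_dvd (X.subgroupOf (stab E)) (resE E)).trans
    ((Subgroup.card_map_of_injective (K := X.subgroupOf (stab E)) (stab E).subtype_injective).symm.dvd.trans
      (card_dvd_of_le (by rintro _ ⟨g, hg, rfl⟩; exact hg)))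

theorem img_norm {E : AddSubgroup V} {X : Subgroup (Aut V)} {g : stab E}
    (hg : (g : Aut V) ∈ normalizer (X : Set (Aut V))) : resE E g ∈ normalizer (img E X : Set (Aut E)) := by
  refine mem_normalizer_iff_map_conj_eq.2 (eq_of_le_of_card_ge ?_
    (card_map_of_injective (MulAut.conj (resE E g)).injective).ge)
  rintro _ ⟨x, hx, rfl⟩
  obtain ⟨h, hh, rfl⟩ := mem_img.1 hx
  exact mem_img.2 ⟨g * h * g⁻¹, (mem_normalizer_iff.1 hg h).1 hh, by simp⟩

/-- A fixed element of the image comes from a fixed element. -/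
theorem lift_fixed {E : AddSubgroup V} {X : Subgroup (Aut V)} (hX : X ≤ stab E) {a : stab E} {r : ℕ}
    (har : (a : Aut V) ^ r = 1) (haX : (a : Aut V) ∈ normalizer (X : Set (Aut V)))
    (hcop : (Nat.card X).Coprime r) {x : Aut E} (hx : x ∈ img E X) (hc : resE E a * x = x * resE E a) :
    ∃ g : stab E, (g : Aut V) ∈ X ∧ (a : Aut V) * g = g * (a : Aut V) ∧ resE E g = x := by
  have hA : zpowers a ≤ normalizer (X.subgroupOf (stab E) : Set (stab E)) := by
    rw [zpowers_le, mem_normalizer_iff]
    intro g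
    exact mem_normalizer_iff.1 haX g
  have har' : a ^ r = 1 := Subtype.ext har
  have h := Coprime.map_inf_centralizer (resE E) hA
    (by
      rw [Nat.card_zpowers, Nat.card_congr (Subgroup.subgroupOfEquivOfLe hX).toEquiv]
      exact hcop.symm.coprime_dvd_left (orderOf_dvd_of_pow_eq_one har'))
    (Or.inl (Coprime.isSolvable_of_isMulCommutative _))
  have hmem : x ∈ (X.subgroupOf (stab E)).map (resE E) ⊓
      centralizer (((zpowers a).map (resE E) : Subgroup (Aut E)) : Set (Aut E)) := by
    refine ⟨hx, mem_centralizer_iff.2 ?_⟩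
    rintro _ ⟨b, hb, rfl⟩
    obtain ⟨n, rfl⟩ := mem_zpowers_iff.1 hb
    rw [map_zpow]
    exact ((show Commute (resE E a) x from hc).zpow_left n).eq
  rw [← h] at hmem
  obtain ⟨g, hg, rfl⟩ := hmem
  exact ⟨g, mem_subgroupOf.1 hg.1, congrArg Subtype.val (mem_centralizer_iff.1 hg.2 a (mem_zpowers a)), rfl⟩

theorem img_commutator {E : AddSubgroup V} {X : Subgroup (Aut V)} (hX : X ≤ stab E) {a : stab E}
    (hgen : ⁅X, zpowers (a : Aut V)⁆ = X) : ⁅img E X, zpowers (resE E a)⁆ = img E X := by
  have e : ⁅X.subgroupOf (stab E), zpowers a⁆ = X.subgroupOf (stab E) := by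
    refine map_injective (stab E).subtype_injective ?_
    rw [map_commutator, MonoidHom.map_zpowers, subgroupOf, map_comap_eq_self (by rw [range_subtype]; exact hX)]
    exact hgen
  rw [img, ← MonoidHom.map_zpowers, ← map_commutator, e]

theorem Admissible.restrict {a : Aut V} {X : Subgroup (Aut V)} {K L : AddSubgroup V}
    (h : Admissible a X K L) {E : AddSubgroup V} (ha : a ∈ stab E) :
    Admissible (resE E ⟨a, ha⟩) (img E X) (K.comap E.subtype) (L.comap E.subtype) := by
  rcases h with h | ⟨h1, h2⟩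
  · exact Or.inl fun x hx => h hx
  refine Or.inr ⟨fun u => h1 (u : V), fun g hg => ?_⟩
  obtain ⟨g, hgX, rfl⟩ := mem_img.1 hg
  rcases h2 g hgX with h3 | h3
  · exact Or.inl fun u => h3 (u : V)
  · exact Or.inr fun u hu => h3 (u : V) hu

theorem Covered.restrict {a : Aut V} {X : Subgroup (Aut V)} {K : AddSubgroup V} (h : Covered a X K)
    {E : AddSubgroup V} (ha : a ∈ stab E) :
    Covered (resE E ⟨a, ha⟩) (img E X) (K.comap E.subtype) := by
  obtain ⟨𝓛, h1, h2⟩ := h
  refine ⟨(fun L => L.comap E.subtype) '' 𝓛, fun v hv hall => Subtype.ext (h1 v (congrArg Subtype.val hv) ?_), ?_⟩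
  · exact fun L hL => hall _ ⟨L, hL, rfl⟩
  · rintro _ ⟨L, hL, rfl⟩
    exact (h2 L hL).restrict ha

end Cfsg.Agent.TwoLoss
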