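import Cfsg.Agent.Lib.TwoLoss.Quot

/-!
# A section gives a level
-/

set_option autoImplicit false
set_option linter.unusedSectionVars false
set_option linter.style.haveILetI false

namespace Cfsg.Agent.TwoLoss

open Subgroup
open scoped commutatorElement

universe u

variable {Γ : Type u} [Group Γ] [Finite Γ]

theorem res_subgroupOf {X M : Subgroup Γ} (hX : X ≤ M) (k : ℕ) :
    res k (X.subgroupOf M) = (res k X).subgroupOf M := by
  refine map_injective M.subtype_injective ?_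
  rw [map_res, subgroupOf, map_comap_eq_self (by rw [range_subtype]; exact hX), subgroupOf,
    map_comap_eq_self (by rw [range_subtype]; exact (res_le_self X k).trans hX)]

theorem qImg_res {W X : Subgroup Γ} (hX : X ≤ normalizer (W : Set Γ)) (k : ℕ) :
    res k (qImg W X) = qImg W (res k X) := by
  rw [qImg, ← map_res, res_subgroupOf hX]; rfl

theorem qImg_card_dvd (W : Subgroup Γ) {X : Subgroup Γ} (hX : X ≤ normalizer (W : Set Γ)) :
    Nat.card (qImg W X) ∣ Nat.card X :=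
  (card_map_dvd _ _).trans (Nat.card_congr (subgroupOfEquivOfLe hX).toEquiv).dvd

theorem qImg_mono (W : Subgroup Γ) {X Y : Subgroup Γ} (h : X ≤ Y) : qImg W X ≤ qImg W Y :=
  map_mono fun _ hx => h hx

/-- A fixed element of the image comes from a fixed element. -/
theorem qImg_lift_fixed {W X : Subgroup Γ} (hX : X ≤ normalizer (W : Set Γ)) {a : normalizer (W : Set Γ)} {r : ℕ}
    (har : (a : Γ) ^ r = 1) (haX : (a : Γ) ∈ normalizer (X : Set Γ)) (hcop : (Nat.card X).Coprime r)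
    {x : Vq W ≃ₗ[ℤ] Vq W} (hx : x ∈ qImg W X) (hc : qHom W a * x = x * qHom W a) :
    ∃ g : normalizer (W : Set Γ), (g : Γ) ∈ X ∧ (a : Γ) * g = g * (a : Γ) ∧ qHom W g = x := by
  have hA : zpowers a ≤ normalizer (X.subgroupOf (normalizer (W : Set Γ)) : Set (normalizer (W : Set Γ))) := by
    rw [zpowers_le, mem_normalizer_iff]
    intro g
    exact mem_normalizer_iff.1 haX g
  have har' : a ^ r = 1 := Subtype.ext har
  have h := Coprime.map_inf_centralizer (qHom W) hA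
    (by
      rw [Nat.card_zpowers, Nat.card_congr (Subgroup.subgroupOfEquivOfLe hX).toEquiv]
      exact hcop.symm.coprime_dvd_left (orderOf_dvd_of_pow_eq_one har'))
    (Or.inl (Coprime.isSolvable_of_isMulCommutative _))
  have hmem : x ∈ (X.subgroupOf (normalizer (W : Set Γ))).map (qHom W) ⊓
      centralizer (((zpowers a).map (qHom W) : Subgroup _) : Set (Vq W ≃ₗ[ℤ] Vq W)) := by
    refine ⟨hx, mem_centralizer_iff.2 ?_⟩
    rintro _ ⟨b, hb, rfl⟩
    obtain ⟨n, rfl⟩ := mem_zpowers_iff.1 hb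
    rw [map_zpow]
    exact ((show Commute (qHom W a) x from hc).zpow_left n).eq
  rw [← h] at hmem
  obtain ⟨g, hg, rfl⟩ := hmem
  exact ⟨g, mem_subgroupOf.1 hg.1, congrArg Subtype.val (mem_centralizer_iff.1 hg.2 a (mem_zpowers a)), rfl⟩

namespace Sec

variable {q k r : ℕ} {a : Γ} {G W Y N : Subgroup Γ}

theorem Y_norm (h : Sec q k a G W Y N) : Y ≤ normalizer (W : Set Γ) :=
  (h.Y_le.trans (res_le_self N k)).trans h.N_W

theorem W_G (h : Sec q k a G W Y N) : W ≤ G := h.W_le.trans (res_le_self G _)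

theorem rq (h : Sec q k a G W Y N) (hr : r.Prime) (hcop : (Nat.card G).Coprime r) : r ≠ q := by
  haveI := Fact.mk h.hq
  rintro rfl
  obtain ⟨e, he⟩ := IsPGroup.iff_card.1 h.pgroup
  have he0 : e ≠ 0 := fun e0 => h.W_ne (card_eq_one.1 (by rw [he, e0, pow_zero]))
  exact hr.ne_one (Nat.eq_one_of_dvd_coprimes hcop
    ((he ▸ dvd_pow_self r he0).trans (card_dvd_of_le h.W_G)) dvd_rfl)

/-- The image of the residual is the image of `Y`. -/
theorem qImg_res_eq (h : Sec q k a G W Y N) : qImg W (res k N) = qImg W Y := by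
  haveI := Fact.mk h.hq
  refine le_antisymm ?_ (qImg_mono W h.Y_le)
  intro x hx
  obtain ⟨g, hg, rfl⟩ := mem_qImg.1 hx
  obtain ⟨y, hy, hy'⟩ := h.resV g hg
  refine mem_qImg.2 ⟨⟨y, h.Y_norm hy⟩, hy, inv_mul_eq_one.1 ?_⟩
  rw [← map_inv, ← map_mul, qHom_eq_one h.pgroup]
  exact hy'

theorem level (h : Sec q k a G W Y N) (hr : r.Prime) (har : a ^ r = 1) (hcop : (Nat.card G).Coprime r) :
    Level q r k (qHom W ⟨a, h.a_W⟩) (qImg W N) := by
  haveI := Fact.mk h.hq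
  refine
    { hp := h.hq, hr := hr, rp := h.rq hr hcop, elem := elem_vq h.pgroup, nt := ?_, apow := ?_, norm := ?_
      coprime := (hcop.coprime_dvd_left (card_dvd_of_le h.N_le)).coprime_dvd_left (qImg_card_dvd W h.N_W)
      irred := ?_, ne := ?_, bot := ?_ }
  · obtain ⟨w, hw, hwn⟩ := SetLike.not_le_iff_exists.1 fun hle : W ≤ phi W =>
      phi_ne h.W_ne (le_antisymm (phi_le W) hle)
    exact ⟨⟨toQ W ⟨w, hw⟩, 0, fun e => hwn ((toQ_eq_zero h.pgroup _).1 e)⟩⟩
  · rw [← map_pow, show (⟨a, h.a_W⟩ : normalizer (W : Set Γ)) ^ r = 1 from Subtype.ext har, map_one]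
  · refine norm_of_map ?_
    intro x hx
    obtain ⟨g, hg, rfl⟩ := mem_qImg.1 hx
    exact mem_qImg.2 ⟨⟨a, h.a_W⟩ * g * ⟨a, h.a_W⟩⁻¹, (mem_normalizer_iff.1 h.a_N _).1 hg, by simp⟩
  · intro L hLa hLN
    let X : Subgroup Γ :=
      { carrier := {w | ∃ hw : w ∈ W, toQ W ⟨w, hw⟩ ∈ L}
        one_mem' := ⟨one_mem W, by
          rw [show (⟨1, one_mem W⟩ : W) = 1 from rfl, toQ_one]; exact zero_mem L⟩
        mul_mem' := fun {b c} ⟨hb, hb'⟩ ⟨hc, hc'⟩ => ⟨mul_mem hb hc, by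
          rw [show (⟨b * c, mul_mem hb hc⟩ : W) = ⟨b, hb⟩ * ⟨c, hc⟩ from rfl, toQ_mul]
          exact add_mem hb' hc'⟩
        inv_mem' := fun {b} ⟨hb, hb'⟩ => ⟨inv_mem hb, by
          rw [show (⟨b⁻¹, inv_mem hb⟩ : W) = (⟨b, hb⟩ : W)⁻¹ from rfl, toQ_inv]
          exact neg_mem hb'⟩ }
    have hX : ∀ w : W, (w : Γ) ∈ X ↔ toQ W w ∈ L := fun w => ⟨fun ⟨_, h⟩ => h, fun h => ⟨w.2, h⟩⟩
    have hphi : phi W ≤ X := fun f hf => by
      refine (hX ⟨f, phi_le W hf⟩).2 ?_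
      rw [(toQ_eq_zero h.pgroup _).2 hf]; exact zero_mem L
    have hnorm : ∀ (g : Γ) (hg : g ∈ normalizer (W : Set Γ)), (∀ x ∈ L, qHom W ⟨g, hg⟩ x ∈ L) →
        g ∈ normalizer (X : Set Γ) := fun g hg hgL => norm_of_map fun w ⟨hw, hwL⟩ =>
      ⟨(mem_normalizer_iff.1 hg w).1 hw, by
        have := hgL _ hwL
        rwa [qHom_apply] at this⟩
    rcases h.irred X hphi (fun w ⟨hw, _⟩ => hw) (hnorm a h.a_W hLa)
      (fun g hg => hnorm g (h.N_W hg) fun x hx => hLN _ (mem_qImg.2 ⟨_, hg, rfl⟩) x hx) with e | e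
    · left
      refine (AddSubgroup.eq_bot_iff_forall L).2 fun x hx => ?_
      obtain ⟨w, rfl⟩ := toQ_surjective W x
      exact (toQ_eq_zero h.pgroup w).2 (e ▸ (hX w).2 hx)
    · right
      refine eq_top_iff.2 fun x _ => ?_
      obtain ⟨w, rfl⟩ := toQ_surjective W x
      exact (hX w).1 (e.symm ▸ w.2)
  · rw [qImg_res h.N_W, h.qImg_res_eq]
    intro e
    have hle : ⁅W, Y⁆ ≤ phi W := by
      rw [Subgroup.commutator_le]
      intro w hw y hy
      have h1 : qHom W ⟨y, h.Y_norm hy⟩ = 1 := mem_bot.1 (e ▸ mem_qImg.2 ⟨⟨y, h.Y_norm hy⟩, hy, rfl⟩)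
      rw [← commutatorElement_inv]
      exact inv_mem ((qHom_eq_one h.pgroup _).1 h1 w hw)
    exact phi_ne h.W_ne (le_antisymm (phi_le W) (h.gen.symm.le.trans hle))
  · rw [qImg_res h.N_W, eq_bot_iff]
    intro x hx
    obtain ⟨g, hg, rfl⟩ := mem_qImg.1 hx
    exact mem_bot.2 ((qHom_eq_one h.pgroup g).2 (h.resV' g hg))

/-- The last residual of the level is the image of `Y`. -/
theorem res_level (h : Sec q k a G W Y N) : res k (qImg W N) = qImg W Y := by
  rw [qImg_res h.N_W, h.qImg_res_eq]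

/-- The fixed points of the level are the image of the fixed points. -/
theorem fixG_level (h : Sec q k a G W Y N) (har : a ^ r = 1) (hcop : (Nat.card G).Coprime r) :
    fixG (qHom W ⟨a, h.a_W⟩) (qImg W N) = qImg W (fixG a N) := by
  refine le_antisymm ?_ ?_
  · intro x hx
    rw [mem_fixG] at hx
    obtain ⟨g, hg, hga, rfl⟩ := qImg_lift_fixed h.N_W (a := ⟨a, h.a_W⟩) har h.a_N
      (hcop.coprime_dvd_left (card_dvd_of_le h.N_le)) hx.1 hx.2
    exact mem_qImg.2 ⟨g, mem_fixG.2 ⟨hg, hga⟩, rfl⟩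
  · intro x hx
    obtain ⟨g, hg, rfl⟩ := mem_qImg.1 hx
    rw [mem_fixG] at hg
    refine mem_fixG.2 ⟨mem_qImg.2 ⟨g, hg.1, rfl⟩, ?_⟩
    rw [← map_mul, ← map_mul]
    exact congrArg _ (Subtype.ext hg.2)

theorem res_fixG_level (h : Sec q k a G W Y N) (har : a ^ r = 1) (hcop : (Nat.card G).Coprime r) (j : ℕ) :
    res j (fixG (qHom W ⟨a, h.a_W⟩) (qImg W N)) = qImg W (res j (fixG a N)) := by
  rw [h.fixG_level har hcop, qImg_res (inf_le_left.trans h.N_W)]

end Sec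

end Cfsg.Agent.TwoLoss
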