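import Cfsg.Agent.Lib.TwoLoss.SelectBase

/-!
# The section carrying one level less
-/

set_option autoImplicit false
set_option linter.unusedSectionVars false
set_option linter.style.haveILetI false

namespace Cfsg.Agent.TwoLoss

open Subgroup
open scoped commutatorElement Pointwise

universe u

variable {Γ : Type u} [Group Γ] [Finite Γ]

/-- A section `W` with the group `N` acting one residual level lower. -/
structure Sec (q k : ℕ) (a : Γ) (G W Y N : Subgroup Γ) : Prop where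
  hq : q.Prime
  W_ne : W ≠ ⊥
  pgroup : IsPGroup q W
  W_le : W ≤ res (k + 1) G
  a_W : a ∈ normalizer (W : Set Γ)
  a_N : a ∈ normalizer (N : Set Γ)
  N_le : N ≤ G
  N_W : N ≤ normalizer (W : Set Γ)
  N_Y : N ≤ normalizer (Y : Set Γ)
  Y_le : Y ≤ res k N
  Y_mem : ∀ x ∈ res k N, (orderOf x).Coprime q → x ∈ Y
  Y_q : (Nat.card Y).Coprime q
  gen : ⁅W, Y⁆ = W
  class2 : ∀ v ∈ W, ∀ w ∈ W, ⁅v, w⁆ ∈ centralizer (W : Set Γ)
  phiY : ∀ f ∈ phi W, ∀ y ∈ Y, y * f = f * y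
  phi_central : phi W ≤ centralizer (W : Set Γ)
  irred : ∀ X, phi W ≤ X → X ≤ W → a ∈ normalizer (X : Set Γ) → N ≤ normalizer (X : Set Γ) →
    X = phi W ∨ X = W
  resV : ∀ x ∈ res k N, ∃ y ∈ Y, ∀ w ∈ W, ⁅y⁻¹ * x, w⁆ ∈ phi W
  resV' : ∀ x ∈ res (k + 1) N, ∀ w ∈ W, ⁅x, w⁆ ∈ phi W

/-- Some prime is moved by the elements prime to it. -/
theorem exists_moved_prime (T : Subgroup Γ) (hne : res1 T ≠ ⊥) (hnil : Group.IsNilpotent (res1 T)) :
    ∃ (q : ℕ) (_ : Fact q.Prime) (Q K : Subgroup Γ), Parts q (res1 T) Q K ∧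
      ∃ x ∈ T, (orderOf x).Coprime q ∧ x ∉ centralizer (Q : Set Γ) := by
  classical
  set T1 := res1 T with hT1
  obtain ⟨q, hq, hqd⟩ := Nat.exists_prime_and_dvd (mt card_eq_one.1 hne : Nat.card T1 ≠ 1)
  haveI := Fact.mk hq
  obtain ⟨Q, K, hQK⟩ := exists_parts (q := q) T1
  refine ⟨q, inferInstance, Q, K, hQK, ?_⟩
  by_contra hno
  push Not at hno
  have hTn : T ≤ normalizer (T1 : Set Γ) := le_normalizer_res T 1
  have hQT : Q ≤ T := hQK.Q_le.trans (res1_le T)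
  obtain ⟨P, hP⟩ := (hQK.Q_pgroup.comap_of_injective T.subtype T.subtype_injective).exists_le_sylow
  set P' := (P : Subgroup ↥T).map T.subtype with hP'
  have hQP : Q ≤ P' := fun x hx => ⟨⟨x, hQT hx⟩, hP (show (⟨x, hQT hx⟩ : ↥T) ∈ Q.comap T.subtype from hx), rfl⟩
  have hP'T : P' ≤ T := map_subtype_le _
  have hQne : Q ≠ ⊥ := fun e => by
    have hle : T1 ≤ K := by rw [← hQK.sup, e, bot_sup_eq]
    exact hq.ne_one (Nat.eq_one_of_dvd_coprimes hQK.K_card (hqd.trans (card_dvd_of_le hle)) dvd_rfl)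
  haveI : Group.IsNilpotent P' := (P.isPGroup'.map T.subtype).isNilpotent
  have hPQ : P' ≤ normalizer (Q : Set Γ) := fun x hx => (hQK.norm (hTn (hP'T hx))).1
  have hlt := Coprime.commutator_lt_of_isNilpotent hQP hQne hPQ
  set N₁ := T ⊓ centralizer (Q : Set Γ) with hN₁
  have hTN₁ : T ≤ normalizer (N₁ : Set Γ) := fun g hg => norm_of_map fun x hx => by
    refine ⟨Subgroup.mul_mem _ (Subgroup.mul_mem _ hg hx.1) (Subgroup.inv_mem _ hg), mem_centralizer_iff.2 fun y hy => ?_⟩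
    have hgQ := (hQK.norm (hTn hg)).1
    have := mem_centralizer_iff.1 hx.2 _ ((mem_normalizer_iff''.1 hgQ y).1 hy)
    calc y * (g * x * g⁻¹) = g * ((g⁻¹ * y * g) * x) * g⁻¹ := by group
      _ = g * (x * (g⁻¹ * y * g)) * g⁻¹ := by rw [this]
      _ = g * x * g⁻¹ * y := by group
  have hsup := sup_sylow_eq (q := q) inf_le_left hTN₁ (fun x hx hc => ⟨hx, hno x hx hc⟩) P
  have hle : T1 ≤ ⁅Q, P'⁆ ⊔ K := by
    conv_lhs => rw [hT1, ← commutator_res1 T]
    rw [Subgroup.commutator_le]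
    intro x hx t ht
    obtain ⟨u, hu, v, hv, rfl⟩ := hQK.decompose hx
    rw [← hsup, ← hP', Coprime.mem_sup_of_le_normalizer (hP'T.trans hTN₁)] at ht
    obtain ⟨n, hn, π, hπ, rfl⟩ := ht
    have hnπ : n * π ∈ T := mul_mem hn.1 (hP'T hπ)
    have hvK : ⁅v, n * π⁆ ∈ K := by
      rw [show ⁅v, n * π⁆ = v * ((n * π) * v⁻¹ * (n * π)⁻¹) by rw [commutatorElement_def]; group]
      exact mul_mem hv ((mem_normalizer_iff.1 (hQK.norm (hTn hnπ)).2 _).1 (inv_mem hv))
    have hm : ⁅u, π⁆ ∈ Q := by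
      rw [show ⁅u, π⁆ = u * (π * u⁻¹ * π⁻¹) by rw [commutatorElement_def]; group]
      exact mul_mem hu ((mem_normalizer_iff.1 (hPQ hπ) _).1 (inv_mem hu))
    have hnu : u * n = n * u := mem_centralizer_iff.1 hn.2 u hu
    have e : ⁅u, n * π⁆ = ⁅u, π⁆ := by
      calc ⁅u, n * π⁆ = (u * n) * π * u⁻¹ * π⁻¹ * n⁻¹ := by rw [commutatorElement_def]; group
        _ = n * ⁅u, π⁆ * n⁻¹ := by rw [hnu, commutatorElement_def]; group
        _ = ⁅u, π⁆ := by rw [← mem_centralizer_iff.1 hn.2 _ hm, mul_inv_cancel_right]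
    rw [commutatorElement_mul_left_eq_conj_mul, e, hQK.commute u hu _ hvK, mul_inv_cancel_right]
    exact mul_mem (mem_sup_right hvK) (mem_sup_left (commutator_mem_commutator hu hπ))
  refine absurd (fun x hx => ?_ : Q ≤ ⁅Q, P'⁆) hlt.not_ge
  have hKD : K ≤ normalizer ((⁅Q, P'⁆ : Subgroup Γ) : Set Γ) := fun v hv => norm_of_map fun y hy => by
    rw [← hQK.commute y (hlt.le hy) v hv, mul_inv_cancel_right]; exact hy
  have hxm := hle (hQK.Q_le hx)
  rw [Coprime.mem_sup_of_le_normalizer hKD] at hxm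
  obtain ⟨d, hd, v, hv, e⟩ := hxm
  have hvQ : v ∈ Q := by
    rw [show v = d⁻¹ * x by rw [← e]; group]; exact mul_mem (inv_mem (hlt.le hd)) hx
  obtain ⟨j, hj⟩ := IsPGroup.iff_card.1 hQK.Q_pgroup
  have hv1 : v = 1 := orderOf_eq_one_iff.1 (Nat.eq_one_of_dvd_coprimes (hQK.K_card.pow_right j)
    (Subgroup.orderOf_dvd_natCard K hv) (hj ▸ Subgroup.orderOf_dvd_natCard Q hvQ))
  rw [hv1, mul_one] at e
  exact e ▸ hd

/-- The elements of `T` of order prime to `q`, and of `q`-power order, modulo the residual. -/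
theorem exists_quotient_parts (T : Subgroup Γ) {q : ℕ} [Fact q.Prime] :
    ∃ P1 Pq : Subgroup Γ, P1 ≤ T ∧ Pq ≤ T ∧ res1 T ≤ P1 ∧ res1 T ≤ Pq ∧
      (∀ x, x ∈ P1 ↔ x ∈ T ∧ ∃ n : ℕ, n.Coprime q ∧ x ^ n ∈ res1 T) ∧
      (∀ x, x ∈ Pq ↔ x ∈ T ∧ ∃ e : ℕ, x ^ q ^ e ∈ res1 T) ∧
      ∀ x ∈ P1, ∀ y ∈ Pq, ⁅x, y⁆ ∈ res1 T := by
  set M := (res1 T).subgroupOf T with hM
  haveI : M.Normal := (normal_subgroupOf_iff_le_normalizer (res1_le T)).2 (le_normalizer_res T 1)
  haveI hnil : Group.IsNilpotent (↥T ⧸ M) := by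
    refine Subgroup.nilpotent_iff_lowerCentralSeries.2 ⟨Nat.card Γ, ?_⟩
    rw [← map_top_of_surjective _ (QuotientGroup.mk'_surjective M), ← map_lowerCentralSeries, eq_bot_iff]
    rintro _ ⟨x, hx, rfl⟩
    have h : (x : Γ) ∈ T.lowerCentralSeries (Nat.card Γ) := by
      rw [← top_subtype_lowerCentralSeries]; exact ⟨x, hx, rfl⟩
    exact mem_bot.2 ((QuotientGroup.eq_one_iff x).2 h)
  haveI : Group.IsNilpotent (⊤ : Subgroup (↥T ⧸ M)) := Group.isNilpotent_top.2 hnil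
  obtain ⟨Q', K', hQK⟩ := exists_parts (q := q) (⊤ : Subgroup (↥T ⧸ M))
  let P1 := (K'.comap (QuotientGroup.mk' M)).map T.subtype
  let Pq := (Q'.comap (QuotientGroup.mk' M)).map T.subtype
  have hmk : ∀ x : ↥T, (x : Γ) ∈ res1 T → (QuotientGroup.mk' M x) = 1 := fun x hx =>
    (QuotientGroup.eq_one_iff x).2 hx
  refine ⟨P1, Pq, map_subtype_le _, map_subtype_le _,
    fun x hx => ⟨⟨x, res1_le T hx⟩, by rw [SetLike.mem_coe, mem_comap, hmk _ hx]; exact one_mem _, rfl⟩,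
    fun x hx => ⟨⟨x, res1_le T hx⟩, by rw [SetLike.mem_coe, mem_comap, hmk _ hx]; exact one_mem _, rfl⟩,
    fun x => ⟨?_, ?_⟩, fun x => ⟨?_, ?_⟩, ?_⟩
  · rintro ⟨x, hx, rfl⟩
    refine ⟨x.2, Nat.card K', hQK.K_card, ?_⟩
    have h1 : QuotientGroup.mk' M x ^ Nat.card K' = 1 :=
      orderOf_dvd_iff_pow_eq_one.1 (Subgroup.orderOf_dvd_natCard K' hx)
    rw [← map_pow] at h1
    exact mem_subgroupOf.1 ((QuotientGroup.eq_one_iff (N := M) _).1 h1)
  · rintro ⟨hx, n, hn, hxn⟩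
    refine ⟨⟨x, hx⟩, hQK.mem_K _ (mem_top _) (hn.coprime_dvd_left (orderOf_dvd_of_pow_eq_one ?_)), rfl⟩
    rw [← map_pow]; exact hmk _ hxn
  · rintro ⟨x, hx, rfl⟩
    obtain ⟨e, he⟩ := hQK.Q_pgroup ⟨_, hx⟩
    have h1 : QuotientGroup.mk' M x ^ q ^ e = 1 := by simpa using congrArg Subtype.val he
    rw [← map_pow] at h1
    exact ⟨x.2, e, mem_subgroupOf.1 ((QuotientGroup.eq_one_iff (N := M) _).1 h1)⟩
  · rintro ⟨hx, e, hxe⟩
    refine ⟨⟨x, hx⟩, hQK.mem_Q _ (mem_top _) ⟨e, ?_⟩, rfl⟩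
    rw [← map_pow]; exact hmk _ hxe
  · rintro _ ⟨x, hx, rfl⟩ _ ⟨y, hy, rfl⟩
    have h1 : QuotientGroup.mk' M ⁅x, y⁆ = 1 := by
      rw [map_commutatorElement, commutatorElement_eq_one_iff_mul_comm]
      exact (hQK.commute _ hy _ hx).symm
    have h2 := (QuotientGroup.eq_one_iff _).1 h1
    rw [hM, mem_subgroupOf] at h2
    exact h2

/-- A coprime complement commutes with the elements of the normal subgroup normalising it. -/
theorem commute_of_norm {Q Y : Subgroup Γ} (hYQ : Y ≤ normalizer (Q : Set Γ))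
    (hcop : (Nat.card Q).Coprime (Nat.card Y)) {u : Γ} (hu : u ∈ Q) (hun : u ∈ normalizer (Y : Set Γ)) {y : Γ}
    (hy : y ∈ Y) : u * y = y * u := by
  have h1 : ⁅u, y⁆ ∈ Y := by
    rw [commutatorElement_def]; exact mul_mem ((mem_normalizer_iff.1 hun y).1 hy) (inv_mem hy)
  have h2 : ⁅u, y⁆ ∈ Q := by
    rw [show ⁅u, y⁆ = u * (y * u⁻¹ * y⁻¹) by rw [commutatorElement_def]; group]
    exact mul_mem hu ((mem_normalizer_iff.1 (hYQ hy) _).1 (inv_mem hu))
  exact commutatorElement_eq_one_iff_mul_comm.1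
    (mem_bot.1 ((Coprime.disjoint_of_coprime hcop).le_bot ⟨h2, h1⟩))

/-- A product of commuting elements of coprime orders has order prime to `q` only if its `q`-part is trivial. -/
theorem eq_of_mul_coprime {q : ℕ} {u y : Γ} (hq : q.Prime) (hu : ∃ e : ℕ, u ^ q ^ e = 1) (hy : (orderOf y).Coprime q)
    (huy : u * y = y * u) (hc : (orderOf (u * y)).Coprime q) : u = 1 := by
  obtain ⟨e, he⟩ := hu
  have hd := orderOf_dvd_of_pow_eq_one he
  have h1 : (orderOf u).Coprime (orderOf y) := (Nat.Coprime.pow_left e hy.symm).coprime_dvd_left hd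
  rw [(show Commute u y from huy).orderOf_mul_eq_mul_orderOf_of_coprime h1] at hc
  exact orderOf_eq_one_iff.1 (Nat.eq_one_of_dvd_coprimes (Nat.Coprime.pow_right e
    (hc.coprime_dvd_left (dvd_mul_right _ _))) dvd_rfl hd)

/-- An invariant complement of the `q`-part in the elements prime to `q` modulo the residual. -/
theorem exists_complement {q : ℕ} [Fact q.Prime] {a : Γ} {r : ℕ} (har : a ^ r = 1) {P1 Q : Subgroup Γ}
    (hQP : Q ≤ P1) (hQp : IsPGroup q Q) (haQ : a ∈ normalizer (Q : Set Γ)) (haP : a ∈ normalizer (P1 : Set Γ))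
    (hP1Q : P1 ≤ normalizer (Q : Set Γ)) (hqel : ∀ x ∈ P1, (∃ e : ℕ, x ^ q ^ e = 1) → x ∈ Q)
    (hr : (Nat.card Q).Coprime r) :
    ∃ Y, Y ≤ P1 ∧ (Nat.card Y).Coprime q ∧ Q ⊔ Y = P1 ∧ a ∈ normalizer (Y : Set Γ) := by
  have hq : q.Prime := Fact.out
  haveI : (Q.subgroupOf P1).Normal := (normal_subgroupOf_iff_le_normalizer hQP).2 hP1Q
  obtain ⟨P, hP⟩ := (hQp.comap_of_injective P1.subtype P1.subtype_injective).exists_le_sylow
  have hPeq : (P : Subgroup ↥P1) = Q.subgroupOf P1 := le_antisymm (fun x hx => by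
    obtain ⟨e, he⟩ := P.isPGroup' ⟨x, hx⟩
    refine hqel _ x.2 ⟨e, ?_⟩
    simpa using congrArg (fun z : (P : Subgroup ↥P1) => ((z : ↥P1) : Γ)) he) hP
  have hidx : ¬ q ∣ (Q.subgroupOf P1).index := hPeq ▸ P.not_dvd_index
  obtain ⟨j, hj⟩ := IsPGroup.iff_card.1 hQp
  have hc : Nat.card (Q.subgroupOf P1) = q ^ j := (Nat.card_congr (subgroupOfEquivOfLe hQP).toEquiv).trans hj
  obtain ⟨B, hB⟩ := exists_right_complement'_of_coprime (N := Q.subgroupOf P1)
    (hc ▸ Nat.Coprime.pow_left j (hq.coprime_iff_not_dvd.2 hidx))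
  set Y₀ := B.map P1.subtype
  have hY₀c : (Nat.card Y₀).Coprime q := by
    rw [Subgroup.card_subtype, ← hB.symm.index_eq_card]
    exact (hq.coprime_iff_not_dvd.2 hidx).symm
  have hY₀P : Y₀ ≤ P1 := map_subtype_le _
  have hsup : Q ⊔ Y₀ = P1 := by
    have h := congrArg (Subgroup.map P1.subtype) hB.sup_eq_top
    rw [Subgroup.map_sup, ← MonoidHom.range_eq_map, range_subtype, subgroupOf,
      map_comap_eq_self (by rw [range_subtype]; exact hQP)] at h
    exact h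
  have hA : zpowers a ≤ normalizer (Q : Set Γ) := zpowers_le.2 haQ
  have hQY : (Nat.card Q).Coprime (Nat.card Y₀) := hj ▸ Nat.Coprime.pow_left j hY₀c.symm
  have hsQ : Group.IsSolvable Q := Coprime.isSolvable_of_isPGroup hQp
  obtain ⟨k, hk, hinv⟩ := Coprime.exists_conj_invariant (A := zpowers a) (K := Q) (H := Y₀) hA
    (by rw [Nat.card_zpowers]; exact hr.symm.coprime_dvd_left (orderOf_dvd_of_pow_eq_one har)) (Or.inr hsQ)
    (fun b hb => by
      have hbQ : MulAut.conj b • Q = Q := Coprime.conj_smul_eq_self_iff.2 (hA hb)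
      have hbP : MulAut.conj b • P1 = P1 := Coprime.conj_smul_eq_self_iff.2 (zpowers_le.2 haP hb)
      have hle : MulAut.conj b • Y₀ ≤ P1 := hbP ▸ Subgroup.pointwise_smul_le_pointwise_smul_iff.mpr hY₀P
      obtain ⟨x, hx, hxe⟩ := Coprime.exists_conj_eq_of_sup_eq (N := Q) (H := Y₀) (K := MulAut.conj b • Y₀)
        (hY₀P.trans hP1Q) (hle.trans hP1Q)
        (by conv_rhs => rw [← hbQ, ← Subgroup.smul_sup, hsup, hbP]
            rw [hsup]) hQY (by rw [Coprime.card_conj_smul]; exact hQY) (Or.inl hsQ)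
      exact ⟨x, hx, hxe.symm⟩)
  have hkP : MulAut.conj k • P1 = P1 := Coprime.conj_smul_eq_self_iff.2 (le_normalizer (hQP hk))
  have hkQ : MulAut.conj k • Q = Q := Coprime.conj_smul_eq_self_iff.2 (le_normalizer hk)
  refine ⟨MulAut.conj k • Y₀, hkP ▸ Subgroup.pointwise_smul_le_pointwise_smul_iff.mpr hY₀P,
    by rw [Coprime.card_conj_smul]; exact hY₀c, ?_, hinv (mem_zpowers a)⟩
  conv_lhs => rw [← hkQ, ← Subgroup.smul_sup, hsup, hkP]

/-- Residuals of a product with a normal subgroup. -/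
theorem res_mod {G N Q : Subgroup Γ} (hGQ : G ≤ normalizer (Q : Set Γ)) (hNG : N ≤ G)
    (hcov : ∀ g ∈ G, ∃ u ∈ Q, u⁻¹ * g ∈ N) (k : ℕ) : ∀ y ∈ res k G, ∃ x ∈ res k N, x⁻¹ * y ∈ Q := by
  set M := normalizer (Q : Set Γ)
  let f := QuotientGroup.mk' (Q.subgroupOf M)
  have hNM : N ≤ M := hNG.trans hGQ
  have hmap : ∀ H : Subgroup Γ, H ≤ M → (H.subgroupOf M).map M.subtype = H := fun H hH => by
    rw [subgroupOf, map_comap_eq_self (by rw [range_subtype]; exact hH)]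
  have himg : (G.subgroupOf M).map f = (N.subgroupOf M).map f := by
    refine le_antisymm ?_ (map_mono fun x hx => hNG hx)
    rintro _ ⟨g, hg, rfl⟩
    obtain ⟨u, hu, hun⟩ := hcov _ hg
    refine ⟨⟨u⁻¹ * g, mul_mem (le_normalizer (inv_mem hu)) g.2⟩, hun, ?_⟩
    refine (QuotientGroup.eq).2 (mem_subgroupOf.2 ?_)
    show (u⁻¹ * (g : Γ))⁻¹ * (g : Γ) ∈ Q
    rw [show (u⁻¹ * (g : Γ))⁻¹ * (g : Γ) = (g : Γ)⁻¹ * u * g by group]
    exact (mem_normalizer_iff''.1 g.2 u).1 hu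
  intro y hy
  rw [← hmap G hGQ, ← map_res] at hy
  obtain ⟨y, hy, rfl⟩ := hy
  have hfy : f y ∈ res k ((N.subgroupOf M).map f) := by rw [← himg, ← map_res]; exact ⟨y, hy, rfl⟩
  rw [← map_res] at hfy
  obtain ⟨x, hx, hxy⟩ := hfy
  refine ⟨(x : Γ), ?_, mem_subgroupOf.1 ((QuotientGroup.eq).1 hxy)⟩
  rw [← hmap N hNM, ← map_res]
  exact ⟨x, hx, rfl⟩

/-- A subgroup centralised by `Y` lies in the Frattini subgroup of `W = ⁅W, Y⁆`. -/
theorem fixed_classes {q : ℕ} [Fact q.Prime] {W X Y : Subgroup Γ} (hWp : IsPGroup q W) (hXW : X ≤ W)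
    (hYW' : Y ≤ normalizer (W : Set Γ)) (hcWY : (Nat.card Y).Coprime (Nat.card W)) (hgen : ⁅W, Y⁆ = W)
    (hc : Y ≤ centralizer (X : Set Γ)) : X ≤ phi W := by
  intro x hx
  let f := QuotientGroup.mk' ((phi W).subgroupOf (normalizer (phi W : Set Γ)))
  set M := normalizer (phi W : Set Γ)
  have hWM : W ≤ M := fun w hw => phi_norm (le_normalizer hw)
  have hYM : Y ≤ M := fun y hy => phi_norm (hYW' hy)
  set V := (W.subgroupOf M).map f
  set A := (Y.subgroupOf M).map f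
  haveI : IsMulCommutative V := ⟨⟨fun s t => by
    obtain ⟨_, ⟨s, hs, rfl⟩⟩ := s
    obtain ⟨_, ⟨t, ht, rfl⟩⟩ := t
    refine Subtype.ext ?_
    show f s * f t = f t * f s
    rw [← commutatorElement_eq_one_iff_mul_comm, ← map_commutatorElement]
    exact (QuotientGroup.eq_one_iff _).2
      (mem_subgroupOf.2 (commutator_le_phi hWp (commutator_mem_commutator hs ht)))⟩⟩
  have hAV : A ≤ normalizer (V : Set _) := by
    rintro _ ⟨y, hy, rfl⟩
    refine norm_of_map ?_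
    rintro _ ⟨w, hw, rfl⟩
    exact ⟨y * w * y⁻¹, (mem_normalizer_iff.1 (hYW' hy) _).1 hw, by simp [f]⟩
  have hcs : ∀ H : Subgroup Γ, H ≤ M → Nat.card ((H.subgroupOf M).map f) ∣ Nat.card H := fun H hH =>
    (card_map_dvd _ _).trans (Nat.card_congr (subgroupOfEquivOfLe hH).toEquiv).dvd
  have hsub : ∀ H : Subgroup Γ, H ≤ M → (H.subgroupOf M).map M.subtype = H := fun H hH => by
    rw [subgroupOf, map_comap_eq_self (by rw [range_subtype]; exact hH)]
  have hVA : ⁅V, A⁆ = V := by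
    rw [← map_commutator]
    congr 1
    refine map_injective M.subtype_injective ?_
    rw [map_commutator, hsub W hWM, hsub Y hYM, hgen]
  have hm : f ⟨x, hWM (hXW hx)⟩ ∈ (V ⊓ centralizer (A : Set _)) ⊓ ⁅V, A⁆ := by
    have h1 : f ⟨x, hWM (hXW hx)⟩ ∈ V := ⟨⟨x, hWM (hXW hx)⟩, hXW hx, rfl⟩
    refine ⟨⟨h1, mem_centralizer_iff.2 ?_⟩, by rw [hVA]; exact h1⟩
    rintro _ ⟨y, hy, rfl⟩
    rw [← map_mul, ← map_mul]
    exact congrArg f (Subtype.ext (mem_centralizer_iff.1 (hc hy) x hx).symm)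
  rw [Coprime.inf_centralizer_inf_commutator hAV
    ((hcWY.coprime_dvd_left (hcs Y hYM)).coprime_dvd_right (hcs W hWM)), mem_bot] at hm
  exact mem_subgroupOf.1 ((QuotientGroup.eq_one_iff _).1 hm)

/-- **The section.** -/
theorem exists_sec {r : ℕ} {a : Γ} {G : Subgroup Γ} (haG : a ∈ normalizer (G : Set Γ)) (har : a ^ r = 1)
    (hcop : (Nat.card G).Coprime r) {k : ℕ} (hne : res (k + 1) G ≠ ⊥) (hbot : res (k + 2) G = ⊥) :
    ∃ q W Y N, Sec q k a G W Y N := by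
  classical
  set T := res k G with hT
  have hT1 : res (k + 1) G = res1 T := rfl
  set T1 := res1 T
  obtain ⟨q, hqf, Q, K, hQK, hmv⟩ := exists_moved_prime T hne ((res_succ_eq_bot_iff G (k + 1)).1 hbot)
  have hq : q.Prime := Fact.out
  obtain ⟨P1, Pq, hP1T, hPqT, hT1P, hT1q, hP1, hPq, hcomm⟩ := exists_quotient_parts (q := q) T
  have hTnorm : ∀ g, g ∈ normalizer (G : Set Γ) → g ∈ normalizer (T : Set Γ) ∧ g ∈ normalizer (T1 : Set Γ) :=
    fun g hg => ⟨res_norm hg k, hT1 ▸ res_norm hg (k + 1)⟩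
  have hQn : ∀ g, g ∈ normalizer (G : Set Γ) → g ∈ normalizer (Q : Set Γ) := fun g hg =>
    (hQK.norm (hTnorm g hg).2).1
  have hP1n : ∀ g, g ∈ normalizer (G : Set Γ) → g ∈ normalizer (P1 : Set Γ) := fun g hg => norm_of_map fun x hx => by
    obtain ⟨hxT, n, hn, hxn⟩ := (hP1 x).1 hx
    exact (hP1 _).2 ⟨(mem_normalizer_iff.1 (hTnorm g hg).1 x).1 hxT, n, hn,
      by rw [conj_pow]; exact (mem_normalizer_iff.1 (hTnorm g hg).2 _).1 hxn⟩
  have hQT : Q ≤ T := hQK.Q_le.trans (res1_le T)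
  have hTG : T ≤ G := res_le_self G k
  have hQP : Q ≤ P1 := hQK.Q_le.trans hT1P
  have hqel : ∀ x ∈ P1, (∃ e : ℕ, x ^ q ^ e = 1) → x ∈ Q := by
    intro x hx he
    obtain ⟨hxT, n, hn, hxn⟩ := (hP1 x).1 hx
    obtain ⟨e, he⟩ := he
    refine hQK.mem_Q x ?_ ⟨e, he⟩
    obtain ⟨j, hj⟩ := exists_pow_eq_self_of_coprime ((Nat.Coprime.pow_right e hn).coprime_dvd_right
      (orderOf_dvd_of_pow_eq_one he))
    rw [← hj]; exact pow_mem hxn j
  have hGn : ∀ g ∈ G, g ∈ normalizer (G : Set Γ) := fun g hg => le_normalizer hg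
  obtain ⟨Y, hYP, hYq, hQY, haY⟩ := exists_complement har hQP hQK.Q_pgroup (hQn a haG) (hP1n a haG)
    (fun x hx => hQn x (hGn x (hTG (hP1T hx)))) hqel (hcop.coprime_dvd_left (card_dvd_of_le (hQT.trans hTG)))
  obtain ⟨j, hj⟩ := IsPGroup.iff_card.1 hQK.Q_pgroup
  have hQYc : (Nat.card Q).Coprime (Nat.card Y) := hj ▸ Nat.Coprime.pow_left j hYq.symm
  have hYnQ : Y ≤ normalizer (Q : Set Γ) := fun y hy => hQn y (hGn y (hTG (hP1T (hYP hy))))
  have hQpow : ∀ u ∈ Q, ∃ e : ℕ, u ^ q ^ e = 1 := fun u hu => by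
    obtain ⟨e, he⟩ := hQK.Q_pgroup ⟨u, hu⟩
    exact ⟨e, by simpa using congrArg Subtype.val he⟩
  have hdec : ∀ x ∈ P1, ∃ u ∈ Q, ∃ y ∈ Y, x = u * y := fun x hx => by
    rw [← hQY, Coprime.mem_sup_of_le_normalizer hYnQ] at hx
    obtain ⟨u, hu, y, hy, e⟩ := hx
    exact ⟨u, hu, y, hy, e.symm⟩
  set N := G ⊓ normalizer (Y : Set Γ) with hN
  have haN : a ∈ normalizer (N : Set Γ) := norm_of_map fun x hx => by
    refine ⟨(mem_normalizer_iff.1 haG x).1 hx.1, ?_⟩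
    exact Subgroup.mul_mem _ (Subgroup.mul_mem _ haY hx.2) (Subgroup.inv_mem _ haY)
  have hNn : ∀ x ∈ N, x ∈ normalizer (G : Set Γ) := fun x hx => hGn x hx.1
  have hcov : ∀ g ∈ G, ∃ u ∈ Q, u⁻¹ * g ∈ N := by
    intro g hg
    have hgQ : MulAut.conj g • Q = Q := Coprime.conj_smul_eq_self_iff.2 (hQn g (hGn g hg))
    have hgP : MulAut.conj g • P1 = P1 := Coprime.conj_smul_eq_self_iff.2 (hP1n g (hGn g hg))
    have hle : MulAut.conj g • Y ≤ P1 := hgP ▸ Subgroup.pointwise_smul_le_pointwise_smul_iff.mpr hYP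
    obtain ⟨u, hu, hue⟩ := Coprime.exists_conj_eq_of_sup_eq (N := Q) (H := Y) (K := MulAut.conj g • Y) hYnQ
      (fun x hx => hQn x (hGn x (hTG (hP1T (hle hx)))))
      (by conv_rhs => rw [← hgQ, ← Subgroup.smul_sup, hQY, hgP]
          rw [hQY]) hQYc (by rw [Coprime.card_conj_smul]; exact hQYc)
      (Or.inl (Coprime.isSolvable_of_isPGroup hQK.Q_pgroup))
    refine ⟨u, hu, Subgroup.mul_mem _ (Subgroup.inv_mem _ (hTG (hQT hu))) hg, Coprime.conj_smul_eq_self_iff.1 ?_⟩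
    rw [Coprime.conj_smul_mul, ← hue, Coprime.conj_inv_smul_smul]
  have hNT : res k N ≤ T := res_mono inf_le_left k
  have hYmem : ∀ x ∈ res k N, (orderOf x).Coprime q → x ∈ Y := by
    intro x hx hxc
    have hxN : x ∈ N := res_le_self N k hx
    obtain ⟨u, hu, y, hy, rfl⟩ := hdec x ((hP1 x).2 ⟨hNT hx, orderOf x, hxc, by
      rw [pow_orderOf_eq_one]; exact one_mem _⟩)
    have hun : u ∈ normalizer (Y : Set Γ) := by
      rw [show u = u * y * y⁻¹ by group]; exact mul_mem hxN.2 (le_normalizer (inv_mem hy))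
    rw [eq_of_mul_coprime hq (hQpow u hu) (hYq.coprime_dvd_left (Subgroup.orderOf_dvd_natCard Y hy))
      (commute_of_norm hYnQ hQYc hu hun hy) hxc, one_mul]
    exact hy
  have hYN : Y ≤ N := fun y hy => ⟨hTG (hP1T (hYP hy)), le_normalizer hy⟩
  have hYres : Y ≤ res k N := by
    intro y hy
    obtain ⟨x, hx, hxy⟩ := res_mod (fun g hg => hQn g (hGn g hg)) inf_le_left hcov k y (hP1T (hYP hy))
    set u := x⁻¹ * y with hu
    have hun : u ∈ normalizer (Y : Set Γ) := mul_mem (inv_mem (res_le_self N k hx).2) (le_normalizer hy)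
    have huy : u * y = y * u := commute_of_norm hYnQ hQYc hxy hun hy
    have hxe : x = u⁻¹ * y := by
      have h1 : x = y * u⁻¹ := by rw [hu]; group
      rw [h1]; exact ((show Commute y u from huy.symm).inv_right).eq
    obtain ⟨m, hm, hm1⟩ := exists_coprime_pow hq x
    have huc : Commute u⁻¹ y := (show Commute u y from huy).inv_left
    have hym : y ^ m = y := by
      have hco : (orderOf u⁻¹).Coprime (orderOf y) := by
        rw [orderOf_inv]
        exact (hQYc.coprime_dvd_left (Subgroup.orderOf_dvd_natCard Q hxy)).coprime_dvd_right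
          (Subgroup.orderOf_dvd_natCard Y hy)
      have h1 : m ≡ 1 [MOD orderOf y] := hm1 _ (by
        rw [hxe, huc.orderOf_mul_eq_mul_orderOf_of_coprime hco]; exact dvd_mul_left _ _)
        (hYq.coprime_dvd_left (Subgroup.orderOf_dvd_natCard Y hy))
      rw [pow_eq_pow_iff_modEq.2 h1, pow_one]
    have hxm : x ^ m = u⁻¹ ^ m * y := by rw [hxe, huc.mul_pow, hym]
    have h1 : (u⁻¹ ^ m) = 1 := eq_of_mul_coprime hq (hQpow _ (pow_mem (inv_mem hxy) m))
      (hYq.coprime_dvd_left (Subgroup.orderOf_dvd_natCard Y hy)) (huc.pow_left m).eq (hxm ▸ hm)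
    rw [h1, one_mul] at hxm
    rw [← hxm]; exact pow_mem hx m
  have hYQ : ¬ Y ≤ centralizer (Q : Set Γ) := by
    intro hc
    obtain ⟨x, hxT, hxc, hxn⟩ := hmv
    obtain ⟨u, hu, y, hy, rfl⟩ := hdec x ((hP1 x).2 ⟨hxT, orderOf x, hxc, by
      rw [pow_orderOf_eq_one]; exact one_mem _⟩)
    apply hxn
    rw [eq_of_mul_coprime hq (hQpow u hu) (hYq.coprime_dvd_left (Subgroup.orderOf_dvd_natCard Y hy))
      (mem_centralizer_iff.1 (hc hy) u hu) hxc, one_mul]
    exact hc hy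
  -- the minimal invariant subgroup
  let S : Set (Subgroup Γ) := {W | W ≤ Q ∧ a ∈ normalizer (W : Set Γ) ∧ N ≤ normalizer (W : Set Γ) ∧
    ¬ Y ≤ centralizer (W : Set Γ)}
  obtain ⟨W, ⟨hWQ, haW, hNW, hYW⟩, hmin⟩ := (Set.toFinite S).exists_minimal
    ⟨Q, le_rfl, hQn a haG, fun x hx => hQn x (hNn x hx), hYQ⟩
  have hsmall : ∀ X, X ≤ W → a ∈ normalizer (X : Set Γ) → N ≤ normalizer (X : Set Γ) → X ≠ W →
      Y ≤ centralizer (X : Set Γ) := by
    intro X hX haX hNX hne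
    by_contra hYX
    exact hne (le_antisymm hX (hmin (y := X) ⟨hX.trans hWQ, haX, hNX, hYX⟩ hX))
  have hWp : IsPGroup q W := hQK.Q_pgroup.to_le hWQ
  obtain ⟨i, hi⟩ := IsPGroup.iff_card.1 hWp
  have hYW' : Y ≤ normalizer (W : Set Γ) := hYN.trans hNW
  have hcWY : (Nat.card Y).Coprime (Nat.card W) := hi ▸ Nat.Coprime.pow_right i hYq
  have hsW : Group.IsSolvable W := Coprime.isSolvable_of_isPGroup hWp
  have hgen : ⁅W, Y⁆ = W := by
    by_contra hne
    have hcn : ∀ g, g ∈ normalizer (W : Set Γ) → g ∈ normalizer (Y : Set Γ) →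
        g ∈ normalizer ((⁅W, Y⁆ : Subgroup Γ) : Set Γ) := fun g hgW hgY => by
      rw [← Coprime.conj_smul_eq_self_iff, Coprime.conj_smul_commutator, Coprime.conj_smul_eq_self_iff.2 hgW,
        Coprime.conj_smul_eq_self_iff.2 hgY]
    have hc := hsmall _ (Coprime.commutator_le_of_le_normalizer hYW') (hcn a haW haY)
      (fun x hx => hcn x (hNW hx) hx.2) hne
    exact hYW (Coprime.le_centralizer_of_commutator_commutator_eq_bot hYW' hcWY (Or.inr hsW)
      (Coprime.commutator_eq_bot_iff_le_centralizer'.2 hc))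
  have hWne : W ≠ ⊥ := fun e => hYW (fun y _ => mem_centralizer_iff.2 fun g hg => by
    rw [e, SetLike.mem_coe, mem_bot] at hg
    rw [hg, one_mul, mul_one])
  have hphiY : Y ≤ centralizer (phi W : Set Γ) := hsmall _ (phi_le W) (phi_norm haW)
    (fun x hx => phi_norm (hNW hx)) (phi_ne hWne)
  have hphic : phi W ≤ centralizer (W : Set Γ) := by
    rw [← Subgroup.commutator_eq_bot_iff_le_centralizer, Subgroup.commutator_comm]
    conv_lhs => arg 1; rw [← hgen]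
    refine Subgroup.commutator_commutator_eq_bot_of_rotate ?_ ?_
    · rw [Subgroup.commutator_eq_bot_iff_le_centralizer.2 hphiY, commutator_bot_left]
    · have h1 : ⁅phi W, W⁆ ≤ phi W :=
        le_normalizer_iff_commutator_le_left.1 fun w hw => phi_norm (le_normalizer hw)
      rw [eq_bot_iff, ← Coprime.commutator_eq_bot_iff_le_centralizer'.2 hphiY]
      exact commutator_mono h1 le_rfl
  -- the `q`-elements modulo the residual act trivially
  set Mq := Pq ⊓ N with hMq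
  have hMqN : Mq ≤ N := inf_le_right
  have hMqW : Mq ≤ normalizer (W : Set Γ) := hMqN.trans hNW
  have hMqn : ∀ g, g ∈ normalizer (G : Set Γ) → g ∈ normalizer (N : Set Γ) → g ∈ normalizer (Mq : Set Γ) :=
    fun g hg hgN => norm_of_map fun x hx => by
      obtain ⟨hxT, e, hxe⟩ := (hPq x).1 hx.1
      exact ⟨(hPq _).2 ⟨(mem_normalizer_iff.1 (hTnorm g hg).1 x).1 hxT, e,
        by rw [conj_pow]; exact (mem_normalizer_iff.1 (hTnorm g hg).2 _).1 hxe⟩,
        (mem_normalizer_iff.1 hgN x).1 hx.2⟩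
  have htriv : ∀ z ∈ Mq, ∀ w ∈ W, ⁅w, z⁆ ∈ phi W := by
    set N₁ := Mq ⊓ centralizer (W : Set Γ)
    have hN₁n : Mq ≤ normalizer (N₁ : Set Γ) := fun g hg => norm_of_map fun x hx => by
      refine ⟨Subgroup.mul_mem _ (Subgroup.mul_mem _ hg hx.1) (Subgroup.inv_mem _ hg), mem_centralizer_iff.2 fun y hy => ?_⟩
      have := mem_centralizer_iff.1 hx.2 _ ((mem_normalizer_iff''.1 (hMqW hg) y).1 hy)
      calc y * (g * x * g⁻¹) = g * ((g⁻¹ * y * g) * x) * g⁻¹ := by group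
        _ = g * (x * (g⁻¹ * y * g)) * g⁻¹ := by rw [this]
        _ = g * x * g⁻¹ * y := by group
    obtain ⟨P⟩ : Nonempty (Sylow q ↥Mq) := inferInstance
    have hsup := sup_sylow_eq (q := q) inf_le_left hN₁n (fun x hx hxc => ⟨hx, by
      obtain ⟨hxT, e, hxe⟩ := (hPq x).1 hx.1
      obtain ⟨j, hj⟩ := exists_pow_eq_self_of_coprime (Nat.Coprime.pow_left e hxc.symm)
      have hx1 : x ∈ T1 := hj ▸ pow_mem hxe j
      exact mem_centralizer_iff.2 fun w hw => hQK.commute w (hWQ hw) x (hQK.mem_K x hx1 hxc)⟩) P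
    set S := (P : Subgroup ↥Mq).map Mq.subtype with hS
    have hSM : S ≤ Mq := map_subtype_le _
    set D := ⁅W, Mq⁆ ⊔ phi W with hD
    have hDW : D ≤ W := sup_le (Coprime.commutator_le_of_le_normalizer hMqW) (phi_le W)
    have hDn : ∀ g, g ∈ normalizer (W : Set Γ) → g ∈ normalizer (Mq : Set Γ) → g ∈ normalizer (D : Set Γ) :=
      fun g hgW hgM => by
        rw [← Coprime.conj_smul_eq_self_iff, hD, Subgroup.smul_sup, Coprime.conj_smul_commutator,
          Coprime.conj_smul_eq_self_iff.2 hgW, Coprime.conj_smul_eq_self_iff.2 hgM,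
          Coprime.conj_smul_eq_self_iff.2 (phi_norm hgW)]
    by_contra hno
    push Not at hno
    obtain ⟨z, hz, w, hw, hzw⟩ := hno
    have hDphi : D ≠ phi W := fun e => hzw (e ▸ mem_sup_left (commutator_mem_commutator hw hz))
    by_cases hDe : D = W
    · have hgenM : ⁅W, Mq⁆ = W := phi_nongen (Coprime.commutator_le_of_le_normalizer hMqW) hDe
      have hle : ⁅W, Mq⁆ ≤ ⁅W, S⁆ := by
        rw [Subgroup.commutator_le]
        intro v hv t ht
        rw [← hsup, Coprime.mem_sup_of_le_normalizer (hSM.trans hN₁n)] at ht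
        obtain ⟨n, hn, π, hπ, rfl⟩ := ht
        have hm : ⁅v, π⁆ ∈ W := by
          rw [show ⁅v, π⁆ = v * (π * v⁻¹ * π⁻¹) by rw [commutatorElement_def]; group]
          exact mul_mem hv ((mem_normalizer_iff.1 (hMqW (hSM hπ)) _).1 (inv_mem hv))
        have hnu : v * n = n * v := mem_centralizer_iff.1 hn.2 v hv
        have e : ⁅v, n * π⁆ = ⁅v, π⁆ := by
          calc ⁅v, n * π⁆ = (v * n) * π * v⁻¹ * π⁻¹ * n⁻¹ := by rw [commutatorElement_def]; group
            _ = n * ⁅v, π⁆ * n⁻¹ := by rw [hnu, commutatorElement_def]; group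
            _ = ⁅v, π⁆ := by rw [← mem_centralizer_iff.1 hn.2 _ hm, mul_inv_cancel_right]
        rw [e]; exact commutator_mem_commutator hv hπ
      have hSW : S ≤ normalizer (W : Set Γ) := hSM.trans hMqW
      haveI : Group.IsNilpotent ↥(W ⊔ S) :=
        ((hWp.to_sup_of_normal_left' (P.isPGroup'.map _) hSW) : IsPGroup q ↥(W ⊔ S)).isNilpotent
      have hlt := Coprime.commutator_lt_of_isNilpotent (Y := W ⊔ S) le_sup_left hWne (sup_le le_normalizer hSW)
      exact hlt.not_ge ((hgenM.symm.le.trans hle).trans (commutator_mono le_rfl le_sup_right))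
    · rcases (show D = phi W ∨ D = W by
        by_contra hno'
        push Not at hno'
        have hc := hsmall D hDW (hDn a haW (hMqn a haG haN))
          (fun x hx => hDn x (hNW hx) (hMqn x (hNn x hx) (le_normalizer hx))) hDe
        exact hno'.1 (le_antisymm (fixed_classes hWp hDW hYW' hcWY hgen hc) le_sup_right)) with h1 | h1
      · exact hDphi h1
      · exact hDe h1
  have hflip : ∀ z ∈ Mq, ∀ w ∈ W, ⁅z, w⁆ ∈ phi W := fun z hz w hw => by
    rw [← commutatorElement_inv]; exact inv_mem (htriv z hz w hw)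
  refine ⟨q, W, Y, N,
    { hq := hq, W_ne := hWne, pgroup := hWp, W_le := hWQ.trans hQK.Q_le, a_W := haW, a_N := haN
      N_le := inf_le_left, N_W := hNW, N_Y := inf_le_right, Y_le := hYres, Y_mem := hYmem, Y_q := hYq, gen := hgen
      class2 := fun v hv w hw => hphic (commutator_le_phi hWp (commutator_mem_commutator hv hw))
      phiY := fun f hf y hy => (mem_centralizer_iff.1 (hphiY hy) f hf).symm
      phi_central := hphic, irred := ?_, resV := ?_, resV' := ?_ }⟩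
  · intro X hXl hXW haX hNX
    by_contra hno
    push Not at hno
    have hc := hsmall X hXW haX hNX hno.2
    exact hno.1 (le_antisymm (fixed_classes hWp hXW hYW' hcWY hgen hc) hXl)
  · intro x hx
    obtain ⟨m, hm, hm1⟩ := exists_coprime_pow hq x
    refine ⟨x ^ m, hYmem _ (pow_mem hx m) hm, fun w hw => hflip _ ?_ w hw⟩
    have hz : (x ^ m)⁻¹ * x ∈ res k N := mul_mem (inv_mem (pow_mem hx m)) hx
    refine ⟨(hPq _).2 ⟨hNT hz, ?_⟩, res_le_self N k hz⟩
    obtain ⟨e, n, hn, he⟩ := Nat.exists_eq_pow_mul_and_not_dvd (orderOf_pos x).ne' q hq.ne_one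
    refine ⟨e, ?_⟩
    have h1 : m ≡ 1 [MOD n] := hm1 n (he ▸ dvd_mul_left _ _) (hq.coprime_iff_not_dvd.2 hn).symm
    have h2 : x ^ (m * q ^ e) = x ^ (1 * q ^ e) :=
      pow_eq_pow_iff_modEq.2 (by rw [he, mul_comm (q ^ e) n]; exact h1.mul_right' _)
    rw [((Commute.refl x).pow_left m).inv_left.mul_pow, inv_pow, ← pow_mul, h2, one_mul, inv_mul_cancel]
    exact one_mem _
  · intro x hx w hw
    exact hflip x ⟨hT1q (res_mono (inf_le_left : N ≤ G) (k + 1) hx), res_le_self N (k + 1) hx⟩ w hw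

end Cfsg.Agent.TwoLoss
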