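import Cfsg.Agent.Lib.TwoLoss.Res
import Cfsg.Agent.Lib.Coprime.PGroup
import Cfsg.Agent.Lib.Coprime.SchurZassenhaus

/-!
# Parts of a nilpotent group, and the Frattini subgroup of a `q`-group
-/

set_option autoImplicit false
set_option linter.unusedSectionVars false
set_option linter.style.haveILetI false

namespace Cfsg.Agent.TwoLoss

open Subgroup
open scoped commutatorElement

universe u

variable {Γ : Type u} [Group Γ] [Finite Γ]

theorem norm_of_map {H : Subgroup Γ} {g : Γ} (h : ∀ x ∈ H, g * x * g⁻¹ ∈ H) : g ∈ normalizer (H : Set Γ) :=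
  mem_normalizer_iff_map_conj_eq.2 (eq_of_le_of_card_ge (by rintro _ ⟨x, hx, rfl⟩; exact h x hx)
    (card_map_of_injective (MulAut.conj g).injective).ge)

/-- In a nilpotent group a coprime subgroup normalising another one centralises it. -/
theorem nilpotent_coprime_commute {N X R : Subgroup Γ} [Group.IsNilpotent N] (hX : X ≤ N) (hR : R ≤ N)
    (hRX : R ≤ normalizer (X : Set Γ)) (hcop : (Nat.card R).Coprime (Nat.card X))
    (hsol : Group.IsSolvable R ∨ Group.IsSolvable X) : ∀ x ∈ X, ∀ y ∈ R, x * y = y * x := by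
  obtain ⟨n, hn⟩ := (isNilpotent_iff_lowerCentralSeries N).1 inferInstance
  have h2 := Coprime.commutator_commutator_eq hRX hcop hsol
  have hle : ∀ m, ⁅X, R⁆ ≤ N.lowerCentralSeries m := by
    intro m
    induction m with
    | zero => exact (Coprime.commutator_le_of_le_normalizer hRX).trans hX
    | succ m ih => rw [← h2, Subgroup.lowerCentralSeries_succ]; exact commutator_mono ih hR
  intro x hx y hy
  have hm := (hle n) (commutator_mem_commutator hx hy)
  rw [hn, mem_bot] at hm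
  exact commutatorElement_eq_one_iff_mul_comm.1 hm

/-- A subgroup containing all elements of order prime to `q` and a Sylow `q`-subgroup is everything. -/
theorem sup_sylow_eq {q : ℕ} [Fact q.Prime] {T N : Subgroup Γ} (hN : N ≤ T) (hTN : T ≤ normalizer (N : Set Γ))
    (hpart : ∀ x ∈ T, (orderOf x).Coprime q → x ∈ N) (P : Sylow q ↥T) :
    N ⊔ (P : Subgroup ↥T).map T.subtype = T := by
  haveI : (N.subgroupOf T).Normal := (normal_subgroupOf_iff_le_normalizer hN).2 hTN
  have hq : q.Prime := Fact.out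
  have hquot : IsPGroup q (↥T ⧸ N.subgroupOf T) := by
    intro x
    obtain ⟨g, rfl⟩ := QuotientGroup.mk_surjective x
    obtain ⟨e, m, hm, he⟩ := Nat.exists_eq_pow_mul_and_not_dvd (orderOf_pos g).ne' q hq.ne_one
    refine ⟨e, ?_⟩
    rw [← QuotientGroup.mk_pow, QuotientGroup.eq_one_iff, mem_subgroupOf]
    refine hpart _ (g ^ q ^ e).2 ?_
    rw [orderOf_coe, orderOf_pow_of_dvd (pow_ne_zero _ hq.ne_zero) (he ▸ dvd_mul_right _ _), he,
      Nat.mul_div_cancel_left _ (pow_pos hq.pos _)]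
    exact (hq.coprime_iff_not_dvd.2 hm).symm
  obtain ⟨e, he⟩ := IsPGroup.iff_card.1 hquot
  have htop : (P : Subgroup ↥T) ⊔ N.subgroupOf T = ⊤ := by
    obtain ⟨j, -, hj⟩ := (Nat.dvd_prime_pow hq).1
      (((index_dvd_of_le (le_sup_right : N.subgroupOf T ≤ (P : Subgroup ↥T) ⊔ N.subgroupOf T)).trans
        ((N.subgroupOf T).index_eq_card ▸ he.dvd)))
    rw [← index_eq_one, hj]
    by_contra hne
    refine P.not_dvd_index (dvd_trans ?_ (index_dvd_of_le (le_sup_left (b := N.subgroupOf T))))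
    rw [hj]
    exact dvd_pow_self q fun h0 => hne (by rw [h0, pow_zero])
  refine le_antisymm (sup_le hN (map_subtype_le _)) ?_
  have h := congrArg (Subgroup.map T.subtype) htop
  rw [Subgroup.map_sup, ← MonoidHom.range_eq_map, range_subtype, subgroupOf, map_comap_eq_self
    (by rw [range_subtype]; exact hN), sup_comm] at h
  exact h.ge

/-- The two parts of a nilpotent group. -/
structure Parts (q : ℕ) (N Q K : Subgroup Γ) : Prop where
  Q_le : Q ≤ N
  K_le : K ≤ N
  Q_pgroup : IsPGroup q Q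
  K_card : (Nat.card K).Coprime q
  sup : Q ⊔ K = N
  commute : ∀ x ∈ Q, ∀ y ∈ K, x * y = y * x
  mem_Q : ∀ x ∈ N, (∃ e : ℕ, x ^ q ^ e = 1) → x ∈ Q
  mem_K : ∀ x ∈ N, (orderOf x).Coprime q → x ∈ K

theorem Parts.decompose {q : ℕ} {N Q K : Subgroup Γ} (h : Parts q N Q K) {x : Γ} (hx : x ∈ N) :
    ∃ u ∈ Q, ∃ v ∈ K, x = u * v := by
  have hK : K ≤ normalizer (Q : Set Γ) := fun v hv => norm_of_map fun y hy => by
    rw [← h.commute y hy v hv, mul_inv_cancel_right]; exact hy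
  rw [← h.sup, Coprime.mem_sup_of_le_normalizer hK] at hx
  obtain ⟨u, hu, v, hv, e⟩ := hx
  exact ⟨u, hu, v, hv, e.symm⟩

theorem Parts.norm {q : ℕ} [Fact q.Prime] {N Q K : Subgroup Γ} (h : Parts q N Q K) {g : Γ}
    (hg : g ∈ normalizer (N : Set Γ)) : g ∈ normalizer (Q : Set Γ) ∧ g ∈ normalizer (K : Set Γ) := by
  refine ⟨norm_of_map fun x hx => h.mem_Q _ ((mem_normalizer_iff.1 hg x).1 (h.Q_le hx)) ?_,
    norm_of_map fun x hx => h.mem_K _ ((mem_normalizer_iff.1 hg x).1 (h.K_le hx)) ?_⟩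
  · obtain ⟨e, he⟩ := h.Q_pgroup ⟨x, hx⟩
    have he' : x ^ q ^ e = 1 := by simpa using congrArg Subtype.val he
    exact ⟨e, by rw [conj_pow, he', mul_one, mul_inv_cancel]⟩
  · rw [show g * x * g⁻¹ = MulAut.conj g x from rfl, MulEquiv.orderOf_eq]
    exact h.K_card.coprime_dvd_left (Subgroup.orderOf_dvd_natCard K hx)

theorem exists_parts (N : Subgroup Γ) [Group.IsNilpotent N] {q : ℕ} [Fact q.Prime] :
    ∃ Q K, Parts q N Q K := by
  have hq : q.Prime := Fact.out
  obtain ⟨P⟩ : Nonempty (Sylow q ↥N) := inferInstance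
  haveI hPn : (P : Subgroup ↥N).Normal :=
    P.normal_of_normalizerCondition Group.normalizerCondition_of_isNilpotent
  have hidx : ¬ q ∣ (P : Subgroup ↥N).index := P.not_dvd_index
  obtain ⟨e, he⟩ := IsPGroup.iff_card.1 P.isPGroup'
  have hcop : (Nat.card P).Coprime (P : Subgroup ↥N).index :=
    he ▸ Nat.Coprime.pow_left e (hq.coprime_iff_not_dvd.2 hidx)
  obtain ⟨B, hB⟩ := exists_right_complement'_of_coprime hcop
  set Q := (P : Subgroup ↥N).map N.subtype
  set K := B.map N.subtype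
  have hKc : (Nat.card K).Coprime q := by
    rw [Subgroup.card_subtype, ← hB.symm.index_eq_card]
    exact (hq.coprime_iff_not_dvd.2 hidx).symm
  have hQcard : Nat.card Q = q ^ e := by rw [Subgroup.card_subtype]; exact he
  have hKQ : K ≤ normalizer (Q : Set Γ) := by
    rintro _ ⟨y, hy, rfl⟩
    refine norm_of_map ?_
    rintro _ ⟨x, hx, rfl⟩
    exact ⟨y * x * y⁻¹, hPn.conj_mem x hx y, rfl⟩
  have hcomm : ∀ x ∈ Q, ∀ y ∈ K, x * y = y * x :=
    nilpotent_coprime_commute (map_subtype_le _) (map_subtype_le _) hKQ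
      (hQcard ▸ Nat.Coprime.pow_right e hKc) (Or.inr (Coprime.isSolvable_of_isPGroup (P.isPGroup'.map _)))
  have hsup : Q ⊔ K = N := by
    rw [← Subgroup.map_sup, hB.sup_eq_top, ← MonoidHom.range_eq_map, range_subtype]
  have hK : K ≤ normalizer (Q : Set Γ) := hKQ
  have hdec : ∀ x ∈ N, ∃ u ∈ Q, ∃ v ∈ K, x = u * v := fun x hx => by
    rw [← hsup, Coprime.mem_sup_of_le_normalizer hK] at hx
    obtain ⟨u, hu, v, hv, e⟩ := hx
    exact ⟨u, hu, v, hv, e.symm⟩
  refine ⟨Q, K, map_subtype_le _, map_subtype_le _, P.isPGroup'.map _, hKc, hsup, hcomm, ?_, ?_⟩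
  · rintro x hx ⟨j, hj⟩
    obtain ⟨u, hu, v, hv, rfl⟩ := hdec x hx
    rw [(show Commute u v from hcomm u hu v hv).mul_pow] at hj
    have h1 : v ^ q ^ j ∈ Q := by
      rw [eq_inv_of_mul_eq_one_right hj]; exact inv_mem (pow_mem hu _)
    have h2 : v ^ q ^ j = 1 := orderOf_eq_one_iff.1 (Nat.eq_one_of_dvd_coprimes
      (hQcard ▸ Nat.Coprime.pow_left e hKc.symm) (Subgroup.orderOf_dvd_natCard Q h1)
      (Subgroup.orderOf_dvd_natCard K (pow_mem hv _)))
    have h3 : v = 1 := orderOf_eq_one_iff.1 (Nat.eq_one_of_dvd_coprimes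
      ((hKc.coprime_dvd_left (Subgroup.orderOf_dvd_natCard K hv)).pow_right j) dvd_rfl
      (orderOf_dvd_of_pow_eq_one h2))
    rw [h3, mul_one]; exact hu
  · intro x hx hxc
    obtain ⟨u, hu, v, hv, rfl⟩ := hdec x hx
    have hc : Commute u v := hcomm u hu v hv
    have huv : (orderOf u).Coprime (orderOf v) :=
      ((hQcard ▸ Nat.Coprime.pow_left e hKc.symm : (Nat.card Q).Coprime (Nat.card K)).coprime_dvd_left
        (Subgroup.orderOf_dvd_natCard Q hu)).coprime_dvd_right (Subgroup.orderOf_dvd_natCard K hv)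
    rw [hc.orderOf_mul_eq_mul_orderOf_of_coprime huv] at hxc
    have h3 : u = 1 := orderOf_eq_one_iff.1 (Nat.eq_one_of_dvd_coprimes
      (Nat.Coprime.pow_right e (hxc.coprime_dvd_left (dvd_mul_right _ _))) dvd_rfl
      (hQcard ▸ Subgroup.orderOf_dvd_natCard Q hu))
    rw [h3, one_mul]; exact hv

/-- The Frattini subgroup. -/
noncomputable def phi (W : Subgroup Γ) : Subgroup Γ := (frattini ↥W).map W.subtype

theorem phi_le (W : Subgroup Γ) : phi W ≤ W := map_subtype_le _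

theorem phi_nongen {X W : Subgroup Γ} (hX : X ≤ W) (h : X ⊔ phi W = W) : X = W := by
  refine le_antisymm hX (subgroupOf_eq_top.mp (frattini_nongenerating (eq_top_iff.mpr ?_)))
  apply map_subtype_le_map_subtype.mp
  rw [Subgroup.map_sup, map_subgroupOf_eq_of_le hX, show (frattini ↥W).map W.subtype = phi W from rfl, h]
  exact map_subtype_le _

theorem phi_ne {W : Subgroup Γ} (hW : W ≠ ⊥) : phi W ≠ W := fun e =>
  hW (phi_nongen bot_le (by rw [bot_sup_eq, e])).symm

theorem phi_norm {W : Subgroup Γ} {g : Γ} (hg : g ∈ normalizer (W : Set Γ)) : g ∈ normalizer (phi W : Set Γ) := by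
  refine norm_of_map ?_
  rintro _ ⟨x, hx, rfl⟩
  exact ⟨Subgroup.normalizerMonoidHom W ⟨g, hg⟩ x,
    (characteristic_iff_le_comap.1 frattini_characteristic _) hx, rfl⟩

theorem pow_mem_phi {q : ℕ} [Fact q.Prime] {W : Subgroup Γ} (hW : IsPGroup q W) {w : Γ} (hw : w ∈ W) :
    w ^ q ∈ phi W := by
  haveI : Group.IsNilpotent W := hW.isNilpotent
  refine ⟨⟨w, hw⟩ ^ q, ?_, rfl⟩
  show _ ∈ Order.radical (Subgroup ↥W)
  rw [Order.radical, mem_iInf]
  intro M
  rw [mem_iInf]
  intro hM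
  haveI hMn := NormalizerCondition.normal_of_coatom M Group.normalizerCondition_of_isNilpotent hM
  by_contra hnot
  set x : ↥W := ⟨w, hw⟩ with hx
  have htop : M ⊔ zpowers (x ^ q) = ⊤ := hM.2 _ (lt_of_le_of_ne le_sup_left fun e =>
    hnot (e ▸ mem_sup_right (mem_zpowers _)))
  have hxm : x ∈ M ⊔ zpowers (x ^ q) := htop ▸ mem_top _
  rw [mem_sup_of_normal_left] at hxm
  obtain ⟨m, hm, y, hy, hmy⟩ := hxm
  obtain ⟨j, rfl⟩ := mem_zpowers_iff.1 hy
  have h1 : (QuotientGroup.mk x : ↥W ⧸ M) ^ ((1 : ℤ) - q * j) = 1 := by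
    rw [zpow_sub, zpow_one, zpow_mul, zpow_natCast, ← QuotientGroup.mk_pow, ← QuotientGroup.mk_zpow]
    conv_lhs => arg 1; rw [← hmy]
    rw [QuotientGroup.mk_mul, (QuotientGroup.eq_one_iff m).2 hm, one_mul, mul_inv_cancel]
  obtain ⟨e, he⟩ := hW x
  have h2 : (QuotientGroup.mk x : ↥W ⧸ M) ^ (q : ℤ) ^ e = 1 := by
    rw [← Nat.cast_pow, zpow_natCast, ← QuotientGroup.mk_pow, he, QuotientGroup.mk_one]
  have hcop : IsCoprime ((1 : ℤ) - q * j) ((q : ℤ) ^ e) := IsCoprime.pow_right ⟨1, j, by ring⟩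
  obtain ⟨s, t, hst⟩ := hcop
  have h3 : (QuotientGroup.mk x : ↥W ⧸ M) = 1 := by
    rw [← zpow_one (QuotientGroup.mk x : ↥W ⧸ M), ← hst, zpow_add, mul_comm s, zpow_mul, h1, mul_comm t, zpow_mul,
      h2, one_zpow, one_zpow, one_mul]
  exact hnot (pow_mem ((QuotientGroup.eq_one_iff x).1 h3) q)

theorem commutator_le_phi {q : ℕ} [Fact q.Prime] {W : Subgroup Γ} (hW : IsPGroup q W) :
    ⁅W, W⁆ ≤ phi W := by
  haveI : Group.IsNilpotent W := hW.isNilpotent
  rw [← map_subtype_commutator]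
  exact map_mono (Coprime.commutator_le_frattini ↥W)

end Cfsg.Agent.TwoLoss
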