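import Cfsg.Agent.Lib.TwoLoss.Multiplicity

/-!
# Monomial actions on a Weyl basis

`ρ` is a basis of `End M` indexed by an abelian group `A` and multiplicative up to scalars. A group acting
freely on `A \ 0`, compatibly with conjugation, has a commutant of dimension `1 + (|A| - 1) / |Γ|`.
-/

set_option autoImplicit false
set_option linter.unusedSectionVars false

namespace Cfsg.Agent.TwoLoss

open Finset Module

universe uk um ua

variable {k : Type uk} [Field k] {M : Type um} [AddCommGroup M] [Module k M] [FiniteDimensional k M]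
variable {A : Type ua} [AddCommGroup A]

/-- A projective basis of `End M`. -/
structure IsWeyl (ρ : A → Module.End k M) : Prop where
  zero : ρ 0 = 1
  mul : ∀ v w, ∃ c : k, c ≠ 0 ∧ ρ v * ρ w = c • ρ (v + w)
  indep : LinearIndependent k ρ
  span : Submodule.span k (Set.range ρ) = ⊤

/-- Conjugation by units compatible with an action on the labels. -/
structure Twisted (ρ : A → Module.End k M) {Γ : Type*} [Group Γ] (U : Γ →* (Module.End k M)ˣ)
    (τ : Γ →* (A ≃ₗ[ℤ] A)) : Prop where
  conj : ∀ g v, ∃ c : k, (U g : Module.End k M) * ρ v * ↑(U g)⁻¹ = c • ρ (τ g v)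
  free : ∀ g, g ≠ 1 → ∀ v, τ g v = v → v = 0

/-- Conjugation by a unit, as a linear map. -/
noncomputable def cj (U : (Module.End k M)ˣ) : Module.End k M →ₗ[k] Module.End k M :=
  LinearMap.mulLeft k (U : Module.End k M) ∘ₗ LinearMap.mulRight k ((U⁻¹ : (Module.End k M)ˣ) : Module.End k M)

theorem cj_apply (U : (Module.End k M)ˣ) (X : Module.End k M) :
    cj U X = (U : Module.End k M) * X * ↑U⁻¹ := by
  simp [cj, mul_assoc]

theorem cj_mul (U U' : (Module.End k M)ˣ) (X : Module.End k M) : cj (U * U') X = cj U (cj U' X) := by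
  simp [cj_apply, mul_inv_rev, mul_assoc]

/-- The endomorphisms commuting with the image of `U`. -/
def commutant {Γ : Type*} [Group Γ] (U : Γ →* (Module.End k M)ˣ) : Submodule k (Module.End k M) where
  carrier := {X | ∀ g, (U g : Module.End k M) * X = X * U g}
  add_mem' := fun {X Y} hX hY g => by rw [mul_add, add_mul, hX g, hY g]
  zero_mem' := fun g => by rw [mul_zero, zero_mul]
  smul_mem' := fun c X hX g => by rw [mul_smul_comm, smul_mul_assoc, hX g]

theorem mem_commutant {Γ : Type*} [Group Γ] {U : Γ →* (Module.End k M)ˣ} {X : Module.End k M} :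
    X ∈ commutant U ↔ ∀ g, cj (U g) X = X := by
  refine forall_congr' fun g => ?_
  rw [cj_apply, Units.mul_inv_eq_iff_eq_mul]

namespace IsWeyl

variable {ρ : A → Module.End k M}

/-- The basis. -/
noncomputable def basis (hW : IsWeyl ρ) : Module.Basis A k (Module.End k M) :=
  Module.Basis.mk hW.indep hW.span.ge

theorem basis_apply (hW : IsWeyl ρ) (v : A) : hW.basis v = ρ v := by simp [basis]

theorem card_eq (hW : IsWeyl ρ) [Fintype A] : finrank k M ^ 2 = Fintype.card A := by
  rw [← Module.finrank_eq_card_basis hW.basis, Module.finrank_linearMap, sq]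

variable {Γ : Type*} [Group Γ] {U : Γ →* (Module.End k M)ˣ} {τ : Γ →* (A ≃ₗ[ℤ] A)}

theorem coord_cj (hW : IsWeyl ρ) (hT : Twisted ρ U τ) (g : Γ) (v w : A) (h : τ g v ≠ w) :
    hW.basis.repr (cj (U g) (ρ v)) w = 0 := by
  classical
  obtain ⟨c, hc⟩ := hT.conj g v
  rw [cj_apply, hc, map_smul, ← hW.basis_apply, Module.Basis.repr_self, Finsupp.smul_apply,
    Finsupp.single_eq_of_ne (Ne.symm h), smul_zero]

/-- The commutant: scalars and norms, with the dimension formula. -/
theorem commutant_spec (hW : IsWeyl ρ) [Fintype A] [Fintype Γ] (hT : Twisted ρ U τ) :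
    Fintype.card Γ * finrank k (commutant U) + 1 = Fintype.card A + Fintype.card Γ ∧
    ∀ X ∈ commutant U, ∃ (c : k) (Y : Module.End k M), X = c • 1 + ∑ g : Γ, cj (U g) Y := by
  classical
  letI : MulAction Γ A := MulAction.compHom A τ
  have hsmul : ∀ (g : Γ) (v : A), g • v = τ g v := fun _ _ => rfl
  let O := {o : MulAction.orbitRel.Quotient Γ A // o ≠ Quotient.mk'' (0 : A)}
  let rep : O → A := fun o => o.1.out
  have hrep0 : ∀ o : O, rep o ≠ 0 := fun o h => o.2 (by rw [← Quotient.out_eq' o.1]; exact congrArg _ h)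
  have hrepinj : ∀ (o o' : O) (g : Γ), τ g (rep o') = rep o → o' = o ∧ g = 1 := by
    intro o o' g h
    have e : o' = o := Subtype.ext <| by
      rw [← Quotient.out_eq' o'.1, ← Quotient.out_eq' o.1]
      refine (Quotient.sound' ?_).symm
      exact ⟨g, h⟩
    subst e
    exact ⟨rfl, by_contra fun hg => hrep0 o' (hT.free g hg _ h)⟩
  let Φ : k × (O → k) →ₗ[k] Module.End k M :=
    (LinearMap.fst k k (O → k)).smulRight (1 : Module.End k M) +
      (∑ g : Γ, cj (U g)) ∘ₗ (Fintype.linearCombination k (fun o => ρ (rep o))) ∘ₗ LinearMap.snd k k (O → k)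
  have hΦ : ∀ c x, Φ (c, x) = c • 1 + ∑ g : Γ, cj (U g) (∑ o, x o • ρ (rep o)) := fun c x => by
    simp [Φ, Fintype.linearCombination_apply]
  have hmem : ∀ y, Φ y ∈ commutant U := by
    rintro ⟨c, x⟩
    rw [mem_commutant]
    intro h
    rw [hΦ, map_add, map_smul, map_sum]
    congr 1
    · rw [cj_apply, mul_one, Units.mul_inv]
    · simp only [← cj_mul, ← map_mul]
      exact Fintype.sum_equiv (Equiv.mulLeft h) _ _ fun g => rfl
  have hcoord : ∀ c x (o : O), hW.basis.repr (Φ (c, x)) (rep o) = x o := by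
    intro c x o
    have h1 : hW.basis.repr (1 : Module.End k M) (rep o) = 0 := by
      rw [← hW.zero, ← hW.basis_apply, Module.Basis.repr_self, Finsupp.single_eq_of_ne (hrep0 o)]
    simp only [hΦ, map_add, map_smul, map_sum, Finsupp.add_apply, Finsupp.smul_apply,
      Finsupp.coe_finsetSum, Finset.sum_apply, h1, smul_zero, zero_add]
    rw [Finset.sum_eq_single (1 : Γ) ?_ (by simp), Finset.sum_eq_single o ?_ (by simp)]
    · simp [cj_apply, ← hW.basis_apply]
    · intro o' _ ho'
      rw [hW.coord_cj hT 1 _ _ fun h => ho' (hrepinj o o' 1 h).1, smul_zero]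
    · intro g _ hg
      exact Finset.sum_eq_zero fun o' _ => by
        rw [hW.coord_cj hT g _ _ fun h => hg (hrepinj o o' g h).2, smul_zero]
  have hcoord0 : ∀ c x, hW.basis.repr (Φ (c, x)) 0 = c := by
    intro c x
    have h1 : hW.basis.repr (1 : Module.End k M) 0 = 1 := by
      rw [← hW.zero, ← hW.basis_apply, Module.Basis.repr_self, Finsupp.single_eq_same]
    simp only [hΦ, map_add, map_smul, map_sum, Finsupp.add_apply, Finsupp.smul_apply,
      Finsupp.coe_finsetSum, Finset.sum_apply, h1, smul_eq_mul, mul_one, add_eq_left]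
    refine Finset.sum_eq_zero fun g _ => Finset.sum_eq_zero fun o _ => ?_
    rw [hW.coord_cj hT g _ _ fun h => hrep0 o ((τ g).map_eq_zero_iff.1 h), mul_zero]
  have hsurj : ∀ X ∈ commutant U, ∃ y, Φ y = X := by
    intro X hX
    refine ⟨(hW.basis.repr X 0, fun o => hW.basis.repr X (rep o)), ?_⟩
    set D := X - Φ (hW.basis.repr X 0, fun o => hW.basis.repr X (rep o)) with hD
    have hDm : ∀ g, cj (U g) D = D := mem_commutant.1 (sub_mem hX (hmem _))
    have hD0 : hW.basis.repr D 0 = 0 := by simp [hD, hcoord0]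
    have hDo : ∀ o, hW.basis.repr D (rep o) = 0 := fun o => by simp [hD, hcoord]
    suffices D = 0 by rw [hD, sub_eq_zero] at this; exact this.symm
    apply hW.basis.repr.injective
    rw [map_zero]
    ext v
    by_cases hv : v = 0
    · rw [hv]; exact hD0
    have ho : (Quotient.mk'' v : MulAction.orbitRel.Quotient Γ A) ≠ Quotient.mk'' (0 : A) := by
      intro h
      obtain ⟨g, hg⟩ := Quotient.eq''.1 h
      exact hv (hg.symm.trans (map_zero (τ g)))
    obtain ⟨g, hg⟩ : ∃ g : Γ, τ g (rep ⟨_, ho⟩) = v := by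
      obtain ⟨g, hg⟩ := Quotient.mk_out' (s₁ := MulAction.orbitRel Γ A) v
      exact ⟨g⁻¹, by rw [← hsmul, inv_smul_eq_iff]; exact hg.symm⟩
    rw [← hDm g]
    conv_lhs => rw [← hW.basis.sum_repr D]
    simp only [map_sum, map_smul, Finsupp.coe_finsetSum, Finset.sum_apply, Finsupp.smul_apply,
      hW.basis_apply, Finsupp.zero_apply]
    refine Finset.sum_eq_zero fun w _ => ?_
    by_cases hw : τ g w = v
    · rw [show w = rep ⟨_, ho⟩ from (τ g).injective (hw.trans hg.symm), hDo, zero_smul]
    · rw [hW.coord_cj hT g w v hw, smul_zero]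
  have hinj : Function.Injective Φ := by
    rintro ⟨c, x⟩ ⟨c', x'⟩ h
    refine Prod.ext ?_ (funext fun o => ?_)
    · simpa [hcoord0] using congrArg (fun X => hW.basis.repr X 0) h
    · simpa [hcoord] using congrArg (fun X => hW.basis.repr X (rep o)) h
  refine ⟨?_, fun X hX => ?_⟩
  · have hrange : LinearMap.range Φ = commutant U := by
      ext X
      exact ⟨fun ⟨y, hy⟩ => hy ▸ hmem y, fun hX => hsurj X hX⟩
    have hfin : finrank k (commutant U) = 1 + Fintype.card O := by
      rw [← hrange, LinearMap.finrank_range_of_inj hinj, Module.finrank_prod,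
        Module.finrank_fintype_fun_eq_card, Module.finrank_self]
    let f : Option (Γ × O) → A := fun x => x.elim 0 fun y => τ y.1 (rep y.2)
    have hf : Function.Bijective f := by
      constructor
      · rintro (_ | ⟨g, o⟩) (_ | ⟨g', o'⟩) h
        · rfl
        · exact absurd ((τ g').map_eq_zero_iff.1 h.symm) (hrep0 o')
        · exact absurd ((τ g).map_eq_zero_iff.1 h) (hrep0 o)
        · have h2 : τ (g'⁻¹ * g) (rep o) = rep o' := by
            rw [← hsmul, mul_smul, inv_smul_eq_iff]; exact h
          obtain ⟨e1, e2⟩ := hrepinj o' o _ h2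
          rw [e1, inv_mul_eq_one.1 e2]
      · intro v
        by_cases hv : v = 0
        · exact ⟨none, hv.symm⟩
        · have ho : (Quotient.mk'' v : MulAction.orbitRel.Quotient Γ A) ≠ Quotient.mk'' (0 : A) := by
            intro h
            obtain ⟨g, hg⟩ := Quotient.eq''.1 h
            exact hv (hg.symm.trans (map_zero (τ g)))
          obtain ⟨g, hg⟩ := Quotient.mk_out' (s₁ := MulAction.orbitRel Γ A) v
          exact ⟨some (g⁻¹, ⟨_, ho⟩), show g⁻¹ • rep ⟨_, ho⟩ = v from inv_smul_eq_iff.2 hg.symm⟩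
    have hcard := Fintype.card_of_bijective hf
    rw [Fintype.card_option, Fintype.card_prod] at hcard
    rw [hfin, mul_add, mul_one, ← hcard]
    ring
  · obtain ⟨⟨c, x⟩, h⟩ := hsurj X hX
    exact ⟨c, _, by rw [← h, hΦ]⟩

/-- The centre of the algebra. -/
theorem scalar_of_commute (hW : IsWeyl ρ) (X : Module.End k M) (h : ∀ v, X * ρ v = ρ v * X) :
    ∃ c : k, X = c • 1 := by
  have h1 : X ∈ Subalgebra.center k (Module.End k M) := by
    rw [Subalgebra.mem_center_iff]
    intro Y
    have hY : Y ∈ Submodule.span k (Set.range ρ) := by rw [hW.span]; trivial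
    induction hY using Submodule.span_induction with
    | mem x hx => obtain ⟨v, rfl⟩ := hx; exact (h v).symm
    | zero => rw [zero_mul, mul_zero]
    | add x y _ _ hx hy => rw [add_mul, mul_add, hx, hy]
    | smul c x _ hx => rw [smul_mul_assoc, mul_smul_comm, hx]
  rw [Algebra.IsCentral.center_eq_bot] at h1
  obtain ⟨c, hc⟩ := Algebra.mem_bot.1 h1
  exact ⟨c, by rw [← hc, Algebra.algebraMap_eq_smul_one]⟩

end IsWeyl

end Cfsg.Agent.TwoLoss
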